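import Mathlib
import Cfsg.Agent.H1.GL2
import Cfsg.Agent.L0.Fus.Subn

set_option autoImplicit false
set_option linter.style.haveILetI false
set_option linter.unusedVariables false

/-! Groups whose Sylow 2-intersections are central. -/

namespace Cfsg.Agent.H1

open Cfsg Subgroup

universe u

theorem s3183_a {G : Type u} [Group G] [Finite G]
    (hCI : ∀ S T : Sylow 2 G, S ≠ T → ∃ U : Sylow 2 G, ∀ d ∈ (S : Subgroup G) ⊓ (T : Subgroup G), ∀ u ∈ (U : Subgroup G), d * u = u * d)
    (S : Sylow 2 G) {x : G} (hx : x ∈ (S : Subgroup G)) (P' : Subgroup G) (hP' : IsPGroup 2 P') (hPx : P' ≤ centralizer ({x} : Set G)) :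
    Nat.card P' ≤ Nat.card ↥((S : Subgroup G) ⊓ centralizer ({x} : Set G)) := by
  haveI : Fact (Nat.Prime 2) := ⟨Nat.prime_two⟩
  by_contra hcon
  push Not at hcon
  obtain ⟨C, hCdef⟩ : ∃ C, C = (S : Subgroup G) ⊓ centralizer ({x} : Set G) := ⟨_, rfl⟩
  rw [← hCdef] at hcon
  have hCS : C ≤ (S : Subgroup G) := by rw [hCdef]; exact inf_le_left
  have hCH : C ≤ centralizer ({x} : Set G) := by rw [hCdef]; exact inf_le_right
  have hC2 : IsPGroup 2 C := S.2.to_le hCS
  -- a Sylow subgroup of the centralizer containing C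
  have hC2' : IsPGroup 2 (C.subgroupOf (centralizer ({x} : Set G))) := hC2.of_equiv (subgroupOfEquivOfLe hCH).symm
  have hP2' : IsPGroup 2 (P'.subgroupOf (centralizer ({x} : Set G))) := hP'.of_equiv (subgroupOfEquivOfLe hPx).symm
  obtain ⟨Q, hQ⟩ := hC2'.exists_le_sylow
  obtain ⟨Q', hQ'⟩ := hP2'.exists_le_sylow
  have hcard : Nat.card P' ≤ Nat.card (Q : Subgroup (centralizer ({x} : Set G))) := by
    calc Nat.card P' = Nat.card (P'.subgroupOf (centralizer ({x} : Set G))) := (Nat.card_congr (subgroupOfEquivOfLe hPx).toEquiv).symm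
      _ ≤ Nat.card (Q' : Subgroup (centralizer ({x} : Set G))) := Subgroup.card_le_of_le hQ'
      _ = Nat.card (Q : Subgroup (centralizer ({x} : Set G))) := Nat.card_congr (Sylow.equiv Q' Q).toEquiv
  obtain ⟨P, hPdef⟩ : ∃ P, P = (Q : Subgroup (centralizer ({x} : Set G))).map (centralizer ({x} : Set G)).subtype := ⟨_, rfl⟩
  have hPcard : Nat.card P = Nat.card (Q : Subgroup (centralizer ({x} : Set G))) := by
    rw [hPdef]
    exact (Nat.card_congr ((Q : Subgroup (centralizer ({x} : Set G))).equivMapOfInjective _ (subtype_injective _)).toEquiv).symm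
  have hPH : P ≤ centralizer ({x} : Set G) := by rw [hPdef]; exact map_subtype_le _
  have hCP : C ≤ P := by
    intro c hc
    rw [hPdef]
    exact ⟨⟨c, hCH hc⟩, hQ hc, rfl⟩
  have hP2 : IsPGroup 2 P := by rw [hPdef]; exact Q.2.map _
  obtain ⟨T, hT⟩ := hP2.exists_le_sylow
  have hST : S ≠ T := by
    rintro rfl
    have h1 : P ≤ C := by rw [hCdef]; exact le_inf hT hPH
    have := Subgroup.card_le_of_le h1
    omega
  obtain ⟨U, hU⟩ := hCI S T hST
  have hUC : ∀ c ∈ C, ∀ u ∈ (U : Subgroup G), c * u = u * c := fun c hc => hU c (mem_inf.mpr ⟨hCS hc, hT (hCP hc)⟩)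
  have hUN : (U : Subgroup G) ≤ normalizer (C : Set G) := by
    intro u hu
    rw [mem_normalizer_iff]
    intro c
    constructor
    · intro hc
      rw [← hUC c hc u hu, mul_inv_cancel_right]; exact hc
    · intro hc
      have h1 := hUC _ hc u hu
      have h2 : c = u * c * u⁻¹ := by
        have h3 : u * c = u * (u * c * u⁻¹) := by rw [← h1]; group
        exact mul_left_cancel h3
      rw [h2]; exact hc
  have hxC : x ∈ C := by
    rw [hCdef]
    refine mem_inf.mpr ⟨hx, ?_⟩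
    rw [mem_centralizer_iff]
    intro y hy
    rw [Set.mem_singleton_iff.mp hy]
  -- N_S(C) centralizes C
  have hkey : ∀ g ∈ (S : Subgroup G), g ∈ normalizer (C : Set G) → g ∈ C := by
    intro g hgS hgN
    have h2 : IsPGroup 2 (zpowers (⟨g, hgN⟩ : normalizer (C : Set G))) := by
      obtain ⟨k, hk⟩ := S.2 ⟨g, hgS⟩
      have hk' : g ^ 2 ^ k = 1 := congrArg Subtype.val hk
      exact zpowers_isPGroup (n := k) (Subtype.ext hk')
    obtain ⟨n, hn⟩ := exists_conj_le h2 (U.subtype hUN)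
    have h3 : ((n * ⟨g, hgN⟩ * n⁻¹ : normalizer (C : Set G)) : G) ∈ (U : Subgroup G) := hn _ (mem_zpowers _)
    have h4 : ∀ c ∈ C, g * c = c * g := by
      intro c hc
      have h5 : (n : G) * c * (n : G)⁻¹ ∈ C := (mem_normalizer_iff.mp n.2 c).mp hc
      have h6 := hUC _ h5 _ h3
      change (n : G) * c * (n : G)⁻¹ * ((n : G) * g * (n : G)⁻¹) = ((n : G) * g * (n : G)⁻¹) * ((n : G) * c * (n : G)⁻¹) at h6
      have h7 : (n : G) * (c * g) * (n : G)⁻¹ = (n : G) * (g * c) * (n : G)⁻¹ := by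
        calc (n : G) * (c * g) * (n : G)⁻¹ = (n : G) * c * (n : G)⁻¹ * ((n : G) * g * (n : G)⁻¹) := by group
          _ = ((n : G) * g * (n : G)⁻¹) * ((n : G) * c * (n : G)⁻¹) := h6
          _ = (n : G) * (g * c) * (n : G)⁻¹ := by group
      exact (mul_left_cancel (mul_right_cancel h7)).symm
    rw [hCdef]
    refine mem_inf.mpr ⟨hgS, ?_⟩
    rw [mem_centralizer_iff]
    intro y hy
    rw [Set.mem_singleton_iff.mp hy]
    exact (h4 x hxC).symm
  have hCS' : C = (S : Subgroup G) := by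
    by_contra hne
    obtain ⟨y, hyS, hyN, hyC⟩ := Cfsg.Agent.L0.Fus.exists_mem_normalizer_of_lt S.2 (lt_of_le_of_ne hCS hne)
    exact hyC (hkey y hyS hyN)
  have h8 : Nat.card T = Nat.card S := Nat.card_congr (Sylow.equiv T S).toEquiv
  have h9 := Subgroup.card_le_of_le hT
  have h10 : Nat.card C = Nat.card (S : Subgroup G) := by rw [hCS']
  omega

theorem s3183_b {G : Type u} [Group G] [Finite G]
    (hCI : ∀ S T : Sylow 2 G, S ≠ T → ∃ U : Sylow 2 G, ∀ d ∈ (S : Subgroup G) ⊓ (T : Subgroup G), ∀ u ∈ (U : Subgroup G), d * u = u * d)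
    (S T : Sylow 2 G) (h : S ≠ T) : (S : Subgroup G) ⊓ (T : Subgroup G) ≤ (Subgroup.center ↥(S : Subgroup G)).map (S : Subgroup G).subtype := by
  haveI : Fact (Nat.Prime 2) := ⟨Nat.prime_two⟩
  obtain ⟨U, hU⟩ := hCI S T h
  intro x hx
  have hxS := (mem_inf.mp hx).1
  have h1 := s3183_a hCI S hxS (U : Subgroup G) U.2 (fun u hu => by
    rw [mem_centralizer_iff]
    intro y hy
    rw [Set.mem_singleton_iff.mp hy]
    exact hU x hx u hu)
  have h2 : Nat.card (U : Subgroup G) = Nat.card (S : Subgroup G) := Nat.card_congr (Sylow.equiv U S).toEquiv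
  have h3 : (S : Subgroup G) ⊓ centralizer ({x} : Set G) = (S : Subgroup G) := Subgroup.eq_of_le_of_card_ge inf_le_left (by rw [← h2]; exact h1)
  refine ⟨⟨x, hxS⟩, ?_, rfl⟩
  rw [SetLike.mem_coe, mem_center_iff]
  intro s
  have h4 : (s : G) ∈ (S : Subgroup G) ⊓ centralizer ({x} : Set G) := by rw [h3]; exact s.2
  apply Subtype.ext
  have h5 := mem_centralizer_iff.mp (mem_inf.mp h4).2 x rfl
  exact h5.symm

end Cfsg.Agent.H1
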