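import Mathlib
import Cfsg.Agent.L0.Core
import Cfsg.Agent.L0.SZ
import Cfsg.Agent.L0.Coprime
import Cfsg.Agent.H1.Basic

set_option autoImplicit false

namespace Cfsg.Agent.H1

open Subgroup commutatorElement Pointwise

variable {G : Type*} [Group G]

/-- A coset `xD` fixed by a coprime group `A` normalizing `D` contains a fixed point. -/
theorem exists_fixed_in_coset [Finite G] {A D : Subgroup G} (hAD : A ≤ Subgroup.normalizer (D : Set G))
    (hcop : (Nat.card A).Coprime (Nat.card D)) (hs : Group.IsSolvable A ∨ Group.IsSolvable D) {x : G}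
    (hx : ∀ a ∈ A, x⁻¹ * (a * x * a⁻¹) ∈ D) : ∃ d ∈ D, x * d ∈ Subgroup.centralizer (A : Set G) := by
  have h1 : MulAut.conj x⁻¹ • A ≤ D ⊔ A := by
    intro y hy
    rw [mem_conj_smul] at hy
    have h2 : x * y * x⁻¹ ∈ A := by simpa using hy
    have h3 := hx _ h2
    have h4 : y = (x⁻¹ * ((x * y * x⁻¹) * x * (x * y * x⁻¹)⁻¹)) * (x * y * x⁻¹) := by group
    rw [h4]
    exact Subgroup.mul_mem _ (Subgroup.mem_sup_left h3) (Subgroup.mem_sup_right h2)
  obtain ⟨d, hd, hdA⟩ := Cfsg.Agent.L0.exists_conj_eq_of_le_sup hAD hcop hs h1 (Cfsg.Agent.L0.card_conj_smul A x⁻¹)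
  refine ⟨d, hd, ?_⟩
  have hinf : D ⊓ A = ⊥ := Subgroup.inf_eq_bot_of_coprime hcop.symm
  rw [Subgroup.mem_centralizer_iff]
  intro a ha
  -- c = (x d)⁻¹ a (x d) a⁻¹ ∈ D ⊓ A
  have hc : (x * d)⁻¹ * a * (x * d) * a⁻¹ ∈ D ⊓ A := by
    constructor
    · have h5 : (x * d)⁻¹ * a * (x * d) * a⁻¹ = d⁻¹ * (x⁻¹ * (a * x * a⁻¹)) * (a * d * a⁻¹) := by group
      rw [h5]
      exact D.mul_mem (D.mul_mem (D.inv_mem hd) (hx a ha)) ((Subgroup.mem_normalizer_iff.mp (hAD ha) d).mp hd)
    · have h6 : x⁻¹ * a * x ∈ MulAut.conj x⁻¹ • A := by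
        rw [mem_conj_smul]
        have : (x⁻¹)⁻¹ * (x⁻¹ * a * x) * x⁻¹ = a := by group
        rw [this]; exact ha
      rw [← hdA, mem_conj_smul] at h6
      have h7 : (x * d)⁻¹ * a * (x * d) = d⁻¹ * (x⁻¹ * a * x) * d := by group
      rw [h7]
      exact A.mul_mem h6 (A.inv_mem ha)
  rw [hinf, Subgroup.mem_bot] at hc
  have h8 : a * (x * d) = (x * d) * ((x * d)⁻¹ * a * (x * d) * a⁻¹) * a := by group
  rw [h8, hc]; group

/-- `[G:M] = [N : N ∩ M]` when `N` is normal and `NM = G`. -/
theorem index_eq_relIndex_of_sup_eq_top [Finite G] {N M : Subgroup G} [N.Normal] (h : N ⊔ M = ⊤) :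
    M.index = (N ⊓ M).relIndex N := by
  have h1 : N.relIndex M = N.index := by
    rw [← Subgroup.relIndex_sup_right, sup_comm, h, Subgroup.relIndex_top_right]
  have h2 := Subgroup.relIndex_mul_index (inf_le_left : N ⊓ M ≤ N)
  have h3 := Subgroup.relIndex_mul_index (inf_le_right : N ⊓ M ≤ M)
  rw [Subgroup.inf_relIndex_right, h1] at h3
  rw [← h3, mul_comm] at h2
  exact (Nat.eq_of_mul_eq_mul_left (Nat.pos_of_ne_zero Subgroup.index_ne_zero_of_finite) h2).symm

/-- Gaschütz: if `N` is normal in `G` and `N` has nilpotent image in `G/Φ(G)` then `N` is nilpotent. -/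
theorem isNilpotent_of_map_frattini [Finite G] (N : Subgroup G) [hN : N.Normal]
    (h : Group.IsNilpotent (N.map (QuotientGroup.mk' (frattini G)))) : Group.IsNilpotent N := by
  rw [Cfsg.Agent.L0.isNilpotent_iff_sylow_normal]
  intro p hp P
  set π := QuotientGroup.mk' (frattini G) with hπ
  set P0 := (P : Subgroup N).map N.subtype with hP0
  have hP0N : P0 ≤ N := Subgroup.map_subtype_le _
  have hKn : (N.map π).Normal := hN.map π (QuotientGroup.mk'_surjective _)
  -- the image of P0 is normal
  have hP0pg : IsPGroup p P0 := P.isPGroup'.map _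
  have hcore : P0.map π = (Cfsg.pCore p (N.map π)).map (N.map π).subtype := by
    have hle : (P0.map π).subgroupOf (N.map π) ≤ Cfsg.pCore p (N.map π) := by
      have hpg : IsPGroup p ((P0.map π).subgroupOf (N.map π)) :=
        (hP0pg.map π).comap_of_injective _ (Subgroup.subtype_injective _)
      obtain ⟨S, hS⟩ := hpg.exists_le_sylow
      rw [Cfsg.Agent.L0.pCore_eq_sylow_of_nilpotent h S]
      exact hS
    have hidx : ¬ p ∣ ((P0.map π).subgroupOf (N.map π)).index := by
      intro hd
      apply P.not_dvd_index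
      have h1 : (P0.map π).relIndex (N.map π) ∣ P0.relIndex N := by
        rw [← Subgroup.relIndex_comap]
        exact Subgroup.relIndex_dvd_of_le_left _ (Subgroup.le_comap_map _ _)
      have h2 : P0.relIndex N = (P : Subgroup N).index := by
        rw [Subgroup.relIndex, hP0, Subgroup.subgroupOf, Subgroup.comap_map_eq_self_of_injective N.subtype_injective]
      rw [← h2]
      exact hd.trans h1
    have heq : (P0.map π).subgroupOf (N.map π) = Cfsg.pCore p (N.map π) := by
      apply eq_of_le_of_not_dvd_relIndex hle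
      intro q hq hqd
      by_cases hqp : q = p
      · subst hqp
        exact hidx (hqd.trans (Subgroup.relIndex_dvd_index_of_le hle))
      · obtain ⟨k, hk⟩ := IsPGroup.iff_card.mp (Cfsg.Agent.L0.pCore_isPGroup p (N.map π))
        have h3 := hqd.trans (Subgroup.relIndex_dvd_card _ _)
        rw [hk] at h3
        exact hqp ((Nat.prime_dvd_prime_iff_eq hq hp.out).mp (hq.dvd_of_dvd_pow h3))
    rw [← heq, Subgroup.subgroupOf_map_subtype, inf_eq_left.mpr (Subgroup.map_mono hP0N)]
  have hP0norm : (P0.map π).Normal := by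
    rw [hcore]; exact Cfsg.Agent.L0.normal_map_subtype_of_characteristic _
  -- M = preimage ⊓ N
  set M := (P0.map π).comap π ⊓ N with hM
  have hMn : M.Normal := by
    have h1 : ((P0.map π).comap π).Normal := hP0norm.comap π
    rw [hM]; infer_instance
  have hP0M : P0 ≤ M := le_inf (Subgroup.le_comap_map _ _) hP0N
  have hndvd : ¬ p ∣ P0.relIndex M := by
    intro hd
    apply P.not_dvd_index
    have h2 : P0.relIndex N = (P : Subgroup N).index := by
      rw [Subgroup.relIndex, hP0, Subgroup.subgroupOf, Subgroup.comap_map_eq_self_of_injective N.subtype_injective]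
    rw [← h2]
    exact hd.trans (Dvd.intro _ (Subgroup.relIndex_mul_relIndex P0 M N hP0M inf_le_right))
  have hpg' : IsPGroup p (P0.subgroupOf M) := Cfsg.Agent.L0.isPGroup_subgroupOf hP0pg
  let Q : Sylow p M := hpg'.toSylow hndvd
  have hQ : (Q : Subgroup M).map M.subtype = P0 := by
    show (P0.subgroupOf M).map M.subtype = P0
    rw [Subgroup.subgroupOf_map_subtype, inf_eq_left.mpr hP0M]
  have hfr := Sylow.normalizer_sup_eq_top Q
  rw [hQ] at hfr
  -- M ≤ P0 ⊔ Φ
  have hMle : M ≤ P0 ⊔ frattini G := by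
    intro x hx
    have h1 : x ∈ (P0.map π).comap π := hx.1
    rw [Subgroup.comap_map_eq, QuotientGroup.ker_mk'] at h1
    exact h1
  have htop : Subgroup.normalizer (P0 : Set G) ⊔ frattini G = ⊤ := by
    rw [eq_top_iff, ← hfr]
    apply sup_le le_sup_left
    apply hMle.trans
    exact sup_le (Subgroup.le_normalizer.trans le_sup_left) le_sup_right
  have h5 := frattini_nongenerating htop
  have h6 : P0.Normal := Subgroup.normalizer_eq_top_iff.mp h5
  exact h6.of_map_subtype

theorem exists_mul_of_relIndex_eq [Finite G] {H K L : Subgroup G} (hH : H ≤ L) (h : K.relIndex H = K.relIndex L) :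
    ∀ g ∈ L, ∃ x ∈ H, ∃ y ∈ K, g = x * y := by
  intro g hg
  let f : H ⧸ (K.subgroupOf H) → L ⧸ (K.subgroupOf L) := Quotient.map' (fun x => (⟨x, hH x.2⟩ : L)) (by
    intro a b hab
    rw [QuotientGroup.leftRel_apply] at hab ⊢
    simpa [Subgroup.mem_subgroupOf] using hab)
  have hf : Function.Injective f := by
    intro a b
    induction a using Quotient.inductionOn' with | h a => ?_
    induction b using Quotient.inductionOn' with | h b => ?_
    intro hab
    apply Quotient.sound'
    rw [QuotientGroup.leftRel_apply, Subgroup.mem_subgroupOf]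
    have := Quotient.exact' hab
    rw [QuotientGroup.leftRel_apply, Subgroup.mem_subgroupOf] at this
    simpa using this
  have hb : Function.Bijective f := by
    rw [Nat.bijective_iff_injective_and_card]
    exact ⟨hf, h⟩
  obtain ⟨q, hq⟩ := hb.2 (QuotientGroup.mk ⟨g, hg⟩)
  induction q using Quotient.inductionOn' with | h x => ?_
  have h5 : (x : G)⁻¹ * g ∈ K := by
    have := Quotient.exact' hq
    rw [QuotientGroup.leftRel_apply, Subgroup.mem_subgroupOf] at this
    exact this
  exact ⟨x, x.2, _, h5, by group⟩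

end Cfsg.Agent.H1
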