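import Mathlib
import Cfsg.Agent.H1.FC

set_option autoImplicit false
set_option linter.style.haveILetI false
set_option linter.unusedVariables false
set_option linter.unusedSectionVars false
set_option linter.unusedSimpArgs false

/-! An element-wise simplicity criterion for the fusion system of a group. -/

namespace Cfsg.Agent.H1

open Cfsg Cfsg.FusionSystem Subgroup Cfsg.Agent.L0.Fus

universe u

theorem simple_of_gen' {G : Type u} [Group G] [Finite G] {p : ℕ} [Fact p.Prime] (S : Sylow p G) (hS1 : (S : Subgroup G) ≠ ⊥)
    (hB : ∀ T ≤ (S : Subgroup G), T ≠ ⊥ → (∀ t ∈ T, ∀ g : G, g * t * g⁻¹ ∈ (S : Subgroup G) → g * t * g⁻¹ ∈ T) → T = (S : Subgroup G))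
    (hA : ∀ x ∈ normalizer ((S : Subgroup G) : Set G), x ∈ closure (genSet p (S : Subgroup G) ∪ {x | ∀ s ∈ (S : Subgroup G), x * s = s * x})) :
    (groupFusionSystem (S : Subgroup G)).IsSimple p := by
  have hF := group_saturated S
  have hSp : IsPGroup p (S : Subgroup G) := S.2
  refine ⟨hF, hS1, fun T E hE => ?_⟩
  have hcl : ∀ T : Subgroup G, (groupFusionSystem (S : Subgroup G)).StronglyClosed T → T = ⊥ ∨ T = (S : Subgroup G) := by
    intro T hT
    rw [groupFusionSystem_eq] at hT
    by_cases hT1 : T = ⊥
    · exact Or.inl hT1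
    · right
      apply hB T hT.1 hT1
      intro t ht g hg
      have hmem : conjHom (Subgroup.zpowers t) g ∈ (fusionSystemOfSubgroup ⊤ (S : Subgroup G) le_top).Hom (Subgroup.zpowers t) := by
        refine ⟨Subgroup.zpowers_le.2 (hT.1 ht), ?_, g, trivial, fun x => rfl⟩
        rintro ⟨x, n, rfl⟩
        show g * t ^ n * g⁻¹ ∈ _
        have : g * t ^ n * g⁻¹ = (g * t * g⁻¹) ^ n := by
          exact (conj_zpow (i := n) (a := g) (b := t)).symm
        rw [this]
        exact (S : Subgroup G).zpow_mem hg n
      exact hT.2 _ (Subgroup.zpowers_le.2 ht) _ hmem ⟨t, Subgroup.mem_zpowers t⟩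
  rcases hcl T hE.1.2.2.2.1 with hT | hT
  · exact Or.inl hT
  · right
    refine ⟨hT, ?_⟩
    subst hT
    have hE1 := hE.1.1
    have hinv := hE.1.2.2
    have hsub : E.IsSubsystemOf (groupFusionSystem (S : Subgroup G)) := hinv.1
    have hA0 : (groupFusionSystem (S : Subgroup G)).autGroup S = autInducedBy ⊤ (S : Subgroup G) := by
      rw [groupFusionSystem_eq, autGroup_fso le_rfl]
    have key : ∀ x ∈ closure (genSet p (S : Subgroup G) ∪ {x | ∀ s ∈ (S : Subgroup G), x * s = s * x}), ∃ hx : x ∈ normalizer ((S : Subgroup G) : Set G), (S : Subgroup G).normalizerMonoidHom ⟨x, hx⟩ ∈ E.autGroup S := by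
      intro x hx
      induction hx using Subgroup.closure_induction with
      | mem y hy =>
        rcases hy with hy | hy
        swap
        · have hyN : y ∈ normalizer ((S : Subgroup G) : Set G) := by
            rw [mem_normalizer_iff]
            intro s
            constructor
            · intro hs
              rw [hy s hs, mul_inv_cancel_right]; exact hs
            · intro hs
              have h1 := hy _ hs
              have h2 : s = y * s * y⁻¹ := by
                have h3 : y * s = y * s * y⁻¹ * y := by group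
                have h4 : y * (y * s * y⁻¹) = y * (s : G) := by rw [h1]; group
                exact (mul_left_cancel h4).symm
              rw [h2]; exact hs
          refine ⟨hyN, ?_⟩
          have e : (S : Subgroup G).normalizerMonoidHom ⟨y, hyN⟩ = 1 := by
            apply MulEquiv.ext
            intro x
            apply Subtype.ext
            change y * (x : G) * y⁻¹ = x
            rw [hy x x.2, mul_inv_cancel_right]
          rw [e]; exact Subgroup.one_mem _
        obtain ⟨hyS, R, hRS, hRn, hRc, hyR⟩ := hy
        have hfn : (groupFusionSystem (S : Subgroup G)).IsFullyNormalized R := by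
          refine ⟨hRS, fun Q hQ => ?_⟩
          have e : FusionSystem.normalizerIn (S : Subgroup G) R = S := inf_eq_left.mpr hRn
          rw [e]
          exact Subgroup.card_le_of_le inf_le_left
        have hfc := fullyCentralized_of_fullyNormalized_sat hSp hF hfn
        have hcen : (groupFusionSystem (S : Subgroup G)).IsCentric R := by
          apply centric_of_fullyCentralized hfc
          intro s hs
          rw [mem_centralizerIn] at hs
          exact hRc s hs.1 hs.2
        have hAR : (groupFusionSystem (S : Subgroup G)).autGroup R = autInducedBy ⊤ R := by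
          rw [groupFusionSystem_eq, autGroup_fso hRS]
        have hN : ∀ x ∈ Subgroup.closure {g : G | g ∈ Subgroup.normalizer (R : Set G) ∧ ∃ k : ℕ, g ^ p ^ k = 1},
            ∃ hx : x ∈ Subgroup.normalizer (R : Set G), R.normalizerMonoidHom ⟨x, hx⟩ ∈ E.autGroup R := by
          intro x hx
          induction hx using Subgroup.closure_induction with
          | mem x hx =>
            refine ⟨hx.1, p_elements_mem hSp hF hinv hfn ?_ ?_⟩
            · rw [hAR, mem_autInducedBy]
              exact ⟨x, trivial, fun y => rfl⟩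
            · obtain ⟨k, hk⟩ := hx.2
              refine ⟨k, ?_⟩
              rw [← map_pow]
              have : (⟨x, hx.1⟩ : Subgroup.normalizer (R : Set G)) ^ p ^ k = 1 := by
                apply Subtype.ext
                change x ^ p ^ k = 1
                exact hk
              rw [this, map_one]
          | one => exact ⟨Subgroup.one_mem _, by
              have : (⟨1, Subgroup.one_mem _⟩ : Subgroup.normalizer (R : Set G)) = 1 := rfl
              rw [this, map_one]; exact Subgroup.one_mem _⟩
          | mul a b _ _ ha hb =>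
            obtain ⟨ha, ha'⟩ := ha
            obtain ⟨hb, hb'⟩ := hb
            refine ⟨Subgroup.mul_mem _ ha hb, ?_⟩
            have : (⟨a * b, Subgroup.mul_mem _ ha hb⟩ : Subgroup.normalizer (R : Set G)) = ⟨a, ha⟩ * ⟨b, hb⟩ := rfl
            rw [this, map_mul]; exact Subgroup.mul_mem _ ha' hb'
          | inv a _ ha =>
            obtain ⟨ha, ha'⟩ := ha
            refine ⟨Subgroup.inv_mem _ ha, ?_⟩
            have : (⟨a⁻¹, Subgroup.inv_mem _ ha⟩ : Subgroup.normalizer (R : Set G)) = ⟨a, ha⟩⁻¹ := rfl
            rw [this, map_inv]; exact Subgroup.inv_mem _ ha'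
        obtain ⟨hgN, hgE⟩ := hN y hyR
        refine ⟨hyS, ?_⟩
        have hφ : ((S : Subgroup G).subtype.comp ((S : Subgroup G).normalizerMonoidHom ⟨y, hyS⟩).toMonoidHom) ∈ (groupFusionSystem (S : Subgroup G)).Hom S := by
          refine ⟨le_rfl, fun x => (((S : Subgroup G).normalizerMonoidHom ⟨y, hyS⟩) x).2, y, fun x => rfl⟩
        have hres : ((S : Subgroup G).subtype.comp ((S : Subgroup G).normalizerMonoidHom ⟨y, hyS⟩).toMonoidHom).comp (Subgroup.inclusion hRS) ∈ E.Hom R := by
          have h1 := (mem_autGroup E hRS).mp hgE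
          exact mem_of_agree E h1 le_rfl (fun x => rfl)
        exact mem_autGroup_of_iso E (mem_of_restrict_centric hSp hF hE1 hsub hφ _ R hcen hres rfl)
      | one => exact ⟨Subgroup.one_mem _, by
          have : (⟨1, Subgroup.one_mem _⟩ : Subgroup.normalizer ((S : Subgroup G) : Set G)) = 1 := rfl
          rw [this, map_one]; exact Subgroup.one_mem _⟩
      | mul a b _ _ ha hb =>
        obtain ⟨ha, ha'⟩ := ha
        obtain ⟨hb, hb'⟩ := hb
        refine ⟨Subgroup.mul_mem _ ha hb, ?_⟩
        have : (⟨a * b, Subgroup.mul_mem _ ha hb⟩ : Subgroup.normalizer ((S : Subgroup G) : Set G)) = ⟨a, ha⟩ * ⟨b, hb⟩ := rfl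
        rw [this, map_mul]; exact Subgroup.mul_mem _ ha' hb'
      | inv a _ ha =>
        obtain ⟨ha, ha'⟩ := ha
        refine ⟨Subgroup.inv_mem _ ha, ?_⟩
        have : (⟨a⁻¹, Subgroup.inv_mem _ ha⟩ : Subgroup.normalizer ((S : Subgroup G) : Set G)) = ⟨a, ha⟩⁻¹ := rfl
        rw [this, map_inv]; exact Subgroup.inv_mem _ ha'
    have hAE : (groupFusionSystem (S : Subgroup G)).autGroup S ≤ E.autGroup S := by
      rw [hA0]
      intro α hα
      obtain ⟨g, hg, hgα⟩ := mem_autInducedBy.mp hα
      obtain ⟨h1, h2⟩ := key g (hA g (mem_normalizer_of_induced hgα))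
      have e : α = (S : Subgroup G).normalizerMonoidHom ⟨g, h1⟩ := by
        apply MulEquiv.ext
        intro x
        apply Subtype.ext
        exact hgα x
      rw [e]; exact h2
    intro P
    apply Set.Subset.antisymm (hsub P)
    intro φ hφ
    have hPS := hom_le _ hφ
    obtain ⟨α, hα, φ₀, hφ₀, hφα⟩ := hinv.2.2.2 P hPS φ hφ
    have h1 := (mem_autGroup E le_rfl).mp (hAE hα)
    obtain ⟨χ, hχ, hχ'⟩ := comp_agree (F := E) hφ₀ h1 (hom_mem E hφ₀)
    refine mem_of_agree E hχ le_rfl (fun x => ?_)
    rw [hφα x (hom_mem E hφ₀ x)]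
    exact (hχ' x).symm

end Cfsg.Agent.H1
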