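import Mathlib
import Cfsg.Agent.H1.Basic
import Cfsg.Agent.H3.Frob
import Cfsg.Agent.H2.Fpf

open scoped commutatorElement Pointwise

namespace Cfsg.Agent.H1

open Cfsg Subgroup

/-- orbits of a free action -/
theorem card_dvd_of_free {L X : Type*} [Group L] [Finite L] [Finite X] [MulAction L X]
    (h : ∀ (x : X) (l : L), l • x = x → l = 1) : Nat.card L ∣ Nat.card X := by
  classical
  have e := MulAction.selfEquivSigmaOrbitsQuotientStabilizer L X
  haveI : Fintype (Quotient (MulAction.orbitRel L X)) := Fintype.ofFinite _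
  rw [Nat.card_congr e, Nat.card_sigma]
  apply Finset.dvd_sum
  intro ω _
  have : MulAction.stabilizer L (Quotient.out ω) = ⊥ := by
    rw [eq_bot_iff]
    intro l hl
    exact h _ l hl
  have h2 : Nat.card (L ⧸ MulAction.stabilizer L (Quotient.out ω)) = Nat.card L := by
    have h3 := (MulAction.stabilizer L (Quotient.out ω)).card_mul_index
    rw [this, Subgroup.card_bot, one_mul] at h3
    rw [← this] at h3
    exact h3
  rw [h2]

/-- free action on an invariant subset -/
theorem card_dvd_of_free_on {L X : Type*} [Group L] [Finite L] [Finite X] [MulAction L X] (S : Set X)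
    (hS : ∀ (l : L), ∀ x ∈ S, l • x ∈ S) (h : ∀ x ∈ S, ∀ (l : L), l • x = x → l = 1) : Nat.card L ∣ Nat.card S := by
  let A : SubMulAction L X := ⟨S, fun l {x} hx => hS l x hx⟩
  have := card_dvd_of_free (L := L) (X := A) (by
    intro x l hl
    exact h x x.2 l (congrArg Subtype.val hl))
  exact this

variable {G : Type*} [Group G]

theorem IsFrobeniusComplement_conj {H : Subgroup G} (hH : IsFrobeniusComplement H) {x y : G} {z : G}
    (hx : x⁻¹ * z * x ∈ H) (hy : y⁻¹ * z * y ∈ H) (hz : z ≠ 1) : x⁻¹ * y ∈ H := by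
  rw [H3.isFrobeniusComplement_iff] at hH
  by_contra hn
  have h1 : (x⁻¹ * y) ∉ H := hn
  have h2 := hH.2.2 (x⁻¹ * y) h1 (x⁻¹ * z * x) hx (by
    have : (x⁻¹ * y)⁻¹ * (x⁻¹ * z * x) * (x⁻¹ * y) = y⁻¹ * z * y := by group
    rw [this]; exact hy)
  apply hz
  have : z = x * (x⁻¹ * z * x) * x⁻¹ := by group
  rw [this, h2]; group

/-- Index of a Frobenius complement is `1` modulo its order. -/
theorem card_dvd_index_sub_one [Finite G] {H : Subgroup G} (hH : IsFrobeniusComplement H) :
    Nat.card H ∣ H.index - 1 := by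
  classical
  have h1 := card_dvd_of_free_on (L := H) (X := G ⧸ H) ({((1 : G) : G ⧸ H)}ᶜ : Set (G ⧸ H))
    (by
      intro l x hx
      simp only [Set.mem_compl_iff, Set.mem_singleton_iff] at hx ⊢
      intro h
      apply hx
      have : x = l⁻¹ • ((1 : G) : G ⧸ H) := by rw [← h, inv_smul_smul]
      rw [this]
      show (((l⁻¹ : H) : G) • ((1 : G) : G ⧸ H)) = _
      rw [MulAction.Quotient.smul_coe, QuotientGroup.eq]
      simp)
    (by
      intro x hx l hl
      by_contra hl1
      apply hx
      induction x using QuotientGroup.induction_on with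
      | H g =>
        have h2 : ((l : G) • (g : G ⧸ H)) = g := hl
        rw [MulAction.Quotient.smul_coe, smul_eq_mul, QuotientGroup.eq] at h2
        have h3 : g⁻¹ * (l : G) * g ∈ H := by
          have := H.inv_mem h2
          have e : ((l : G) * g)⁻¹ * g = (g⁻¹ * l * g)⁻¹ := by group
          rw [e, inv_inv] at this
          exact this
        have h4 := IsFrobeniusComplement_conj hH (x := g) (y := 1) h3 (by simpa using l.2)
          (fun h => hl1 (Subtype.ext h))
        rw [mul_one] at h4
        show (g : G ⧸ H) = ((1 : G) : G ⧸ H)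
        rw [QuotientGroup.eq]
        simpa using h4)
  have h2 : Nat.card ({((1 : G) : G ⧸ H)}ᶜ : Set (G ⧸ H)) = H.index - 1 := by
    have := Set.ncard_compl ({((1 : G) : G ⧸ H)} : Set (G ⧸ H))
    rw [Set.ncard_singleton] at this
    exact this
  rwa [h2] at h1

/-- A subgroup whose order divides that of a Frobenius complement is contained in a conjugate of it. -/
theorem le_conj_of_card_dvd [Finite G] {H L : Subgroup G} (hH : IsFrobeniusComplement H)
    (hL : Nat.card L ∣ Nat.card H) : ∃ x : G, L ≤ MulAut.conj x • H := by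
  classical
  by_cases hL1 : L = ⊥
  · exact ⟨1, by rw [hL1]; exact bot_le⟩
  set F : Set (G ⧸ H) := {x | ∃ l : L, l ≠ 1 ∧ l • x = x} with hF
  have hFc : ∀ (l : L), ∀ x ∈ Fᶜ, l • x ∈ Fᶜ := by
    intro l x hx h
    apply hx
    obtain ⟨m, hm1, hm⟩ := h
    refine ⟨l⁻¹ * m * l, ?_, ?_⟩
    · intro h; apply hm1
      have : m = l * (l⁻¹ * m * l) * l⁻¹ := by group
      rw [this, h]; group
    · rw [mul_smul, mul_smul, hm, inv_smul_smul]
  have h1 := card_dvd_of_free_on (L := L) (X := G ⧸ H) Fᶜ hFc (by
    intro x hx l hl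
    by_contra hl1
    exact hx ⟨l, hl1, hl⟩)
  have h2 := card_dvd_index_sub_one hH
  have hcF : Nat.card F ≤ Nat.card L - 1 := by
    have h3 : Nat.card {l : L // l ≠ 1} = Nat.card L - 1 := by
      have := Set.ncard_compl ({1} : Set L)
      rw [Set.ncard_singleton] at this
      exact this
    rw [← h3]
    choose f hf1 hf2 using (fun x : F => x.2)
    refine Nat.card_le_card_of_injective (fun x : F => (⟨f x, hf1 x⟩ : {l : L // l ≠ 1})) ?_
    intro x y hxy
    have hxy' : f x = f y := congrArg Subtype.val hxy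
    obtain ⟨x, hx⟩ := x
    obtain ⟨y, hy⟩ := y
    apply Subtype.ext
    show x = y
    have e1 := hf2 ⟨x, hx⟩
    have e2 := hf2 ⟨y, hy⟩
    have e3 := hf1 ⟨y, hy⟩
    rw [hxy'] at e1
    generalize f ⟨y, hy⟩ = l at e1 e2 e3
    change l • x = x at e1
    change l • y = y at e2
    clear hxy hxy' hx hy
    induction x using QuotientGroup.induction_on with
    | H g =>
      induction y using QuotientGroup.induction_on with
      | H k =>
        have a1 : ((l : G) • (g : G ⧸ H)) = g := e1
        have a2 : ((l : G) • (k : G ⧸ H)) = k := e2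
        rw [MulAction.Quotient.smul_coe, smul_eq_mul, QuotientGroup.eq] at a1 a2
        have b1 : g⁻¹ * (l : G)⁻¹ * g ∈ H := by
          have e : ((l : G) * g)⁻¹ * g = g⁻¹ * (l : G)⁻¹ * g := by group
          rwa [e] at a1
        have b2 : k⁻¹ * (l : G)⁻¹ * k ∈ H := by
          have e : ((l : G) * k)⁻¹ * k = k⁻¹ * (l : G)⁻¹ * k := by group
          rwa [e] at a2
        rw [QuotientGroup.eq]
        exact IsFrobeniusComplement_conj hH b1 b2 (fun h => e3 (Subtype.ext (by simpa using h)))
  have hcc : Nat.card F + Nat.card (Fᶜ : Set (G ⧸ H)) = H.index := by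
    have := Set.ncard_add_ncard_compl F
    exact this
  have hLp : 1 < Nat.card L := by
    rw [Subgroup.one_lt_card_iff_ne_bot]; exact hL1
  have hidx : 0 < H.index := Nat.pos_of_ne_zero H.index_ne_zero_of_finite
  -- |F| ≡ 1 mod |L|
  have hF1 : Nat.card F = 1 := by
    obtain ⟨a, ha⟩ := h1
    obtain ⟨b, hb⟩ := hL.trans h2
    have hb' : H.index = Nat.card L * b + 1 := by omega
    have : Nat.card F + Nat.card L * a = Nat.card L * b + 1 := by rw [← ha, hcc, hb']
    have hmod : Nat.card F % Nat.card L = 1 := by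
      have h5 : (Nat.card F + Nat.card L * a) % Nat.card L = (Nat.card L * b + 1) % Nat.card L := by rw [this]
      rw [Nat.add_mul_mod_self_left, Nat.mul_add_mod, Nat.mod_eq_of_lt hLp] at h5
      exact h5
    rw [← hmod, Nat.mod_eq_of_lt (by omega)]
  obtain ⟨⟨x, hx⟩, hxu⟩ := (Nat.card_eq_one_iff_exists).mp hF1
  have hfix : ∀ l : L, l • x = x := by
    intro l
    have : l • x ∈ F := by
      obtain ⟨m, hm1, hm⟩ := hx
      refine ⟨l * m * l⁻¹, ?_, ?_⟩
      · intro h; apply hm1
        have : m = l⁻¹ * (l * m * l⁻¹) * l := by group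
        rw [this, h]; group
      · rw [mul_smul, mul_smul, inv_smul_smul, hm]
    exact congrArg Subtype.val (hxu ⟨l • x, this⟩)
  induction x using QuotientGroup.induction_on with
  | H g =>
    refine ⟨g, ?_⟩
    intro l hl
    rw [H3.mem_conj_smul_iff]
    have h5 : (l • (g : G ⧸ H)) = g := hfix ⟨l, hl⟩
    rw [MulAction.Quotient.smul_coe, smul_eq_mul, QuotientGroup.eq] at h5
    have e : (l * g)⁻¹ * g = (g⁻¹ * l * g)⁻¹ := by group
    rw [e] at h5
    simpa using H.inv_mem h5

/-- counting: two Frobenius complements have conjugates that meet nontrivially. -/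
theorem exists_conj_inf_ne_bot [Finite G] {A B : Subgroup G} (hA : IsFrobeniusComplement A)
    (hB : IsFrobeniusComplement B) : ∃ g : G, ∃ z : G, z ≠ 1 ∧ z ∈ A ∧ g⁻¹ * z * g ∈ B := by
  classical
  by_contra hno
  push Not at hno
  -- every element is in one of the kernels
  have hcov : ∀ z : G, z ∈ frobeniusKernel A ∨ z ∈ frobeniusKernel B := by
    intro z
    rw [H3.mem_frobeniusKernel_iff, H3.mem_frobeniusKernel_iff]
    by_cases h1 : z = 1
    · exact Or.inl (Or.inl h1)
    by_contra h
    push Not at h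
    obtain ⟨⟨-, g, hg⟩, -, k, hk⟩ := h
    refine hno (g⁻¹ * k) (g⁻¹ * z * g) ?_ hg ?_
    · intro h2
      apply h1
      have : z = g * (g⁻¹ * z * g) * g⁻¹ := by group
      rw [this, h2]; group
    · have : (g⁻¹ * k)⁻¹ * (g⁻¹ * z * g) * (g⁻¹ * k) = k⁻¹ * z * k := by group
      rw [this]; exact hk
  have h1 : (frobeniusKernel A ∪ frobeniusKernel B : Set G) = Set.univ := by
    ext z; simpa using hcov z
  have h2 := Set.ncard_union_add_ncard_inter (frobeniusKernel A) (frobeniusKernel B)
  rw [h1, Set.ncard_univ] at h2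
  have h3 : 0 < (frobeniusKernel A ∩ frobeniusKernel B : Set G).ncard := by
    rw [Set.ncard_pos]
    exact ⟨1, (H3.mem_frobeniusKernel_iff A 1).mpr (Or.inl rfl), (H3.mem_frobeniusKernel_iff B 1).mpr (Or.inl rfl)⟩
  have h4 : (frobeniusKernel A).ncard = A.index := H3.card_frobeniusKernel A hA
  have h5 : (frobeniusKernel B).ncard = B.index := H3.card_frobeniusKernel B hB
  have h6 := A.card_mul_index
  have h7 := B.card_mul_index
  have h8 : 1 < Nat.card A := by rw [Subgroup.one_lt_card_iff_ne_bot]; exact hA.1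
  have h9 : 1 < Nat.card B := by rw [Subgroup.one_lt_card_iff_ne_bot]; exact hB.1
  rw [h4, h5] at h2
  have h10 : 2 * A.index ≤ Nat.card G := by rw [← h6]; exact Nat.mul_le_mul_right _ h8
  have h11 : 2 * B.index ≤ Nat.card G := by rw [← h7]; exact Nat.mul_le_mul_right _ h9
  omega

end Cfsg.Agent.H1
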