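import Mathlib
import Cfsg.Agent.H1.DS2

set_option autoImplicit false
set_option linter.style.haveILetI false
set_option linter.unusedVariables false
set_option linter.unusedSectionVars false
set_option linter.unusedSimpArgs false

/-! The number of conjugacy classes of `p`-elements. -/

namespace Cfsg.Agent.H1

open Cfsg Subgroup
open scoped commutatorElement Pointwise

universe u v

theorem count_lemma {α : Type u} {β : Type v} [Finite α] (f : α → β) (A B : Set α) (hAB : A ⊆ B) (m : ℕ)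
    (h : ∀ x ∈ B, f x ∉ f '' A → ∃ T : Finset α, m ≤ T.card ∧ ∀ a ∈ T, a ∈ B ∧ f a = f x) :
    m * (f '' B).ncard + A.ncard ≤ m * (f '' A).ncard + B.ncard := by
  classical
  haveI := Fintype.ofFinite α
  let s : Finset α := Finset.univ.filter (fun x => x ∈ B ∧ f x ∉ f '' A)
  have h1 : m * (s.image f).card ≤ s.card := by
    apply Finset.mul_card_image_le_card_of_maps_to (f := f) (fun a ha => Finset.mem_image_of_mem f ha)
    intro b hb
    obtain ⟨x, hx, rfl⟩ := Finset.mem_image.mp hb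
    have hx' := (Finset.mem_filter.mp hx).2
    obtain ⟨T, hT, hT2⟩ := h x hx'.1 hx'.2
    refine hT.trans (Finset.card_le_card ?_)
    intro a ha
    obtain ⟨h1, h2⟩ := hT2 a ha
    rw [Finset.mem_filter, Finset.mem_filter]
    exact ⟨⟨Finset.mem_univ _, h1, by rw [h2]; exact hx'.2⟩, h2⟩
  have h2 : s.card + A.ncard ≤ B.ncard := by
    have e1 : s.card = (B \ {x | x ∈ B ∧ f x ∈ f '' A}).ncard := by
      rw [← Set.ncard_coe_finset]
      congr 1
      ext x
      simp only [s, Finset.coe_filter, Finset.mem_univ, true_and, Set.mem_setOf_eq, Set.mem_diff]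
      tauto
    have e2 : A ⊆ {x | x ∈ B ∧ f x ∈ f '' A} := fun a ha => ⟨hAB ha, a, ha, rfl⟩
    have e3 := Set.ncard_le_ncard e2 (Set.toFinite _)
    have e4 := Set.ncard_diff_add_ncard_of_subset (s := {x | x ∈ B ∧ f x ∈ f '' A}) (t := B) (fun x hx => hx.1) (Set.toFinite _)
    omega
  have h3 : (f '' B).ncard ≤ (f '' A).ncard + (s.image f).card := by
    have e1 : f '' B ⊆ f '' A ∪ (s.image f : Finset β) := by
      rintro _ ⟨x, hx, rfl⟩
      by_cases hA : f x ∈ f '' A
      · exact Or.inl hA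
      · right
        rw [Finset.mem_coe]
        exact Finset.mem_image_of_mem f (Finset.mem_filter.mpr ⟨Finset.mem_univ _, hx, hA⟩)
    refine (Set.ncard_le_ncard e1 ((Set.toFinite _).union (Finset.finite_toSet _))).trans ((Set.ncard_union_le _ _).trans ?_)
    rw [Set.ncard_coe_finset]
  calc m * (f '' B).ncard + A.ncard ≤ m * ((f '' A).ncard + (s.image f).card) + A.ncard := by gcongr
    _ = m * (f '' A).ncard + m * (s.image f).card + A.ncard := by ring
    _ ≤ m * (f '' A).ncard + s.card + A.ncard := by gcongr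
    _ ≤ m * (f '' A).ncard + B.ncard := by omega

/-- a non-central element of a `p`-group has at least `p` conjugates -/
theorem exists_conj_finset {G : Type u} [Group G] [Finite G] {p : ℕ} [hp : Fact p.Prime] {P : Subgroup G} (hP : IsPGroup p P) {x : G} (hx : x ∈ P)
    (hnc : ∃ s ∈ P, s * x ≠ x * s) : ∃ T : Finset G, p ≤ T.card ∧ ∀ a ∈ T, a ∈ P ∧ ∃ s ∈ P, s * x * s⁻¹ = a := by
  classical
  obtain ⟨s, hs, hsx⟩ := hnc
  have hPc : IsPGroup p (ConjAct P) := hP.of_equiv ConjAct.toConjAct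
  let x' : P := ⟨x, hx⟩
  haveI : Finite (MulAction.orbit (ConjAct P) x') := inferInstance
  obtain ⟨n, hn⟩ := hPc.card_orbit x'
  have hn0 : n ≠ 0 := by
    rintro rfl
    rw [pow_zero] at hn
    haveI : Subsingleton (MulAction.orbit (ConjAct P) x') := (Nat.card_eq_one_iff_unique.mp hn).1
    have h1 : (⟨x', MulAction.mem_orbit_self _⟩ : MulAction.orbit (ConjAct P) x') =
      ⟨ConjAct.toConjAct (⟨s, hs⟩ : P) • x', MulAction.mem_orbit _ _⟩ := Subsingleton.elim _ _
    have h2 : x' = ConjAct.toConjAct (⟨s, hs⟩ : P) • x' := congrArg Subtype.val h1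
    rw [ConjAct.toConjAct_smul] at h2
    have h3 : x = s * x * s⁻¹ := congrArg Subtype.val h2
    exact hsx (mul_inv_eq_iff_eq_mul.mp h3.symm)
  refine ⟨((MulAction.orbit (ConjAct P) x').toFinite.toFinset).image Subtype.val, ?_, ?_⟩
  · rw [Finset.card_image_of_injective _ Subtype.val_injective]
    have h1 : (MulAction.orbit (ConjAct P) x').toFinite.toFinset.card = p ^ n := by
      rw [← Set.ncard_eq_toFinset_card, ← hn]; rfl
    rw [h1]
    exact Nat.le_of_dvd (pow_pos hp.out.pos n) (dvd_pow_self p hn0)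
  · intro a ha
    obtain ⟨b, hb, rfl⟩ := Finset.mem_image.mp ha
    rw [Set.Finite.mem_toFinset] at hb
    obtain ⟨g, hg⟩ := hb
    refine ⟨b.2, (ConjAct.ofConjAct g : P), (ConjAct.ofConjAct g : P).2, ?_⟩
    have h2 : g • x' = ConjAct.ofConjAct g * x' * (ConjAct.ofConjAct g)⁻¹ := ConjAct.smul_def g x'
    have h3 : g • x' = b := hg
    rw [← h3, h2]; rfl

theorem mk_eq_of_conj {G : Type u} [Group G] {x s : G} : ConjClasses.mk (s * x * s⁻¹) = ConjClasses.mk x := by
  rw [ConjClasses.mk_eq_mk_iff_isConj]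
  exact (isConj_iff.mpr ⟨s, rfl⟩).symm

/-- the classes of `p`-elements -/
theorem pcl_eq {G : Type u} [Group G] [Finite G] {p : ℕ} [hp : Fact p.Prime] (P : Sylow p G) :
    {c : ConjClasses G | ∀ x ∈ c.carrier, ∃ k : ℕ, orderOf x = p ^ k} = ConjClasses.mk '' ((P : Subgroup G) : Set G) := by
  ext c
  constructor
  · intro hc
    obtain ⟨t, rfl⟩ := ConjClasses.exists_rep c
    obtain ⟨k, hk⟩ := hc t ConjClasses.mem_carrier_mk
    obtain ⟨s, hs, hst⟩ := exists_conj_mem P (t := t) (n := k) (by rw [← hk]; exact pow_orderOf_eq_one t)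
    exact ⟨s, hs, ConjClasses.mk_eq_mk_iff_isConj.mpr hst⟩
  · rintro ⟨s, hs, rfl⟩ x hx
    have h1 : IsConj s x := by
      rw [ConjClasses.mem_carrier_iff_mk_eq] at hx
      exact (ConjClasses.mk_eq_mk_iff_isConj.mp hx).symm
    obtain ⟨k, hk⟩ := IsPGroup.iff_orderOf.mp P.2 ⟨s, hs⟩
    refine ⟨k, ?_⟩
    rw [← ord_isConj h1, ← hk]
    exact (Subgroup.orderOf_mk s hs).symm

/-- first bound -/
theorem kp_bound1 {G : Type u} [Group G] [Finite G] {p : ℕ} [hp : Fact p.Prime] (P : Sylow p G) (Q : Subgroup G) (hQ : Q ≤ P)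
    (hc : ∀ x ∈ P, (∀ s ∈ P, s * x = x * s) → x ∈ Q) :
    p * (ConjClasses.mk '' ((P : Subgroup G) : Set G)).ncard + Nat.card Q ≤ p * (ConjClasses.mk '' (Q : Set G)).ncard + Nat.card (P : Subgroup G) := by
  have := count_lemma (ConjClasses.mk : G → ConjClasses G) (Q : Set G) ((P : Subgroup G) : Set G) hQ p (by
    intro x hx hxQ
    have hnc : ∃ s ∈ (P : Subgroup G), s * x ≠ x * s := by
      by_contra hcon
      push Not at hcon
      exact hxQ ⟨x, hc x hx hcon, rfl⟩
    obtain ⟨T, hT, hT2⟩ := exists_conj_finset P.2 hx hnc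
    refine ⟨T, hT, fun a ha => ?_⟩
    obtain ⟨h1, s, hs, rfl⟩ := hT2 a ha
    exact ⟨h1, mk_eq_of_conj⟩)
  exact this

/-- second bound -/
theorem kp_bound2 {G : Type u} [Group G] [Finite G] {Q C : Subgroup G} (hC : C ≤ Q) {h : G} (hh : h ∈ normalizer (Q : Set G))
    (hfix : ∀ x ∈ Q, h * x * h⁻¹ = x → x ∈ C) :
    2 * (ConjClasses.mk '' (Q : Set G)).ncard + Nat.card C ≤ 2 * (ConjClasses.mk '' (C : Set G)).ncard + Nat.card Q := by
  classical
  exact count_lemma (ConjClasses.mk : G → ConjClasses G) (C : Set G) (Q : Set G) hC 2 (by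
    intro x hx hxC
    have h1 : h * x * h⁻¹ ≠ x := fun h1 => hxC ⟨x, hfix x hx h1, rfl⟩
    refine ⟨{x, h * x * h⁻¹}, ?_, ?_⟩
    · rw [Finset.card_pair (Ne.symm h1)]
    · intro a ha
      rw [Finset.mem_insert, Finset.mem_singleton] at ha
      rcases ha with rfl | rfl
      · exact ⟨hx, rfl⟩
      · exact ⟨(mem_normalizer_iff.mp hh x).mp hx, mk_eq_of_conj⟩)

theorem kp_bound3 {G : Type u} [Group G] [Finite G] {Q C : Subgroup G} (hC : C ≤ Q) {h : G} (hh : h ∈ normalizer (Q : Set G)) (ho : Odd (orderOf h))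
    (hfix : ∀ x ∈ Q, h * x * h⁻¹ = x → x ∈ C) :
    3 * (ConjClasses.mk '' (Q : Set G)).ncard + Nat.card C ≤ 3 * (ConjClasses.mk '' (C : Set G)).ncard + Nat.card Q := by
  classical
  exact count_lemma (ConjClasses.mk : G → ConjClasses G) (C : Set G) (Q : Set G) hC 3 (by
    intro x hx hxC
    have h1 : h * x * h⁻¹ ≠ x := fun h1 => hxC ⟨x, hfix x hx h1, rfl⟩
    have h2 : h * (h * x * h⁻¹) * h⁻¹ ≠ h * x * h⁻¹ := fun h => h1 (mul_left_cancel (mul_right_cancel h))
    have h3 : h * (h * x * h⁻¹) * h⁻¹ ≠ x := by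
      intro h4
      apply h1
      apply commute_of_pow ho (n := 1)
      calc h ^ 2 ^ 1 * x * (h ^ 2 ^ 1)⁻¹ = h * (h * x * h⁻¹) * h⁻¹ := by rw [pow_one, pow_two]; group
        _ = x := h4
    refine ⟨{x, h * x * h⁻¹, h * (h * x * h⁻¹) * h⁻¹}, ?_, ?_⟩
    · rw [Finset.card_insert_of_notMem, Finset.card_pair (Ne.symm h2)]
      rw [Finset.mem_insert, Finset.mem_singleton]
      push Not
      exact ⟨Ne.symm h1, Ne.symm h3⟩
    · intro a ha
      rw [Finset.mem_insert, Finset.mem_insert, Finset.mem_singleton] at ha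
      have m1 := (mem_normalizer_iff.mp hh x).mp hx
      rcases ha with rfl | rfl | rfl
      · exact ⟨hx, rfl⟩
      · exact ⟨m1, mk_eq_of_conj⟩
      · exact ⟨(mem_normalizer_iff.mp hh _).mp m1, mk_eq_of_conj.trans mk_eq_of_conj⟩)

theorem ncard_mk_le {G : Type u} [Group G] [Finite G] (C : Subgroup G) : (ConjClasses.mk '' (C : Set G)).ncard ≤ Nat.card C :=
  Set.ncard_image_le (Set.toFinite _)

end Cfsg.Agent.H1
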