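import Mathlib
import Cfsg.Agent.H1.KP1

set_option autoImplicit false
set_option linter.style.haveILetI false
set_option linter.unusedVariables false
set_option linter.unusedSectionVars false
set_option linter.unusedSimpArgs false

/-! The number of conjugacy classes of `p`-elements. -/

namespace Cfsg.Agent.H1

open Cfsg Subgroup
open scoped commutatorElement Pointwise

universe u v

theorem card_mul_relIdx {G : Type u} [Group G] {C D : Subgroup G} (h : C ≤ D) : Nat.card C * C.relIndex D = Nat.card D := by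
  have h1 := card_mul_index (C.subgroupOf D)
  rw [Nat.card_congr (subgroupOfEquivOfLe h).toEquiv] at h1
  exact h1

theorem relIdx_pow {G : Type u} [Group G] [Finite G] {p : ℕ} [hp : Fact p.Prime] {C D : Subgroup G} (hD : IsPGroup p D) : ∃ n, C.relIndex D = p ^ n := by
  have h1 : C.relIndex D ∣ Nat.card D := relIndex_dvd_card _ _
  obtain ⟨m, hm⟩ := IsPGroup.iff_card.mp hD
  rw [hm] at h1
  obtain ⟨n, -, hn⟩ := (Nat.dvd_prime_pow hp.out).mp h1
  exact ⟨n, hn⟩

theorem card_mul_le_of_lt {G : Type u} [Group G] [Finite G] {p : ℕ} [hp : Fact p.Prime] {C D : Subgroup G} (hD : IsPGroup p D) (h : C ≤ D) (hne : C ≠ D) :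
    p * Nat.card C ≤ Nat.card D := by
  obtain ⟨n, hn⟩ := relIdx_pow (C := C) hD
  have hn0 : n ≠ 0 := by
    rintro rfl
    rw [pow_zero, relIndex_eq_one] at hn
    exact hne (le_antisymm h hn)
  rw [← card_mul_relIdx h, hn, mul_comm]
  exact Nat.mul_le_mul_left _ (Nat.le_of_dvd (pow_pos hp.out.pos n) (dvd_pow_self p hn0))

/-- a fusion controlling Sylow subgroup -/
theorem npc_of_ctrl {G : Type u} [Group G] [Finite G] {p : ℕ} [hp : Fact p.Prime] (P : Sylow p G)
    (hD : ∀ D : Subgroup G, D ≤ P → centralizer (D : Set G) ⊓ (P : Subgroup G) ≤ D →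
      ∀ g ∈ normalizer (D : Set G), (orderOf g).Coprime p → g ∈ centralizer (D : Set G)) : HasNormalPComplement p G := by
  apply H3.npc_of_fusion P
  intro a ha _ g hg
  obtain ⟨s, hs, h1⟩ := alperin_ctrl P hD a ha g⁻¹ (by rw [inv_inv]; exact hg)
  rw [inv_inv] at h1
  exact ⟨s⁻¹, inv_mem hs, by rw [inv_inv]; exact h1.symm⟩

theorem kp_odd_bound {G : Type u} [Group G] [Finite G] {p : ℕ} [hp : Fact p.Prime] (P : Sylow p G)
    (hk : (p + 1) * Nat.card (P : Subgroup G) < 2 * p * (ConjClasses.mk '' ((P : Subgroup G) : Set G)).ncard) :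
    HasNormalPComplement p G ∧ ∀ a ∈ P, ∀ b ∈ P, a * b = b * a := by
  have hp2 := hp.out.two_le
  constructor
  · apply npc_of_ctrl P
    intro D hDP hc g hg ho
    by_contra hgc
    have h1 := kp_bound1 P D hDP (by
      intro x hx hx2
      apply hc
      refine Subgroup.mem_inf.mpr ⟨?_, hx⟩
      rw [mem_centralizer_iff]
      intro d hd
      exact hx2 d (hDP hd))
    have h2 := kp_bound2 (Q := D) (C := D ⊓ centralizer {g}) inf_le_left hg (by
      intro x hx hx2
      refine Subgroup.mem_inf.mpr ⟨hx, ?_⟩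
      rw [mem_centralizer_singleton_iff]
      exact (mul_inv_eq_iff_eq_mul.mp hx2).symm)
    have h3 := ncard_mk_le (D ⊓ centralizer {g})
    have h4 : p * Nat.card (D ⊓ centralizer {g} : Subgroup G) ≤ Nat.card D := by
      apply card_mul_le_of_lt (P.2.to_le hDP) inf_le_left
      intro h4
      apply hgc
      rw [mem_centralizer_iff]
      intro d hd
      rw [← h4] at hd
      exact (mem_centralizer_singleton_iff.mp (Subgroup.mem_inf.mp hd).2)
    have h5 : Nat.card D ≤ Nat.card (P : Subgroup G) := Nat.card_le_card_of_injective _ (inclusion_injective hDP)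
    generalize (ConjClasses.mk '' ((P : Subgroup G) : Set G)).ncard = k at *
    generalize (ConjClasses.mk '' (D : Set G)).ncard = a at *
    generalize (ConjClasses.mk '' ((D ⊓ centralizer {g} : Subgroup G) : Set G)).ncard = b at *
    generalize Nat.card (D ⊓ centralizer {g} : Subgroup G) = c at *
    generalize Nat.card D = d at *
    generalize Nat.card (P : Subgroup G) = q at *
    obtain ⟨p', rfl⟩ : ∃ p', p = p' + 1 := ⟨p - 1, by omega⟩
    nlinarith [mul_le_mul_of_nonneg_left h3 (Nat.zero_le (p' + 1)), mul_le_mul_of_nonneg_left h2 (Nat.zero_le (p' + 1)), mul_le_mul_of_nonneg_left h5 (Nat.zero_le p')]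
  · by_contra hcon
    push Not at hcon
    obtain ⟨a, ha, b, hb, hab⟩ := hcon
    set Z := (center (P : Subgroup G)).map (P : Subgroup G).subtype with hZ
    have hZP : Z ≤ P := map_subtype_le _
    have h1 := kp_bound1 P Z hZP (by
      intro x hx hx2
      refine ⟨⟨x, hx⟩, ?_, rfl⟩
      change _ ∈ center _
      rw [mem_center_iff]
      rintro ⟨s, hs⟩
      exact Subtype.ext (hx2 s hs))
    have h3 := ncard_mk_le Z
    have h4 : p * Nat.card Z ≤ Nat.card (P : Subgroup G) := by
      apply card_mul_le_of_lt P.2 hZP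
      intro h4
      have h5 : a ∈ Z := h4 ▸ ha
      obtain ⟨⟨a', ha'⟩, h6, rfl⟩ := h5
      change _ ∈ center _ at h6
      rw [mem_center_iff] at h6
      exact hab (congrArg Subtype.val (h6 ⟨b, hb⟩)).symm
    have h0 : 0 < Nat.card (P : Subgroup G) := Nat.card_pos
    generalize (ConjClasses.mk '' ((P : Subgroup G) : Set G)).ncard = k at *
    generalize (ConjClasses.mk '' (Z : Set G)).ncard = b at *
    generalize Nat.card Z = c at *
    generalize Nat.card (P : Subgroup G) = q at *
    obtain ⟨p', rfl⟩ : ∃ p', p = p' + 2 := ⟨p - 2, by omega⟩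
    -- `p k ≤ (p-1) c + q`
    have e1 : (p' + 2) * k ≤ (p' + 1) * c + q := by
      have := mul_le_mul_of_nonneg_left h3 (Nat.zero_le (p' + 2))
      nlinarith
    have e2 : (p' + 2) * ((p' + 2) * k) ≤ (p' + 1) * q + (p' + 2) * q := by
      calc (p' + 2) * ((p' + 2) * k) ≤ (p' + 2) * ((p' + 1) * c + q) := Nat.mul_le_mul_left _ e1
        _ = (p' + 1) * ((p' + 2) * c) + (p' + 2) * q := by ring
        _ ≤ _ := by gcongr
    have e3 : (p' + 2) * ((p' + 2 + 1) * q) < (p' + 2) * (2 * (p' + 2) * k) := Nat.mul_lt_mul_of_pos_left hk (by omega)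
    have e4 : ((p' + 2) * (p' + 3)) * q < (4 * p' + 6) * q := by
      ring_nf at e2 e3 ⊢
      omega
    have e5 := Nat.lt_of_mul_lt_mul_right e4
    nlinarith

theorem kp_two_bound {G : Type u} [Group G] [Finite G] (P : Sylow 2 G)
    (hk : Nat.card (P : Subgroup G) < 2 * (ConjClasses.mk '' ((P : Subgroup G) : Set G)).ncard) :
    HasNormalPComplement 2 G := by
  apply npc_of_ctrl P
  intro D hDP hc g hg ho
  by_contra hgc
  have hgo : Odd (orderOf g) := Nat.coprime_two_right.mp ho
  have h1 := kp_bound1 P D hDP (by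
    intro x hx hx2
    apply hc
    refine Subgroup.mem_inf.mpr ⟨?_, hx⟩
    rw [mem_centralizer_iff]
    intro d hd
    exact hx2 d (hDP hd))
  have h2 := kp_bound3 (Q := D) (C := D ⊓ centralizer {g}) inf_le_left hg hgo (by
    intro x hx hx2
    refine Subgroup.mem_inf.mpr ⟨hx, ?_⟩
    rw [mem_centralizer_singleton_iff]
    exact (mul_inv_eq_iff_eq_mul.mp hx2).symm)
  have h3 := ncard_mk_le (D ⊓ centralizer {g})
  have hDp : IsPGroup 2 D := P.2.to_le hDP
  have h4 : 4 * Nat.card (D ⊓ centralizer {g} : Subgroup G) ≤ Nat.card D := by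
    obtain ⟨n, hn⟩ := relIdx_pow (C := D ⊓ centralizer {g}) hDp
    have hn0 : n ≠ 0 := by
      rintro rfl
      rw [pow_zero, relIndex_eq_one] at hn
      apply hgc
      rw [mem_centralizer_iff]
      intro d hd
      exact mem_centralizer_singleton_iff.mp (Subgroup.mem_inf.mp (hn hd)).2
    have hn1 : n ≠ 1 := by
      rintro rfl
      rw [pow_one] at hn
      set φ : MulAut D := D.normalizerMonoidHom ⟨g, hg⟩ with hφ
      have hφg : ∀ d : D, ((φ d : D) : G) = g * d * g⁻¹ := fun d => rfl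
      have hφk : φ ^ orderOf g = 1 := by
        rw [hφ, ← map_pow]
        have : (⟨g, hg⟩ : normalizer (D : Set G)) ^ orderOf g = 1 := by
          apply Subtype.ext
          rw [Subgroup.coe_pow]; exact pow_orderOf_eq_one g
        rw [this, map_one]
      have h5 := odd_index_two hgo hφk (A := (D ⊓ centralizer {g}).subgroupOf D) (by
        intro a ha
        apply Subtype.ext
        rw [hφg]
        have := mem_centralizer_singleton_iff.mp (Subgroup.mem_inf.mp (mem_subgroupOf.mp ha)).2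
        rw [← this]; group) (by
        intro s t hs ht
        exact mem_of_index_two' hn hs ht) hDp
      apply hgc
      rw [mem_centralizer_iff]
      intro d hd
      have h6 := hφg ⟨d, hd⟩
      rw [h5] at h6
      have h7 : d = g * d * g⁻¹ := h6
      exact mul_inv_eq_iff_eq_mul.mp h7.symm |>.symm
    rw [← card_mul_relIdx (inf_le_left : D ⊓ centralizer {g} ≤ D), hn, mul_comm]
    refine Nat.mul_le_mul_left _ ?_
    calc 4 = 2 ^ 2 := by norm_num
      _ ≤ 2 ^ n := Nat.pow_le_pow_right (by norm_num) (by omega)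
  have h5 : Nat.card D ≤ Nat.card (P : Subgroup G) := Nat.card_le_card_of_injective _ (inclusion_injective hDP)
  omega

/-- a normal `p`-complement, relative to any Sylow subgroup -/
theorem npc_decomp {G : Type u} [Group G] [Finite G] {p : ℕ} [hp : Fact p.Prime] (S : Sylow p G) (h : HasNormalPComplement p G) :
    ∃ K : Subgroup G, K.Normal ∧ K ⊓ (S : Subgroup G) = ⊥ ∧ ∀ g : G, ∃ o ∈ K, ∃ s ∈ S, g = o * s := by
  obtain ⟨P, K, hK, hc⟩ := h
  haveI := hK
  refine ⟨K, hK, ?_, ?_⟩
  · have h1 : (Nat.card K).Coprime (Nat.card (S : Subgroup G)) := by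
      have h2 : Nat.card K = (P : Subgroup G).index := by
        have h3 := hc.card_mul_card
        have h4 := card_mul_index (P : Subgroup G)
        have h5 : 0 < Nat.card (P : Subgroup G) := Nat.card_pos
        exact Nat.eq_of_mul_eq_mul_right h5 (by rw [h3, ← h4, mul_comm])
      obtain ⟨n, hn⟩ := IsPGroup.iff_card.mp S.2
      rw [h2, hn]
      exact (Nat.coprime_comm.mp ((Nat.Prime.coprime_iff_not_dvd hp.out).mpr P.not_dvd_index)).pow_right n
    exact (Subgroup.disjoint_of_coprime_natCard h1).eq_bot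
  · obtain ⟨c, hc'⟩ := MulAction.exists_smul_eq G P S
    have hsup : K ⊔ (P : Subgroup G) = ⊤ := hc.sup_eq_top
    have hsup2 : K ⊔ (S : Subgroup G) = ⊤ := by
      rw [eq_top_iff]
      intro g _
      have h1 : c⁻¹ * g * c ∈ K ⊔ (P : Subgroup G) := hsup ▸ mem_top _
      have h2 : c⁻¹ * g * c ∈ ((K ⊔ (P : Subgroup G) : Subgroup G) : Set G) := h1
      rw [normal_mul] at h2
      obtain ⟨a, ha, b, hb, hab⟩ := h2
      have e : g = (c * a * c⁻¹) * (c * b * c⁻¹) := by
        have : a * b = c⁻¹ * g * c := hab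
        calc g = c * (c⁻¹ * g * c) * c⁻¹ := by group
          _ = c * (a * b) * c⁻¹ := by rw [this]
          _ = _ := by group
      rw [e]
      refine mul_mem (mem_sup_left (hK.conj_mem a ha c)) (mem_sup_right ?_)
      have h3 : (MulAut.conj c) • b ∈ MulAut.conj c • (P : Subgroup G) := smul_mem_pointwise_smul _ _ _ hb
      have h4 : ((c • P : Sylow p G) : Subgroup G) = MulAut.conj c • (P : Subgroup G) := rfl
      rw [← h4, hc'] at h3
      exact h3
    intro g
    have h1 : g ∈ ((K ⊔ (S : Subgroup G) : Subgroup G) : Set G) := by rw [hsup2]; exact mem_top _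
    rw [normal_mul] at h1
    obtain ⟨a, ha, b, hb, hab⟩ := h1
    exact ⟨a, ha, b, hb, hab.symm⟩

theorem npc_fus {G : Type u} [Group G] [Finite G] {p : ℕ} [hp : Fact p.Prime] (S : Sylow p G) (h : HasNormalPComplement p G) {a b : G} (ha : a ∈ S) (hb : b ∈ S)
    (hab : IsConj a b) : ∃ s ∈ S, s * a * s⁻¹ = b := by
  obtain ⟨K, hK, hKS, hdec⟩ := npc_decomp S h
  obtain ⟨g, hg⟩ := isConj_iff.mp hab
  obtain ⟨o, ho, s, hs, rfl⟩ := hdec g
  refine ⟨s, hs, ?_⟩
  have h2 : s * a * s⁻¹ ∈ (S : Subgroup G) := mul_mem (mul_mem hs ha) (inv_mem hs)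
  have h3 : b * (s * a * s⁻¹)⁻¹ ∈ K ⊓ (S : Subgroup G) := by
    refine Subgroup.mem_inf.mpr ⟨?_, mul_mem hb (inv_mem h2)⟩
    have e : b * (s * a * s⁻¹)⁻¹ = o * ((s * a * s⁻¹) * o⁻¹ * (s * a * s⁻¹)⁻¹) := by
      rw [← hg]; group
    rw [e]
    exact mul_mem ho (hK.conj_mem _ (inv_mem ho) _)
  rw [hKS, mem_bot] at h3
  exact (mul_inv_eq_one.mp h3).symm

/-- the map from classes of `P` -/
theorem range_map_eq {G : Type u} [Group G] (P : Subgroup G) : Set.range (ConjClasses.map P.subtype) = ConjClasses.mk '' (P : Set G) := by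
  ext c
  constructor
  · rintro ⟨d, rfl⟩
    obtain ⟨x, rfl⟩ := ConjClasses.exists_rep d
    exact ⟨x, x.2, rfl⟩
  · rintro ⟨x, hx, rfl⟩
    exact ⟨ConjClasses.mk ⟨x, hx⟩, rfl⟩

theorem ncard_le_classes {G : Type u} [Group G] [Finite G] (P : Subgroup G) : (ConjClasses.mk '' (P : Set G)).ncard ≤ Nat.card (ConjClasses P) := by
  rw [← range_map_eq]
  haveI : Finite (ConjClasses P) := Quotient.finite _
  have h1 : Nat.card (Set.range (ConjClasses.map P.subtype)) ≤ Nat.card (ConjClasses P) := Finite.card_range_le _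
  exact h1

theorem ncard_eq_classes {G : Type u} [Group G] [Finite G] {p : ℕ} [hp : Fact p.Prime] (P : Sylow p G) (h : HasNormalPComplement p G) :
    (ConjClasses.mk '' ((P : Subgroup G) : Set G)).ncard = Nat.card (ConjClasses (P : Subgroup G)) := by
  rw [← range_map_eq]
  refine Nat.card_range_of_injective ?_
  intro c d hcd
  obtain ⟨a, rfl⟩ := ConjClasses.exists_rep c
  obtain ⟨b, rfl⟩ := ConjClasses.exists_rep d
  have h1 : ConjClasses.mk (a : G) = ConjClasses.mk (b : G) := hcd
  rw [ConjClasses.mk_eq_mk_iff_isConj] at h1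
  obtain ⟨s, hs, hsa⟩ := npc_fus P h a.2 b.2 h1
  exact ConjClasses.mk_eq_mk_iff_isConj.mpr (isConj_iff.mpr ⟨⟨s, hs⟩, Subtype.ext hsa⟩)

theorem s3897_aux {G : Type u} [Group G] [Finite G] {p : ℕ} [hpf : Fact p.Prime] (P : Sylow p G) :
    (p + 1) * Nat.card ↥(P : Subgroup G) < 2 * p * Nat.card {c : ConjClasses G // ∀ x ∈ c.carrier, ∃ k : ℕ, orderOf x = p ^ k} ↔
      Cfsg.HasNormalPComplement p G ∧ IsMulCommutative ↥(P : Subgroup G) := by
  have e : Nat.card {c : ConjClasses G // ∀ x ∈ c.carrier, ∃ k : ℕ, orderOf x = p ^ k} = (ConjClasses.mk '' ((P : Subgroup G) : Set G)).ncard := by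
    rw [← pcl_eq P]; rfl
  rw [e]
  constructor
  · intro hk
    obtain ⟨h1, h2⟩ := kp_odd_bound P hk
    exact ⟨h1, ⟨⟨fun a b => Subtype.ext (h2 a a.2 b b.2)⟩⟩⟩
  · rintro ⟨h1, h2⟩
    rw [ncard_eq_classes P h1]
    have h3 : Nat.card (ConjClasses (P : Subgroup G)) = Nat.card (P : Subgroup G) := by
      apply Nat.card_congr
      symm
      refine Equiv.ofBijective ConjClasses.mk ⟨?_, ConjClasses.mk_surjective⟩
      intro a b hab
      rw [ConjClasses.mk_eq_mk_iff_isConj] at hab
      obtain ⟨c, hc⟩ := isConj_iff.mp hab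
      rw [← hc, h2.is_comm.comm c a]; group
    rw [h3]
    have h0 : 0 < Nat.card (P : Subgroup G) := Nat.card_pos
    have hp2 := hpf.out.two_le
    apply Nat.mul_lt_mul_of_pos_right _ h0
    omega

theorem s3895_aux {G : Type u} [Group G] [Finite G] (P : Sylow 2 G) :
    Nat.card ↥(P : Subgroup G) < 2 * Nat.card {c : ConjClasses G // ∀ x ∈ c.carrier, ∃ k : ℕ, orderOf x = 2 ^ k} ↔
      Cfsg.HasNormalPComplement 2 G ∧ Nat.card ↥(P : Subgroup G) < 2 * Nat.card (ConjClasses ↥(P : Subgroup G)) := by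
  have e : Nat.card {c : ConjClasses G // ∀ x ∈ c.carrier, ∃ k : ℕ, orderOf x = 2 ^ k} = (ConjClasses.mk '' ((P : Subgroup G) : Set G)).ncard := by
    rw [← pcl_eq P]; rfl
  rw [e]
  constructor
  · intro hk
    exact ⟨kp_two_bound P hk, hk.trans_le (Nat.mul_le_mul_left 2 (ncard_le_classes (P : Subgroup G)))⟩
  · rintro ⟨h1, h2⟩
    rw [ncard_eq_classes P h1]
    exact h2

end Cfsg.Agent.H1
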