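import Mathlib
import Cfsg.Agent.H1.KP2

set_option autoImplicit false
set_option linter.style.haveILetI false
set_option linter.unusedVariables false
set_option linter.unusedSectionVars false
set_option linter.unusedSimpArgs false

/-! The number of conjugacy classes of `π`-elements. -/

namespace Cfsg.Agent.H1

open Cfsg Subgroup
open scoped commutatorElement Pointwise

universe u v

/-- classes of `π`-elements -/
def kcl (π : Finset ℕ) (G : Type u) [Group G] : Set (ConjClasses G) := {c | ∀ x ∈ c.carrier, ∀ r : ℕ, r.Prime → r ∣ orderOf x → r ∈ π}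

theorem mem_kcl {π : Finset ℕ} {G : Type u} [Group G] {x : G} : ConjClasses.mk x ∈ kcl π G ↔ ∀ r : ℕ, r.Prime → r ∣ orderOf x → r ∈ π := by
  constructor
  · intro h
    exact h x ConjClasses.mem_carrier_mk
  · intro h y hy
    have h1 : IsConj y x := by
      rw [ConjClasses.mem_carrier_iff_mk_eq] at hy
      exact ConjClasses.mk_eq_mk_iff_isConj.mp hy
    rw [ord_isConj h1]
    exact h

/-- the `r`-part and the `r'`-part -/
theorem exists_parts {G : Type u} [Group G] [Finite G] {r : ℕ} (hr : r.Prime) (g : G) :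
    ∃ u v : G, u * v = g ∧ u * v = v * u ∧ (∃ n, v ^ r ^ n = 1) ∧ orderOf u ∣ orderOf g ∧ ¬ r ∣ orderOf u ∧ u ∈ zpowers g ∧ v ∈ zpowers g := by
  have hpos : orderOf g ≠ 0 := (orderOf_pos g).ne'
  obtain ⟨m, hm⟩ : ∃ m, m = orderOf g / r ^ (orderOf g).factorization r := ⟨_, rfl⟩
  obtain ⟨a, ha⟩ : ∃ a, a = r ^ (orderOf g).factorization r := ⟨_, rfl⟩
  have ham : a * m = orderOf g := by rw [ha, hm]; exact Nat.ordProj_mul_ordCompl_eq_self _ _
  have hcop : Nat.Coprime m r := by
    rw [hm]; exact (Nat.coprime_ordCompl hr hpos).symm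
  have hcop2 : Nat.Coprime m a := by rw [ha]; exact hcop.pow_right _
  have hb : (1 : ℤ) = m * Nat.gcdA m a + a * Nat.gcdB m a := by
    have := Nat.gcd_eq_gcd_ab m a
    rw [hcop2] at this
    exact_mod_cast this
  have hgn : g ^ ((a : ℤ) * m) = 1 := by
    rw [← Nat.cast_mul, ham, zpow_natCast]; exact pow_orderOf_eq_one g
  refine ⟨g ^ ((a : ℤ) * Nat.gcdB m a), g ^ ((m : ℤ) * Nat.gcdA m a), ?_, ?_, ⟨(orderOf g).factorization r, ?_⟩, ?_, ?_, ⟨_, rfl⟩, ⟨_, rfl⟩⟩
  · rw [← zpow_add, add_comm, ← hb, zpow_one]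
  · rw [← zpow_add, ← zpow_add, add_comm]
  · rw [← ha, ← zpow_natCast, ← zpow_mul]
    calc g ^ ((m : ℤ) * Nat.gcdA m a * a) = (g ^ ((a : ℤ) * m)) ^ (Nat.gcdA m a) := by rw [← zpow_mul]; congr 1; ring
      _ = 1 := by rw [hgn, one_zpow]
  · exact orderOf_dvd_of_mem_zpowers ⟨_, rfl⟩
  · have h1 : orderOf (g ^ ((a : ℤ) * Nat.gcdB m a)) ∣ m := by
      apply orderOf_dvd_of_pow_eq_one
      rw [← zpow_natCast, ← zpow_mul]
      calc g ^ ((a : ℤ) * Nat.gcdB m a * m) = (g ^ ((a : ℤ) * m)) ^ (Nat.gcdB m a) := by rw [← zpow_mul]; congr 1; ring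
        _ = 1 := by rw [hgn, one_zpow]
    intro h2
    have h3 := h2.trans h1
    have := Nat.eq_one_of_dvd_coprimes hcop h3 dvd_rfl
    exact hr.one_lt.ne' this

theorem kcl_step {G : Type u} [Group G] [Finite G] {μ : Finset ℕ} {r : ℕ} (hr : r.Prime) :
    (kcl (insert r μ) G).ncard ≤ (kcl μ G).ncard * r ^ (Nat.card G).factorization r := by
  classical
  haveI : Fact r.Prime := ⟨hr⟩
  haveI : Finite (ConjClasses G) := Quotient.finite _
  haveI := Fintype.ofFinite G
  have hex : ∀ c : ConjClasses G, ∃ x : G, ConjClasses.mk x = c := fun c => ConjClasses.exists_rep c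
  choose rep hrep using hex
  have hsyl : ∀ c : ConjClasses G, Nonempty (Sylow r (centralizer ({rep c} : Set G))) := fun c => inferInstance
  let R : (c : ConjClasses G) → Sylow r (centralizer ({rep c} : Set G)) := fun c => (hsyl c).some
  let F : ConjClasses G → Finset (ConjClasses G) := fun c =>
    (Set.toFinite (Set.range (fun y : ((R c : Subgroup (centralizer ({rep c} : Set G)))) => ConjClasses.mk (rep c * ((y : centralizer ({rep c} : Set G)) : G))))).toFinset
  have hF : ∀ c, (F c).card ≤ r ^ (Nat.card G).factorization r := by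
    intro c
    have h1 : (F c).card = (Set.range (fun y : ((R c : Subgroup (centralizer ({rep c} : Set G)))) => ConjClasses.mk (rep c * ((y : centralizer ({rep c} : Set G)) : G)))).ncard :=
      (Set.ncard_eq_toFinset_card _ _).symm
    rw [h1]
    have h2 : (Set.range (fun y : ((R c : Subgroup (centralizer ({rep c} : Set G)))) => ConjClasses.mk (rep c * ((y : centralizer ({rep c} : Set G)) : G)))).ncard ≤ Nat.card (R c : Subgroup (centralizer ({rep c} : Set G))) :=
      Finite.card_range_le _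
    refine h2.trans ?_
    have h3 : Nat.card (R c : Subgroup (centralizer ({rep c} : Set G))) = r ^ (Nat.card (centralizer ({rep c} : Set G))).factorization r := Sylow.card_eq_multiplicity (R c)
    rw [h3]
    apply Nat.pow_le_pow_right hr.pos
    exact (Nat.factorization_le_iff_dvd Nat.card_pos.ne' Nat.card_pos.ne').mpr (card_subgroup_dvd_card _) r
  have hcov : kcl (insert r μ) G ⊆ (((Set.toFinite (kcl μ G)).toFinset.biUnion F : Finset (ConjClasses G)) : Set (ConjClasses G)) := by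
    intro c hc
    obtain ⟨g, rfl⟩ := ConjClasses.exists_rep c
    have hg := mem_kcl.mp hc
    obtain ⟨u, v, huv, hcomm, ⟨n, hv⟩, hu, hur, -, -⟩ := exists_parts hr g
    have hcu : ConjClasses.mk u ∈ kcl μ G := by
      rw [mem_kcl]
      intro s hs hsu
      rcases Finset.mem_insert.mp (hg s hs (hsu.trans hu)) with h | h
      · rw [h] at hsu; exact absurd hsu hur
      · exact h
    rw [Finset.mem_coe, Finset.mem_biUnion]
    refine ⟨ConjClasses.mk u, (Set.Finite.mem_toFinset _).mpr hcu, ?_⟩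
    rw [Set.Finite.mem_toFinset]
    -- conjugate `u` to the representative
    obtain ⟨t, ht⟩ := isConj_iff.mp (ConjClasses.mk_eq_mk_iff_isConj.mp (hrep (ConjClasses.mk u)).symm)
    set x := rep (ConjClasses.mk u) with hx
    have hvx : t * v * t⁻¹ ∈ centralizer ({x} : Set G) := by
      rw [mem_centralizer_singleton_iff, ← ht]
      calc t * v * t⁻¹ * (t * u * t⁻¹) = t * (v * u) * t⁻¹ := by group
        _ = t * (u * v) * t⁻¹ := by rw [hcomm]
        _ = _ := by group
    obtain ⟨s, hs, hsc⟩ := exists_conj_mem (R (ConjClasses.mk u)) (t := (⟨t * v * t⁻¹, hvx⟩ : centralizer ({x} : Set G))) (n := n) (by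
      apply Subtype.ext
      rw [Subgroup.coe_pow]
      change (t * v * t⁻¹) ^ r ^ n = 1
      rw [conj_pow, hv]; group)
    refine ⟨⟨s, hs⟩, ?_⟩
    obtain ⟨w, hw⟩ := isConj_iff.mp hsc
    have hw' : (w : G) * s * (w : G)⁻¹ = t * v * t⁻¹ := congrArg Subtype.val hw
    have hwx := mem_centralizer_singleton_iff.mp w.2
    change ConjClasses.mk (x * (s : G)) = ConjClasses.mk g
    rw [ConjClasses.mk_eq_mk_iff_isConj]
    have e1 : (w : G) * (x * s) * (w : G)⁻¹ = t * g * t⁻¹ := by
      calc (w : G) * (x * s) * (w : G)⁻¹ = ((w : G) * x) * (s * (w : G)⁻¹) := by group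
        _ = (x * w) * (s * (w : G)⁻¹) := by rw [hwx]
        _ = x * ((w : G) * s * (w : G)⁻¹) := by group
        _ = (t * u * t⁻¹) * (t * v * t⁻¹) := by rw [hw', ht]
        _ = t * (u * v) * t⁻¹ := by group
        _ = _ := by rw [huv]
    refine isConj_iff.mpr ⟨t⁻¹ * w, ?_⟩
    calc t⁻¹ * (w : G) * (x * s) * (t⁻¹ * w)⁻¹ = t⁻¹ * ((w : G) * (x * s) * (w : G)⁻¹) * t := by group
      _ = t⁻¹ * (t * g * t⁻¹) * t := by rw [e1]
      _ = g := by group
  have h1 := Set.ncard_le_ncard hcov (Finset.finite_toSet _)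
  rw [Set.ncard_coe_finset] at h1
  refine h1.trans ((Finset.card_biUnion_le_card_mul _ _ _ (fun c _ => hF c)).trans ?_)
  rw [← Set.ncard_eq_toFinset_card]

theorem kcl_union {G : Type u} [Group G] [Finite G] {μ : Finset ℕ} (T : Finset ℕ) (hT : ∀ r ∈ T, r.Prime) :
    (kcl (T ∪ μ) G).ncard ≤ (kcl μ G).ncard * T.prod (fun r => r ^ (Nat.card G).factorization r) := by
  classical
  induction T using Finset.induction_on with
  | empty => simp
  | insert a s ha ih =>
    rw [Finset.insert_union, Finset.prod_insert ha]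
    have h1 := kcl_step (G := G) (μ := s ∪ μ) (hT a (Finset.mem_insert_self a s))
    have h2 := ih (fun r hr => hT r (Finset.mem_insert_of_mem hr))
    calc (kcl (insert a (s ∪ μ)) G).ncard ≤ (kcl (s ∪ μ) G).ncard * a ^ (Nat.card G).factorization a := h1
      _ ≤ ((kcl μ G).ncard * s.prod (fun r => r ^ (Nat.card G).factorization r)) * a ^ (Nat.card G).factorization a := by gcongr
      _ = _ := by ring

theorem kcl_single {G : Type u} [Group G] [Finite G] {q : ℕ} [hq : Fact q.Prime] (Q : Sylow q G) :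
    kcl {q} G = ConjClasses.mk '' ((Q : Subgroup G) : Set G) := by
  rw [← pcl_eq Q]
  ext c
  obtain ⟨x, rfl⟩ := ConjClasses.exists_rep c
  have h0 : orderOf x ≠ 0 := (orderOf_pos x).ne'
  have key : ∀ y : G, (∀ r : ℕ, r.Prime → r ∣ orderOf y → r ∈ ({q} : Finset ℕ)) ↔ ∃ k, orderOf y = q ^ k := by
    intro y
    have h0 : orderOf y ≠ 0 := (orderOf_pos y).ne'
    constructor
    · intro h
      refine ⟨_, Nat.eq_prime_pow_of_unique_prime_dvd h0 ?_⟩
      intro d hd hdy
      exact Finset.mem_singleton.mp (h d hd hdy)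
    · rintro ⟨k, hk⟩ r hr hry
      rw [hk] at hry
      rw [Finset.mem_singleton]
      exact (Nat.prime_dvd_prime_iff_eq hr hq.out).mp (hr.dvd_of_dvd_pow hry)
  constructor
  · intro h y hy
    exact (key y).mp (h y hy)
  · intro h y hy
    exact (key y).mpr (h y hy)

/-- normal `p`-complements: the kernel -/
theorem npc_kernel {G : Type u} [Group G] [Finite G] {q : ℕ} [hq : Fact q.Prime] (h : HasNormalPComplement q G) :
    ∃ K : Subgroup G, K.Normal ∧ ¬ q ∣ Nat.card K ∧ (∃ n, K.index = q ^ n) ∧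
      ((∀ Q : Sylow q G, ∀ a ∈ Q, ∀ b ∈ Q, a * b = b * a) → commutator G ≤ K) := by
  obtain ⟨P, K, hK, hc⟩ := h
  haveI := hK
  have h2 : Nat.card K = (P : Subgroup G).index := by
    have h3 := hc.card_mul_card
    have h4 := card_mul_index (P : Subgroup G)
    have h5 : 0 < Nat.card (P : Subgroup G) := Nat.card_pos
    exact Nat.eq_of_mul_eq_mul_right h5 (by rw [h3, ← h4, mul_comm])
  refine ⟨K, hK, ?_, ?_, ?_⟩
  · rw [h2]; exact P.not_dvd_index
  · obtain ⟨n, hn⟩ := IsPGroup.iff_card.mp P.2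
    refine ⟨n, ?_⟩
    have h3 := card_mul_index K
    have h4 := card_mul_index (P : Subgroup G)
    rw [h2, ← h4, mul_comm] at h3
    have h5 : 0 < (P : Subgroup G).index := Nat.pos_of_ne_zero index_ne_zero_of_finite
    rw [← hn]
    exact Nat.eq_of_mul_eq_mul_right h5 h3
  · intro hab
    have hsup : K ⊔ (P : Subgroup G) = ⊤ := hc.sup_eq_top
    rw [commutator_def, commutator_le]
    intro a _ b _
    have ha : a ∈ ((K ⊔ (P : Subgroup G) : Subgroup G) : Set G) := by rw [hsup]; exact mem_top _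
    have hb : b ∈ ((K ⊔ (P : Subgroup G) : Subgroup G) : Set G) := by rw [hsup]; exact mem_top _
    rw [normal_mul] at ha hb
    obtain ⟨k, hk, s, hs, hks⟩ := ha
    obtain ⟨l, hl, t, ht, hlt⟩ := hb
    have hks' : k * s = a := hks
    have hlt' : l * t = b := hlt
    have hst := hab P s hs t ht
    rw [← hks', ← hlt', commutatorElement_def]
    have e : k * s * (l * t) * (k * s)⁻¹ * (l * t)⁻¹ = k * (s * l * s⁻¹) * ((s * t * s⁻¹) * k⁻¹ * (s * t * s⁻¹)⁻¹) * (s * t * s⁻¹ * t⁻¹) * l⁻¹ := by group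
    have e2 : s * t * s⁻¹ * t⁻¹ = 1 := by rw [hst]; group
    rw [e, e2, mul_one]
    exact mul_mem (mul_mem (mul_mem hk (hK.conj_mem l hl s)) (hK.conj_mem _ (inv_mem hk) _)) (inv_mem hl)

theorem npc_inf {G : Type u} [Group G] [Finite G] (T : Finset ℕ) (hT : ∀ r ∈ T, r.Prime) (h : ∀ r ∈ T, ∀ _ : Fact r.Prime, HasNormalPComplement r G) :
    ∃ N : Subgroup G, N.Normal ∧ (∀ r : ℕ, r.Prime → r ∣ Nat.card N → r ∉ T) ∧ (∀ r : ℕ, r.Prime → r ∣ N.index → r ∈ T) ∧
      ((∀ r ∈ T, ∀ _ : Fact r.Prime, ∀ Q : Sylow r G, ∀ a ∈ Q, ∀ b ∈ Q, a * b = b * a) → commutator G ≤ N) := by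
  classical
  induction T using Finset.induction_on with
  | empty =>
    refine ⟨⊤, inferInstance, fun _ _ _ => Finset.notMem_empty _, ?_, fun _ => le_top⟩
    intro r hr hd
    rw [index_top, Nat.dvd_one] at hd
    exact absurd hd hr.one_lt.ne'
  | insert q s hq ih =>
    obtain ⟨N, hN, h1, h2, h3⟩ := ih (fun r hr => hT r (Finset.mem_insert_of_mem hr)) (fun r hr => h r (Finset.mem_insert_of_mem hr))
    haveI hqf : Fact q.Prime := ⟨hT q (Finset.mem_insert_self _ _)⟩
    obtain ⟨K, hK, h4, ⟨n, h5⟩, h6⟩ := npc_kernel (h q (Finset.mem_insert_self _ _) hqf)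
    haveI := hN
    haveI := hK
    refine ⟨N ⊓ K, inferInstance, ?_, ?_, ?_⟩
    · intro r hr hd hrT
      rcases Finset.mem_insert.mp hrT with h7 | h7
      · rw [h7] at hd
        exact h4 (hd.trans (card_dvd_of_le inf_le_right))
      · exact h1 r hr (hd.trans (card_dvd_of_le inf_le_left)) h7
    · intro r hr hd
      have h7 : (N ⊓ K).index ∣ N.index * K.index := by
        rw [← relIndex_mul_index (inf_le_right : N ⊓ K ≤ K)]
        apply Nat.mul_dvd_mul_right
        rw [inf_relIndex_right]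
        exact relIndex_dvd_index_of_normal N K
      rcases (Nat.Prime.dvd_mul hr).mp (hd.trans h7) with h8 | h8
      · exact Finset.mem_insert_of_mem (h2 r hr h8)
      · rw [h5] at h8
        rw [(Nat.prime_dvd_prime_iff_eq hr hqf.out).mp (hr.dvd_of_dvd_pow h8)]
        exact Finset.mem_insert_self _ _
    · intro hab
      exact le_inf (h3 (fun r hr => hab r (Finset.mem_insert_of_mem hr))) (h6 (hab q (Finset.mem_insert_self _ _) hqf))

theorem hall_of_kernel {G : Type u} [Group G] [Finite G] {π : Set ℕ} {N : Subgroup G} [N.Normal] (h1 : ∀ r : ℕ, r.Prime → r ∣ Nat.card N → r ∉ π)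
    (h2 : ∀ r : ℕ, r.Prime → r ∣ N.index → r ∈ π) (h3 : commutator G ≤ N) : ∃ H : Subgroup G, Cfsg.IsPiHall π H ∧ IsMulCommutative ↥H := by
  have hcop : (Nat.card N).Coprime N.index := by
    rw [Nat.coprime_iff_gcd_eq_one]
    by_contra hne
    obtain ⟨r, hr, hd⟩ := Nat.exists_prime_and_dvd hne
    exact h1 r hr (hd.trans (Nat.gcd_dvd_left _ _)) (h2 r hr (hd.trans (Nat.gcd_dvd_right _ _)))
  obtain ⟨H, hH⟩ := exists_right_complement'_of_coprime hcop
  have hc : Nat.card H = N.index := by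
    have h4 := hH.card_mul_card
    have h5 := card_mul_index N
    exact Nat.eq_of_mul_eq_mul_left (Nat.card_pos (α := N)) (h4.trans h5.symm)
  have hi : H.index = Nat.card N := by
    have h4 := hH.card_mul_card
    have h5 := card_mul_index H
    rw [← h4, mul_comm] at h5
    exact Nat.eq_of_mul_eq_mul_right (Nat.card_pos (α := H)) h5
  refine ⟨H, ⟨?_, ?_⟩, ⟨⟨?_⟩⟩⟩
  · intro r hr hd
    rw [hc] at hd
    exact h2 r hr hd
  · intro r hr hrπ hd
    rw [hi] at hd
    exact h1 r hr hd hrπ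
  · rintro ⟨a, ha⟩ ⟨b, hb⟩
    have h4 : ⁅a, b⁆ ∈ N ⊓ H := Subgroup.mem_inf.mpr ⟨h3 (commutator_mem_commutator (mem_top _) (mem_top _)),
      mul_mem (mul_mem (mul_mem ha hb) (inv_mem ha)) (inv_mem hb)⟩
    rw [hH.disjoint.eq_bot, mem_bot, commutatorElement_eq_one_iff_mul_comm] at h4
    exact Subtype.ext h4

theorem s3899_aux {G : Type u} [Group G] [Finite G] (π : Finset ℕ) (hπ : ∀ r ∈ π, r.Prime) (p : ℕ) (hp : p ∈ π)
    (hmin : ∀ r ∈ π, p ≤ r) (hk : (p + 1) * π.prod (fun r => r ^ (Nat.card G).factorization r) < 2 * p * (kcl π G).ncard) :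
    (∃ N : Subgroup G, N.Normal ∧ (∀ r : ℕ, r.Prime → r ∣ Nat.card ↥N → r ∉ π) ∧ ∀ r : ℕ, r.Prime → r ∣ N.index → r ∈ π) ∧
      ∃ H : Subgroup G, Cfsg.IsPiHall (↑π : Set ℕ) H ∧ IsMulCommutative ↥H := by
  classical
  have hp1 := (hπ p hp).one_lt
  have key : ∀ q ∈ π, ∀ _ : Fact q.Prime, ∀ Q : Sylow q G, HasNormalPComplement q G ∧ ∀ a ∈ Q, ∀ b ∈ Q, a * b = b * a := by
    intro q hq hqf Q
    have hq1 := hqf.out.one_lt
    have hpq := hmin q hq
    apply kp_odd_bound Q
    rw [← kcl_single Q]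
    have hQ : Nat.card (Q : Subgroup G) = q ^ (Nat.card G).factorization q := Sylow.card_eq_multiplicity Q
    have h1 := kcl_union (G := G) (μ := {q}) (π.erase q) (fun r hr => hπ r (Finset.mem_of_mem_erase hr))
    have h2 : π.erase q ∪ {q} = π := by
      rw [Finset.union_comm, ← Finset.insert_eq, Finset.insert_erase hq]
    rw [h2] at h1
    rw [← Finset.mul_prod_erase π _ hq, ← hQ] at hk
    have hpos : 0 < (π.erase q).prod (fun r => r ^ (Nat.card G).factorization r) :=
      Finset.prod_pos (fun r hr => pow_pos (hπ r (Finset.mem_of_mem_erase hr)).pos _)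
    generalize (π.erase q).prod (fun r => r ^ (Nat.card G).factorization r) = B at *
    generalize (kcl π G).ncard = k at *
    generalize (kcl {q} G).ncard = l at *
    generalize Nat.card (Q : Subgroup G) = c at *
    have h3 : ((p + 1) * c) * B < (2 * p * l) * B := by
      calc ((p + 1) * c) * B = (p + 1) * (c * B) := by ring
        _ < 2 * p * k := hk
        _ ≤ 2 * p * (l * B) := Nat.mul_le_mul_left _ h1
        _ = _ := by ring
    have h4 := Nat.lt_of_mul_lt_mul_right h3
    have h5 : p * ((q + 1) * c) < p * (2 * q * l) := by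
      calc p * ((q + 1) * c) = (p * q + p) * c := by ring
        _ ≤ (p * q + q) * c := by gcongr
        _ = q * ((p + 1) * c) := by ring
        _ < q * (2 * p * l) := Nat.mul_lt_mul_of_pos_left h4 (by omega)
        _ = _ := by ring
    exact Nat.lt_of_mul_lt_mul_left h5
  obtain ⟨N, hN, h1, h2, h3⟩ := npc_inf π hπ (by
    intro q hq hqf
    obtain ⟨Q⟩ : Nonempty (Sylow q G) := inferInstance
    exact (key q hq hqf Q).1)
  haveI := hN
  refine ⟨⟨N, hN, h1, h2⟩, ?_⟩
  exact hall_of_kernel (π := (↑π : Set ℕ)) h1 h2 (h3 (fun q hq hqf Q => (key q hq hqf Q).2))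

end Cfsg.Agent.H1
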