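import Mathlib
import Cfsg.Agent.H1.KP2
import Cfsg.Agent.H1.PQuot
import Cfsg.Agent.H3.MaxNil
import Cfsg.Agent.H1.ZS3

set_option autoImplicit false
set_option linter.style.haveILetI false
set_option linter.unusedVariables false
set_option linter.unusedSectionVars false
set_option linter.unusedSimpArgs false

/-! Groups with a maximal subgroup of prime power order. -/

namespace Cfsg.Agent.H1

open Cfsg Subgroup
open scoped commutatorElement Pointwise

universe u v

theorem solvable_of_pgroup {G : Type u} [Group G] [Finite G] {p : ℕ} [hp : Fact p.Prime] (h : IsPGroup p G) : Group.IsSolvable G := by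
  haveI := h.isNilpotent
  infer_instance

theorem solvable_of_parts {G : Type u} [Group G] [Finite G] {p q : ℕ} [hp : Fact p.Prime] [hq : Fact q.Prime] {K : Subgroup G} [K.Normal]
    (hK : IsPGroup q K) (hG : IsPGroup p (G ⧸ K)) : Group.IsSolvable G := by
  rw [Group.isSolvable_iff_subgroup_quotient K]
  exact ⟨solvable_of_pgroup hK, solvable_of_pgroup hG⟩

theorem isPGroup_quot_of_sup {G : Type u} [Group G] [Finite G] {p : ℕ} [hp : Fact p.Prime] {K M : Subgroup G} [K.Normal] (hM : IsPGroup p M) (h : K ⊔ M = ⊤) :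
    IsPGroup p (G ⧸ K) := by
  intro g
  obtain ⟨g, rfl⟩ := QuotientGroup.mk'_surjective K g
  have h1 : g ∈ ((K ⊔ M : Subgroup G) : Set G) := by rw [h]; exact mem_top _
  rw [normal_mul] at h1
  obtain ⟨k, hk, m, hm, rfl⟩ := h1
  obtain ⟨n, hn⟩ := hM ⟨m, hm⟩
  refine ⟨n, ?_⟩
  have e : QuotientGroup.mk' K (k * m) = QuotientGroup.mk' K m := by
    rw [map_mul]
    have : QuotientGroup.mk' K k = 1 := (QuotientGroup.eq_one_iff k).mpr hk
    rw [this, one_mul]
  have h2 : m ^ p ^ n = 1 := congrArg Subtype.val hn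
  change (QuotientGroup.mk' K (k * m)) ^ p ^ n = 1
  rw [e, ← map_pow, h2, map_one]

/-- a maximal `p`-subgroup is a Sylow subgroup -/
theorem sylow_of_coatom {G : Type u} [Group G] [Finite G] {p : ℕ} [hp : Fact p.Prime] {M : Subgroup G} (hM : IsCoatom M) (hp : IsPGroup p M) :
    Group.IsSolvable G ∨ ∃ P : Sylow p G, (P : Subgroup G) = M := by
  obtain ⟨P, hP⟩ := hp.exists_le_sylow
  rcases eq_or_lt_of_le hP with h | h
  · exact Or.inr ⟨P, h.symm⟩
  · left
    have h1 := hM.2 _ h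
    have h2 : IsPGroup p (⊤ : Subgroup G) := h1 ▸ P.2
    exact solvable_of_pgroup (h2.of_equiv topEquiv)

theorem coatom_of_le_conj {G : Type u} [Group G] {M L : Subgroup G} (hM : IsCoatom M) {g : G} (h : ∀ m ∈ M, g * m * g⁻¹ ∈ L) :
    (∀ l ∈ L, g⁻¹ * l * g ∈ M) ∨ L = ⊤ := by
  have h1 : M ≤ L.comap (MulAut.conj g).toMonoidHom := fun m hm => h m hm
  rcases eq_or_lt_of_le h1 with h2 | h2
  · left
    intro l hl
    rw [h2]
    change g * (g⁻¹ * l * g) * g⁻¹ ∈ L
    have e : g * (g⁻¹ * l * g) * g⁻¹ = l := by group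
    rw [e]; exact hl
  · right
    have h3 := hM.2 _ h2
    rw [eq_top_iff]
    intro l _
    have h4 : g⁻¹ * l * g ∈ L.comap (MulAut.conj g).toMonoidHom := h3 ▸ mem_top _
    have h5 : g * (g⁻¹ * l * g) * g⁻¹ ∈ L := h4
    have e : g * (g⁻¹ * l * g) * g⁻¹ = l := by group
    rwa [e] at h5

/-- a subgroup of index prime to `p` contains a Sylow `p`-subgroup -/
theorem exists_sylow_le {G : Type u} [Group G] [Finite G] {p : ℕ} [hp : Fact p.Prime] {L : Subgroup G} (hL : ¬ p ∣ L.index) : ∃ P : Sylow p G, (P : Subgroup G) ≤ L := by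
  obtain ⟨R⟩ : Nonempty (Sylow p L) := inferInstance
  have h1 : IsPGroup p ((R : Subgroup L).map L.subtype) := R.2.map _
  obtain ⟨P, hP⟩ := h1.exists_le_sylow
  refine ⟨P, ?_⟩
  have h2 : Nat.card ((R : Subgroup L).map L.subtype) = Nat.card (P : Subgroup G) := by
    rw [Nat.card_congr ((R : Subgroup L).equivMapOfInjective _ (subtype_injective _)).symm.toEquiv, Sylow.card_eq_multiplicity R, Sylow.card_eq_multiplicity P]
    congr 1
    rw [← card_mul_index L, Nat.factorization_mul Nat.card_pos.ne' index_ne_zero_of_finite, Finsupp.add_apply,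
      Nat.factorization_eq_zero_of_not_dvd hL, add_zero]
  rw [← eq_of_le_of_card_ge hP h2.ge]
  exact map_subtype_le _

theorem solvable_of_coatom_core {G : Type u} [Group G] [Finite G] {p : ℕ} [hp : Fact p.Prime] {M : Subgroup G} (hM : IsCoatom M) (hMp : IsPGroup p M)
    {K : Subgroup G} [hK : K.Normal] (hK1 : K ≠ ⊥) (hKp : ¬ p ∣ Nat.card K) : Group.IsSolvable G := by
  have hc : Nat.card K ≠ 1 := fun h => hK1 (card_eq_one.mp h)
  obtain ⟨q, hq, hqK⟩ := Nat.exists_prime_and_dvd hc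
  haveI : Fact q.Prime := ⟨hq⟩
  have hqp : q ≠ p := by rintro rfl; exact hKp hqK
  obtain ⟨Q⟩ : Nonempty (Sylow q K) := inferInstance
  set Q' := (Q : Subgroup K).map K.subtype with hQ'
  have hQp : IsPGroup q Q' := Q.2.map _
  have hQ1 : ∃ t ∈ Q', t ≠ 1 := by
    by_contra hcon
    push Not at hcon
    have : Nat.card (Q : Subgroup K) = 1 := by
      rw [card_eq_one, eq_bot_iff]
      intro t ht
      have h1 : (t : G) = 1 := hcon _ ⟨t, ht, rfl⟩
      exact Subtype.ext h1
    exact Q.not_dvd_index (by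
      have h2 := card_mul_index (Q : Subgroup K)
      rw [this, one_mul] at h2
      rw [h2]; exact hqK)
  have hfr : normalizer (Q' : Set G) ⊔ K = ⊤ := Q.normalizer_sup_eq_top
  set L := normalizer (Q' : Set G) with hL
  have hidx : ¬ p ∣ L.index := by
    intro h1
    apply hKp
    have h2 : L.index ∣ Nat.card K := by
      have h3 : K.relIndex (L ⊔ K) = K.relIndex L := relIndex_sup_right L K
      rw [hfr, relIndex_top_right] at h3
      have h4 := card_mul_index K
      have h5 := card_mul_index L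
      have h6 : Nat.card (K ⊓ L : Subgroup G) * K.relIndex L = Nat.card L := by
        have := card_mul_relIdx (inf_le_right : K ⊓ L ≤ L)
        rwa [inf_relIndex_right] at this
      rw [← h3] at h6
      have h7 : K.index * Nat.card K = K.index * (Nat.card (K ⊓ L : Subgroup G) * L.index) := by
        calc K.index * Nat.card K = Nat.card K * K.index := mul_comm _ _
          _ = Nat.card L * L.index := by rw [h4, h5]
          _ = _ := by rw [← h6]; ring
      have h8 := Nat.eq_of_mul_eq_mul_left (Nat.pos_of_ne_zero index_ne_zero_of_finite) h7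
      exact ⟨_, by rw [h8, mul_comm]⟩
    exact h1.trans h2
  obtain ⟨P, hPL⟩ := exists_sylow_le hidx
  obtain ⟨P₁, hP₁⟩ := hMp.exists_le_sylow
  obtain ⟨g, hg⟩ := MulAction.exists_smul_eq G P₁ P
  obtain ⟨t, ht, ht1⟩ := hQ1
  have hLtop : L = ⊤ := by
    rcases coatom_of_le_conj (L := L) (g := g) hM (by
      intro m hm
      apply hPL
      rw [← hg]
      exact smul_mem_pointwise_smul _ (MulAut.conj g) _ (hP₁ hm)) with h1 | h1
    · exfalso
      have h2 := h1 t (le_normalizer ht)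
      obtain ⟨a, ha⟩ := IsPGroup.iff_orderOf.mp hMp ⟨_, h2⟩
      obtain ⟨b, hb⟩ := IsPGroup.iff_orderOf.mp hQp ⟨t, ht⟩
      rw [Subgroup.orderOf_mk] at ha hb
      have h3 : orderOf (g⁻¹ * t * g) = orderOf t := ord_isConj (isConj_iff.mpr ⟨g, by group⟩)
      rw [h3, hb] at ha
      have hb0 : b ≠ 0 := by
        rintro rfl
        rw [pow_zero, orderOf_eq_one_iff] at hb
        exact ht1 hb
      have h4 : q ∣ p ^ a := ha ▸ dvd_pow_self q hb0
      exact hqp ((Nat.prime_dvd_prime_iff_eq hq hp.out).mp (hq.dvd_of_dvd_pow h4))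
    · exact h1
  haveI : Q'.Normal := normalizer_eq_top_iff.mp hLtop
  have hQM : Q' ⊔ M = ⊤ := by
    apply hM.2
    refine lt_of_le_of_ne le_sup_right ?_
    intro h1
    have h2 : t ∈ M := h1 ▸ mem_sup_left ht
    obtain ⟨a, ha⟩ := IsPGroup.iff_orderOf.mp hMp ⟨_, h2⟩
    obtain ⟨b, hb⟩ := IsPGroup.iff_orderOf.mp hQp ⟨t, ht⟩
    rw [Subgroup.orderOf_mk] at ha hb
    rw [hb] at ha
    have hb0 : b ≠ 0 := by
      rintro rfl
      rw [pow_zero, orderOf_eq_one_iff] at hb
      exact ht1 hb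
    have h4 : q ∣ p ^ a := ha ▸ dvd_pow_self q hb0
    exact hqp ((Nat.prime_dvd_prime_iff_eq hq hp.out).mp (hq.dvd_of_dvd_pow h4))
  exact solvable_of_parts hQp (isPGroup_quot_of_sup hMp hQM)

/-- a maximal subgroup of odd prime power order -/
theorem solvable_of_coatom_odd {p : ℕ} [hp : Fact p.Prime] (hp2 : p ≠ 2) {G : Type u} [Group G] [Finite G] {M : Subgroup G} (hM : IsCoatom M) (hMp : IsPGroup p M) :
    Group.IsSolvable G := by
  haveI := hMp.isNilpotent
  refine H3.solvable_of_coatom_nilpotent M hM inferInstance ?_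
  intro R
  have h1 : Nat.card R = 1 := by
    obtain ⟨a, ha⟩ := IsPGroup.iff_card.mp R.2
    obtain ⟨b, hb⟩ := IsPGroup.iff_card.mp hMp
    have h2 : Nat.card (R : Subgroup M) ∣ Nat.card M := card_subgroup_dvd_card _
    rw [ha, hb] at h2
    by_cases ha0 : a = 0
    · have h3 : Nat.card (R : Subgroup M) = 1 := by rw [ha, ha0, pow_zero]
      exact h3
    · exfalso
      have h3 : 2 ∣ p ^ b := (dvd_pow_self 2 ha0).trans h2
      exact hp2 ((Nat.prime_dvd_prime_iff_eq Nat.prime_two hp.out).mp (Nat.prime_two.dvd_of_dvd_pow h3)).symm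
  haveI : Subsingleton R := (Nat.card_eq_one_iff_unique.mp h1).1
  exact ⟨⟨fun a b => Subsingleton.elim _ _⟩⟩

theorem exists_norm_gt {G : Type u} [Group G] [Finite G] {p : ℕ} [hp : Fact p.Prime] {D R : Subgroup G} (hR : IsPGroup p R) (h1 : D ≤ R) (h2 : D ≠ R) :
    ∃ s ∈ R, s ∈ normalizer (D : Set G) ∧ s ∉ D := by
  have h3 := lt_normalizer_inf_of_lt hR.isNilpotent (lt_of_le_of_ne h1 h2)
  obtain ⟨s, hs, hsD⟩ := SetLike.exists_of_lt h3
  obtain ⟨h4, h5⟩ := Subgroup.mem_inf.mp hs
  exact ⟨s, h5, h4, hsD⟩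

theorem exists_fixed_in_coset {G : Type u} [Group G] [Finite G] {p q : ℕ} [hp : Fact p.Prime] [hq : Fact q.Prime] (hpq : q ≠ p) {D N : Subgroup G} [hNn : N.Normal] (hD : IsPGroup p D)
    {c : G} (hc : c ∈ normalizer (D : Set G)) (hcN : c ∈ N) (hcq : orderOf c = q) {d : G} (hd : d ∈ D) (hdN : d ∉ N) :
    ∃ e ∈ D, e ∉ N ∧ c * e * c⁻¹ = e := by
  let X := {t : G // t ∈ D ∧ d⁻¹ * t ∈ N}
  have hact : ∀ g ∈ zpowers c, ∀ t : G, (t ∈ D ∧ d⁻¹ * t ∈ N) → (g * t * g⁻¹ ∈ D ∧ d⁻¹ * (g * t * g⁻¹) ∈ N) := by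
    rintro g hg t ⟨h1, h2⟩
    have hgN : g ∈ N := (zpowers_le.mpr hcN) hg
    have hgD : g ∈ normalizer (D : Set G) := (zpowers_le.mpr hc) hg
    refine ⟨(mem_normalizer_iff.mp hgD t).mp h1, ?_⟩
    have e : d⁻¹ * (g * t * g⁻¹) = (d⁻¹ * g * d⁻¹⁻¹) * (d⁻¹ * t) * g⁻¹ := by group
    rw [e]
    exact mul_mem (mul_mem (hNn.conj_mem g hgN _) h2) (inv_mem hgN)
  letI : MulAction (zpowers c) X :=
    { smul := fun g t => ⟨(g : G) * t.1 * (g : G)⁻¹, hact g g.2 t.1 t.2⟩
      one_smul := fun t => Subtype.ext (by change ((1 : zpowers c) : G) * t.1 * ((1 : zpowers c) : G)⁻¹ = t.1; simp)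
      mul_smul := fun g h t => Subtype.ext (by
        change ((g * h : zpowers c) : G) * t.1 * ((g * h : zpowers c) : G)⁻¹ = (g : G) * ((h : G) * t.1 * (h : G)⁻¹) * (g : G)⁻¹
        rw [Subgroup.coe_mul]; group) }
  have hcp : IsPGroup q (zpowers c) := IsPGroup.of_card (n := 1) (by rw [Nat.card_zpowers, hcq, pow_one])
  have hX : ¬ q ∣ Nat.card X := by
    have h1 : Nat.card X = Nat.card (D ⊓ N : Subgroup G) := by
      apply Nat.card_congr
      exact
        { toFun := fun t => ⟨d⁻¹ * t.1, Subgroup.mem_inf.mpr ⟨mul_mem (inv_mem hd) t.2.1, t.2.2⟩⟩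
          invFun := fun s => ⟨d * s.1, mul_mem hd (Subgroup.mem_inf.mp s.2).1, by
            have := (Subgroup.mem_inf.mp s.2).2
            rwa [← mul_assoc, inv_mul_cancel, one_mul]⟩
          left_inv := fun t => Subtype.ext (by change d * (d⁻¹ * t.1) = t.1; group)
          right_inv := fun s => Subtype.ext (by change d⁻¹ * (d * s.1) = s.1; group) }
    obtain ⟨n, hn⟩ := IsPGroup.iff_card.mp (hD.to_le (inf_le_left : D ⊓ N ≤ D))
    rw [h1, hn]
    intro h2
    exact hpq ((Nat.prime_dvd_prime_iff_eq hq.out hp.out).mp (hq.out.dvd_of_dvd_pow h2))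
  obtain ⟨e, he⟩ := hcp.nonempty_fixed_point_of_prime_not_dvd_card X hX
  refine ⟨e.1, e.2.1, ?_, ?_⟩
  · intro h1
    apply hdN
    have h2 := e.2.2
    have e1 : d = e.1 * (d⁻¹ * e.1)⁻¹ := by group
    rw [e1]
    exact mul_mem h1 (inv_mem h2)
  · have h1 := he ⟨c, mem_zpowers c⟩
    exact congrArg Subtype.val h1

theorem solvable_of_bot_coatom {G : Type u} [Group G] [Finite G] (h : IsCoatom (⊥ : Subgroup G)) : Group.IsSolvable G := by
  obtain ⟨x, hx⟩ : ∃ x : G, x ≠ 1 := by
    by_contra hcon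
    push Not at hcon
    apply h.1
    rw [eq_comm, eq_bot_iff]
    intro x _
    rw [mem_bot]; exact hcon x
  have h1 : zpowers x = ⊤ := by
    apply h.2
    rw [bot_lt_iff_ne_bot]
    intro h
    exact hx (zpowers_eq_bot.mp h)
  haveI : Group.IsSolvable (⊤ : Subgroup G) := by
    rw [← h1]; infer_instance
  exact solvable_of_surjective (f := (topEquiv : (⊤ : Subgroup G) ≃* G).toMonoidHom) topEquiv.surjective

/-- an involution outside all conjugates -/
theorem centralizer_pgroup {G : Type u} [Group G] [Finite G] {N : Subgroup G} [N.Normal] (hpp : ∀ x : G, x ∉ N → IsPrimePow (orderOf x)) {p : ℕ} [hp : Fact p.Prime]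
    {x : G} (hx : x ∉ N) {k : ℕ} (hk : orderOf x = p ^ k) : IsPGroup p (centralizer ({x} : Set G)) := by
  -- every element of prime order `q` has `q = p`
  have key : ∀ y ∈ centralizer ({x} : Set G), ∀ q : ℕ, q.Prime → orderOf y = q → q = p := by
    intro y hy q hq hyq
    by_contra hqp
    have hcomm : Commute x y := (mem_centralizer_singleton_iff.mp hy).symm
    have hxy : x * y ∉ N := by
      intro h
      -- `x ^ q ∈ N`
      have h1 : (x * y) ^ q ∈ N := pow_mem h q
      rw [hcomm.mul_pow, ← hyq, pow_orderOf_eq_one, mul_one, hyq] at h1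
      -- `q` is prime to the order of `x`
      have hcop : (orderOf x).Coprime q := by
        rw [hk]
        exact Nat.Coprime.pow_left k ((Nat.coprime_primes hp.out hq).mpr (Ne.symm hqp))
      obtain ⟨m, hm⟩ := exists_pow_eq_self_of_coprime hcop.symm
      apply hx
      rw [← hm]
      exact pow_mem h1 m
    have h1 := hpp _ hxy
    have hcop : (orderOf x).Coprime (orderOf y) := by
      rw [hk, hyq]
      exact Nat.Coprime.pow_left k ((Nat.coprime_primes hp.out hq).mpr (Ne.symm hqp))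
    rw [hcomm.orderOf_mul_eq_mul_orderOf_of_coprime hcop, hk, hyq] at h1
    have hk0 : k ≠ 0 := by
      rintro rfl
      rw [pow_zero, orderOf_eq_one_iff] at hk
      rw [hk] at hx
      exact hx (one_mem _)
    obtain ⟨r, n, hr, hn, hrn⟩ := (isPrimePow_nat_iff _).mp h1
    have h2 : p ∣ r ^ n := by rw [hrn]; exact (dvd_pow_self p hk0).mul_right _
    have h3 : q ∣ r ^ n := by rw [hrn]; exact dvd_mul_left _ _
    have h4 := (Nat.prime_dvd_prime_iff_eq hp.out hr).mp (hp.out.dvd_of_dvd_pow h2)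
    have h5 := (Nat.prime_dvd_prime_iff_eq hq hr).mp (hq.dvd_of_dvd_pow h3)
    exact hqp (h5.trans h4.symm)
  rw [IsPGroup.iff_card]
  refine ⟨_, Nat.eq_prime_pow_of_unique_prime_dvd Nat.card_pos.ne' ?_⟩
  intro q hq hqc
  haveI : Fact q.Prime := ⟨hq⟩
  obtain ⟨y, hy⟩ := exists_prime_orderOf_dvd_card' q hqc
  refine key y y.2 q hq ?_
  rw [Subgroup.orderOf_coe]; exact hy

theorem s3903_aux {G : Type u} [Group G] [Finite G] (N : Subgroup G) [N.Normal] (hN : N ≠ ⊤)
    (h : ∀ x : G, x ∉ N → IsPrimePow (orderOf x) ∧ IsCoatom (Subgroup.centralizer ({x} : Set G))) : Group.IsSolvable ↥N := by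
  by_contra hNs
  have hGs : ¬ Group.IsSolvable G := fun hs => hNs (by haveI := hs; infer_instance)
  haveI f2 : Fact (Nat.Prime 2) := ⟨Nat.prime_two⟩
  have hpp : ∀ x : G, x ∉ N → IsPrimePow (orderOf x) := fun x hx => (h x hx).1
  -- all elements outside are 2-elements
  have h2el : ∀ x : G, x ∉ N → ∃ k, orderOf x = 2 ^ k ∧ IsPGroup 2 (centralizer ({x} : Set G)) := by
    intro x hx
    obtain ⟨p, k, hp, hk, hpk⟩ := (isPrimePow_nat_iff _).mp (h x hx).1
    haveI : Fact p.Prime := ⟨hp⟩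
    have h1 := centralizer_pgroup hpp hx hpk.symm
    by_cases hp2 : p = 2
    · subst hp2; exact ⟨k, hpk.symm, h1⟩
    · exact absurd (solvable_of_coatom_odd hp2 (h x hx).2 h1) hGs
  obtain ⟨x, hx⟩ : ∃ x : G, x ∉ N := by
    by_contra hcon
    push Not at hcon
    exact hN ((eq_top_iff).mpr fun x _ => hcon x)
  obtain ⟨k, hk, hCp⟩ := h2el x hx
  have hC := (h x hx).2
  obtain ⟨P, hP⟩ := (sylow_of_coatom hC hCp).resolve_left hGs
  -- `N P = G`
  have hNP : N ⊔ (P : Subgroup G) = ⊤ := by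
    rw [hP]
    apply hC.2
    refine lt_of_le_of_ne le_sup_right ?_
    intro h1
    apply hNs
    have h2 : N ≤ centralizer ({x} : Set G) := h1 ▸ le_sup_left
    exact solvable_of_pgroup (hCp.to_le h2)
  have hGN : IsPGroup 2 (G ⧸ N) := isPGroup_quot_of_sup P.2 hNP
  have hodd : ∀ c : G, Odd (orderOf c) → c ∈ N := by
    intro c hc
    obtain ⟨n, hn⟩ := hGN (QuotientGroup.mk' N c)
    rw [← map_pow] at hn
    exact odd_sq_mem hc ((QuotientGroup.eq_one_iff _).mp hn)
  -- intersections of Sylow subgroups lie in `N`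
  have hint : ∀ P₁ P₂ : Sylow 2 G, P₁ ≠ P₂ → ((P₁ : Subgroup G) ⊓ (P₂ : Subgroup G)) ≤ N := by
    by_contra hcon
    push Not at hcon
    obtain ⟨P₁, P₂, hne, hnle⟩ := hcon
    -- choose a maximal intersection
    have hfin : (Set.range (fun Q : Sylow 2 G × Sylow 2 G => Nat.card ((Q.1 : Subgroup G) ⊓ (Q.2 : Subgroup G) : Subgroup G))).Finite := Set.finite_range _
    obtain ⟨⟨R₁, R₂⟩, ⟨hR, hRN⟩, hmax⟩ := Set.exists_max_image {Q : Sylow 2 G × Sylow 2 G | Q.1 ≠ Q.2 ∧ ¬ ((Q.1 : Subgroup G) ⊓ (Q.2 : Subgroup G)) ≤ N}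
      (fun Q => Nat.card ((Q.1 : Subgroup G) ⊓ (Q.2 : Subgroup G) : Subgroup G)) (Set.toFinite _) ⟨(P₁, P₂), hne, hnle⟩
    set D := (R₁ : Subgroup G) ⊓ (R₂ : Subgroup G) with hD
    have hgrow : ∀ R : Sylow 2 G, D ≤ R → D ≠ R → ∃ s ∈ (R : Subgroup G), s ∈ normalizer (D : Set G) ∧ s ∉ D := by
      intro R h1 h2
      have h3 := exists_norm_gt R.2 h1 h2
      exact h3
    have hDR1 : D ≠ R₁ := by
      intro h1
      apply hR
      apply Sylow.ext
      have h2 : (R₁ : Subgroup G) ≤ R₂ := h1 ▸ inf_le_right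
      exact (R₁.3 R₂.2 h2).symm
    have hDR2 : D ≠ R₂ := by
      intro h1
      apply hR
      apply Sylow.ext
      have h2 : (R₂ : Subgroup G) ≤ R₁ := h1 ▸ inf_le_left
      exact R₂.3 R₁.2 h2
    -- the normalizer is not a 2-group
    have hL : ¬ IsPGroup 2 (normalizer (D : Set G)) := by
      intro hL
      obtain ⟨R₃, hR₃⟩ := hL.exists_le_sylow
      have key : ∀ R : Sylow 2 G, D ≤ R → D ≠ R → R = R₃ := by
        intro R h1 h2
        by_contra hne
        obtain ⟨s, hs, hsN, hsD⟩ := hgrow R h1 h2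
        have h3 : D ≤ (R : Subgroup G) ⊓ (R₃ : Subgroup G) := le_inf h1 (le_normalizer.trans hR₃)
        have h4 := hmax (R, R₃) ⟨hne, fun h5 => hRN (h3.trans h5)⟩
        have h5 : D = (R : Subgroup G) ⊓ (R₃ : Subgroup G) := eq_of_le_of_card_ge h3 h4
        exact hsD (h5 ▸ Subgroup.mem_inf.mpr ⟨hs, hR₃ hsN⟩)
      exact hR ((key R₁ inf_le_left hDR1).trans (key R₂ inf_le_right hDR2).symm)
    obtain ⟨c, hcN, q, hq, hq2, hcq⟩ : ∃ c ∈ normalizer (D : Set G), ∃ q : ℕ, q.Prime ∧ q ≠ 2 ∧ orderOf c = q := by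
      by_contra hcon
      push Not at hcon
      apply hL
      rw [IsPGroup.iff_card]
      refine ⟨_, Nat.eq_prime_pow_of_unique_prime_dvd Nat.card_pos.ne' ?_⟩
      intro q hq hqc
      by_contra hq2
      haveI : Fact q.Prime := ⟨hq⟩
      obtain ⟨y, hy⟩ := exists_prime_orderOf_dvd_card' q hqc
      rw [← Subgroup.orderOf_coe] at hy
      exact hcon y y.2 q hq hq2 hy
    haveI : Fact q.Prime := ⟨hq⟩
    have hcodd : Odd (orderOf c) := by rw [hcq]; exact hq.odd_of_ne_two hq2
    have hc1 : c ≠ 1 := by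
      rintro rfl
      rw [orderOf_one] at hcq
      exact hq.one_lt.ne hcq
    -- a fixed point outside `N`
    have hcN' := hodd c hcodd
    obtain ⟨d, hdD, hdN⟩ := SetLike.not_le_iff_exists.mp hRN
    -- the action of `c` on the coset
    have hfix : ∃ e ∈ D, e ∉ N ∧ c * e * c⁻¹ = e := by
      have hDp : IsPGroup 2 D := R₁.2.to_le inf_le_left
      exact exists_fixed_in_coset hq2 hDp hcN hcN' hcq hdD hdN
    obtain ⟨e, heD, heN, hec⟩ := hfix
    obtain ⟨-, -, hep⟩ := h2el e heN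
    have hce : c ∈ centralizer ({e} : Set G) := by
      rw [mem_centralizer_singleton_iff]
      exact mul_inv_eq_iff_eq_mul.mp hec
    obtain ⟨n, hn⟩ := hep ⟨c, hce⟩
    have hn' : c ^ 2 ^ n = 1 := congrArg Subtype.val hn
    have h6 : c ∈ (⊥ : Subgroup G) := odd_sq_mem hcodd (n := n) (by rw [hn']; exact one_mem _)
    exact hc1 (mem_bot.mp h6)
  -- `P` is self-normalizing
  have hnorm : ∀ g : G, (∀ t : G, t ∈ (P : Subgroup G) ↔ g * t * g⁻¹ ∈ (P : Subgroup G)) → g ∈ (P : Subgroup G) := by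
    intro g hg
    have hgN : g ∈ normalizer ((P : Subgroup G) : Set G) := mem_normalizer_iff.mpr hg
    rcases eq_or_lt_of_le (le_normalizer : (P : Subgroup G) ≤ normalizer ((P : Subgroup G) : Set G)) with h1 | h1
    · exact h1 ▸ hgN
    · exfalso
      rw [hP] at h1
      have h2 := hC.2 _ h1
      haveI : (centralizer ({x} : Set G)).Normal := normalizer_eq_top_iff.mp h2
      apply hGs
      rw [Group.isSolvable_iff_subgroup_quotient (centralizer ({x} : Set G))]
      refine ⟨solvable_of_pgroup hCp, ?_⟩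
      apply solvable_of_bot_coatom
      have h3 := H3.isCoatom_map_mk (centralizer ({x} : Set G)) _ le_rfl hC
      rwa [QuotientGroup.map_mk'_self] at h3
  -- fusion
  have hfus : ∀ u : G, centralizer ({u} : Set G) = P → ∀ g : G, g * u * g⁻¹ ∈ (P : Subgroup G) → g * u * g⁻¹ = u := by
    intro u hu g hg
    have h1 : (g * u * g⁻¹) * x = x * (g * u * g⁻¹) := by
      rw [hP] at hg
      exact mem_centralizer_singleton_iff.mp hg
    have h2 : g⁻¹ * x * g ∈ (P : Subgroup G) := by
      rw [← hu, mem_centralizer_singleton_iff]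
      calc g⁻¹ * x * g * u = g⁻¹ * (x * (g * u * g⁻¹)) * g := by group
        _ = g⁻¹ * ((g * u * g⁻¹) * x) * g := by rw [h1]
        _ = _ := by group
    have hxP : x ∈ (P : Subgroup G) := by rw [hP, mem_centralizer_singleton_iff]
    have h3 : x ∈ ((P : Subgroup G) ⊓ ((g • P : Sylow 2 G) : Subgroup G)) := Subgroup.mem_inf.mpr ⟨hxP, mem_smul_sylow.mpr h2⟩
    have h4 : P = g • P := by
      by_contra hne
      exact hx (hint _ _ hne h3)
    have h5 : g ∈ (P : Subgroup G) := by
      apply hnorm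
      intro t
      have h6 : g * t * g⁻¹ ∈ g • P ↔ t ∈ P := by
        rw [mem_smul_sylow]
        have e : g⁻¹ * (g * t * g⁻¹) * g = t := by group
        rw [e]
      rw [← h4] at h6
      exact h6.symm
    rw [← hu, mem_centralizer_singleton_iff] at h5
    rw [h5]; group
  -- the element `u`
  have hxc : x ∉ center G := by
    intro h1
    apply hC.1
    rw [eq_top_iff]
    intro g _
    rw [mem_centralizer_singleton_iff]
    exact mem_center_iff.mp h1 g
  have hex : ∃ i, x ^ 2 ^ i ∈ center G := ⟨k, by rw [← hk, pow_orderOf_eq_one]; exact one_mem _⟩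
  classical
  set i₀ := Nat.find hex with hi₀
  have hi1 : x ^ 2 ^ i₀ ∈ center G := Nat.find_spec hex
  have hi0 : i₀ ≠ 0 := by
    intro h1
    rw [h1, pow_zero, pow_one] at hi1
    exact hxc hi1
  obtain ⟨j, hj⟩ : ∃ j, i₀ = j + 1 := ⟨i₀ - 1, by omega⟩
  have huc : x ^ 2 ^ j ∉ center G := Nat.find_min hex (by omega)
  set u := x ^ 2 ^ j with hu
  have huu : u * u ∈ center G := by
    have : u * u = x ^ 2 ^ i₀ := by rw [hu, hj, ← pow_add]; congr 1; ring
    rw [this]; exact hi1
  have hCu : centralizer ({u} : Set G) = P := by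
    have h1 : centralizer ({x} : Set G) ≤ centralizer ({u} : Set G) := by
      intro t ht
      rw [mem_centralizer_singleton_iff] at ht ⊢
      have h2 : Commute t x := ht
      exact h2.pow_right _
    rcases eq_or_lt_of_le h1 with h2 | h2
    · rw [hP]; exact h2.symm
    · exfalso
      have h3 := hC.2 _ h2
      apply huc
      rw [mem_center_iff]
      intro g
      have h4 : g ∈ centralizer ({u} : Set G) := h3 ▸ mem_top _
      exact mem_centralizer_singleton_iff.mp h4
  have huP : u ∈ (P : Subgroup G) := by rw [← hCu, mem_centralizer_singleton_iff]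
  set Z := zpowers (u * u) with hZ
  have hZc : Z ≤ center G := zpowers_le.mpr huu
  haveI hZn : Z.Normal := by
    refine ⟨fun z hz g => ?_⟩
    have h1 := mem_center_iff.mp (hZc hz) g
    rw [h1, mul_assoc, mul_inv_cancel, mul_one]; exact hz
  have hZP : Z ≤ P := zpowers_le.mpr (mul_mem huP huP)
  have hZp : IsPGroup 2 Z := P.2.to_le hZP
  let f := QuotientGroup.mk' Z
  have hker : ∀ g : G, f g = 1 ↔ g ∈ Z := fun g => QuotientGroup.eq_one_iff g
  have hfu1 : f u ≠ 1 := fun h1 => huc (hZc ((hker u).mp h1))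
  have hfuu : f u * f u = 1 := by
    rw [← map_mul, hker]; exact mem_zpowers _
  have hord : orderOf (f u) = 2 := orderOf_eq_prime (by rw [pow_two, hfuu]) hfu1
  have hiso : IsIsolatedInvolution (f u) := by
    refine ⟨hord, ?_⟩
    intro g' hcomm
    obtain ⟨g, rfl⟩ := QuotientGroup.mk'_surjective Z g'
    have hfw : f g * f u * (f g)⁻¹ = f (g * u * g⁻¹) := by rw [map_mul, map_mul, map_inv]
    change Commute (f u) (f g * f u * (f g)⁻¹) at hcomm
    change f g * f u * (f g)⁻¹ = f u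
    rw [hfw] at hcomm ⊢
    set w := g * u * g⁻¹ with hw
    have hww : f w * f w = 1 := by
      rw [← hfw]
      calc f g * f u * (f g)⁻¹ * (f g * f u * (f g)⁻¹) = f g * (f u * f u) * (f g)⁻¹ := by group
        _ = 1 := by rw [hfuu]; group
    have hp2 : ∀ a : G ⧸ Z, a * a = 1 → IsPGroup 2 (zpowers a) := by
      intro a ha
      have h1 : orderOf a ∣ 2 := orderOf_dvd_of_pow_eq_one (by rw [pow_two, ha])
      rcases (Nat.dvd_prime Nat.prime_two).mp h1 with h2 | h2
      · exact IsPGroup.of_card (n := 0) (by rw [Nat.card_zpowers, h2, pow_zero])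
      · exact IsPGroup.of_card (n := 1) (by rw [Nat.card_zpowers, h2, pow_one])
    have hE : IsPGroup 2 (zpowers (f u) ⊔ zpowers (f w) : Subgroup (G ⧸ Z)) := by
      refine (hp2 _ hfuu).to_sup_of_normal_right' (hp2 _ hww) ?_
      rw [zpowers_le]
      have h1 : zpowers (f w) ≤ centralizer ({f u} : Set (G ⧸ Z)) := by
        rw [zpowers_le, mem_centralizer_singleton_iff]
        exact hcomm.symm
      have h2 : f u ∈ centralizer ((zpowers (f w) : Subgroup (G ⧸ Z)) : Set (G ⧸ Z)) := by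
        rw [mem_centralizer_iff]
        intro t ht
        exact mem_centralizer_singleton_iff.mp (h1 ht)
      exact centralizer_le_normalizer _ h2
    have hE' := hE.comap_of_ker_isPGroup f (by
      have : f.ker = Z := QuotientGroup.ker_mk' Z
      rw [this]; exact hZp)
    obtain ⟨R, hR⟩ := hE'.exists_le_sylow
    have huR : u ∈ (R : Subgroup G) := hR (mem_sup_left (mem_zpowers _))
    have hwR : w ∈ (R : Subgroup G) := hR (mem_sup_right (mem_zpowers _))
    obtain ⟨t, ht⟩ := MulAction.exists_smul_eq G P R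
    have h1 : t⁻¹ * u * t ∈ (P : Subgroup G) := by
      rw [← ht] at huR
      exact mem_smul_sylow.mp huR
    have h2 := hfus u hCu t⁻¹ (by rw [inv_inv]; exact h1)
    have h3 : t⁻¹ ∈ (P : Subgroup G) := by
      rw [← hCu, mem_centralizer_singleton_iff]
      exact mul_inv_eq_iff_eq_mul.mp h2
    have h4 : w ∈ (P : Subgroup G) := by
      rw [← ht] at hwR
      have h5 : t⁻¹ * w * t ∈ (P : Subgroup G) := mem_smul_sylow.mp hwR
      have e : w = t * (t⁻¹ * w * t) * t⁻¹ := by group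
      rw [e]
      exact mul_mem (mul_mem (by simpa using inv_mem h3) h5) h3
    have h6 : w = u := hfus u hCu g h4
    rw [h6]
  have hz := zstar hiso
  set K := oddCore (G ⧸ Z) with hK
  have hK1 : K ≠ ⊥ := by
    intro h1
    apply huc
    rw [mem_center_iff]
    intro g
    have h2 := hz (f g)
    rw [h1, mem_bot] at h2
    have h3 : u * g * u⁻¹ * g⁻¹ ∈ Z := by
      rw [← hker, map_mul, map_mul, map_mul, map_inv, map_inv]; exact h2
    have h4 : g * u⁻¹ * g⁻¹ ∈ (P : Subgroup G) := by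
      have e : g * u⁻¹ * g⁻¹ = u⁻¹ * (u * (g * u⁻¹ * g⁻¹)) := by group
      rw [e]
      refine mul_mem (inv_mem huP) (hZP ?_)
      have e2 : u * (g * u⁻¹ * g⁻¹) = u * g * u⁻¹ * g⁻¹ := by group
      rw [e2]; exact h3
    have h5 : g * u * g⁻¹ ∈ (P : Subgroup G) := by
      have e : g * u * g⁻¹ = (g * u⁻¹ * g⁻¹)⁻¹ := by group
      rw [e]; exact inv_mem h4
    exact mul_inv_eq_iff_eq_mul.mp (hfus u hCu g h5)
  apply hGs
  rw [Group.isSolvable_iff_subgroup_quotient Z]
  refine ⟨solvable_of_pgroup hZp, ?_⟩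
  have hMc : IsCoatom ((P : Subgroup G).map (QuotientGroup.mk' Z)) := H3.isCoatom_map_mk Z _ hZP (by rw [hP]; exact hC)
  refine solvable_of_coatom_core (p := 2) hMc (P.2.map _) (K := K) hK1 ?_
  have := L0.odd_card_oddCore (G ⧸ Z)
  exact this.not_two_dvd_nat

end Cfsg.Agent.H1
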