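import Mathlib
import Cfsg.Agent.H1.BS2
import Cfsg.Agent.H1.BS0

set_option autoImplicit false
set_option linter.style.haveILetI false
set_option linter.unusedVariables false
set_option linter.unusedSectionVars false
set_option linter.unusedSimpArgs false

/-! Generalized characters of norm three. -/

namespace Cfsg.Agent.H1

open Cfsg Cfsg.Agent.H5
open scoped ComplexConjugate

universe u

theorem norm_three_chars {G : Type u} [Group G] [Fintype G] {f : G → ℂ} (hf : IsGeneralizedCharacter G f)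
    (h3 : classInner f f = 3) (h1 : classInner f (fun _ => (1 : ℂ)) = 1) (h0 : f 1 = 0) :
    ∃ χ₁ χ₂ : IrrCharacter G, (χ₁ : G → ℂ) ≠ (fun _ => 1) ∧ (χ₂ : G → ℂ) ≠ (fun _ => 1) ∧ χ₁ ≠ χ₂ ∧
      (χ₁ : G → ℂ) 1 = (χ₂ : G → ℂ) 1 + 1 ∧ (∀ g, f g = 1 - (χ₁ : G → ℂ) g + (χ₂ : G → ℂ) g) := by
  classical
  rw [isGeneralizedCharacter_iff_inner] at hf
  obtain ⟨hcl, hv⟩ := hf
  choose v hv using hv
  set i0 : IrrCharacter G := ⟨_, isIrrCharacter_trivial⟩ with hi0
  have hv0 : v i0 = 1 := by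
    have := hv i0
    rw [hi0] at this
    have h2 : classInner f ((⟨_, isIrrCharacter_trivial⟩ : IrrCharacter G) : G → ℂ) = 1 := h1
    rw [h2] at this
    exact_mod_cast this.symm
  have hexp : ∀ g, f g = ∑ χ : IrrCharacter G, (v χ : ℂ) * (χ : G → ℂ) g := by
    intro g
    rw [classFun_expansion_apply hcl]
    exact Finset.sum_congr rfl fun χ _ => by rw [hv χ]
  have hsq : ∑ χ : IrrCharacter G, v χ ^ 2 = 3 := by
    have h4 : classInner f f = ∑ χ : IrrCharacter G, ((v χ : ℂ)) ^ 2 := by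
      rw [classInner_eq_sum hcl]
      refine Finset.sum_congr rfl fun χ _ => ?_
      rw [hv χ, map_intCast, pow_two]
    rw [h3] at h4
    exact_mod_cast h4.symm
  obtain ⟨i, j, hi, hj, hij, hii0, hji0, hvi, hvj, hrest⟩ := norm_three Finset.univ v (Finset.mem_univ i0) hv0 hsq
  have hf3 : ∀ g, f g = 1 + (v i : ℂ) * (i : G → ℂ) g + (v j : ℂ) * (j : G → ℂ) g := by
    intro g
    rw [hexp g, sum_three Finset.univ (fun χ : IrrCharacter G => (v χ : ℂ) * (χ : G → ℂ) g) (Finset.mem_univ i0) hi hj hij hii0 hji0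
      (fun k hk h0 h1 h2 => by simp only [hrest k hk h0 h1 h2]; simp)]
    rw [hv0]
    have : (i0 : G → ℂ) g = 1 := rfl
    rw [this]; push_cast; ring
  obtain ⟨a, ha, ha2⟩ := degree_pos i
  obtain ⟨b, hb, hb2⟩ := degree_pos j
  have hne : ∀ k : IrrCharacter G, k ≠ i0 → (k : G → ℂ) ≠ (fun _ => 1) := by
    intro k hk h
    exact hk (Subtype.ext h)
  have h5 := hf3 1
  rw [h0, ha2, hb2] at h5
  rcases hvi with hvi | hvi <;> rcases hvj with hvj | hvj <;> rw [hvi, hvj] at h5
  · exfalso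
    have : (0 : ℂ) = ((1 + a + b : ℕ) : ℂ) := by push_cast; rw [h5]; push_cast; ring
    have h6 : 0 = 1 + a + b := by exact_mod_cast this
    omega
  · refine ⟨j, i, hne j hji0, hne i hii0, hij.symm, ?_, ?_⟩
    · rw [ha2, hb2]; push_cast at h5; linear_combination h5
    · intro g; rw [hf3 g, hvi, hvj]; push_cast; ring
  · refine ⟨i, j, hne i hii0, hne j hji0, hij, ?_, ?_⟩
    · rw [ha2, hb2]; push_cast at h5; linear_combination h5
    · intro g; rw [hf3 g, hvi, hvj]; push_cast; ring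
  · exfalso
    have : ((a + b : ℕ) : ℂ) = ((1 : ℕ) : ℂ) := by push_cast at h5 ⊢; linear_combination h5
    have h6 : a + b = 1 := by exact_mod_cast this
    omega

theorem sum_hom_eq_zero {C : Type u} [Group C] [Fintype C] (μ : C →* ℂˣ) (h : μ ≠ 1) : ∑ c : C, ((μ c : ℂˣ) : ℂ) = 0 := by
  have h1 := sum_hom_units_eq_zero ((Units.coeHom ℂ).comp μ) (by
    intro h2
    apply h
    ext c
    have := DFunLike.congr_fun h2 c
    simpa using this)
  simpa using h1

end Cfsg.Agent.H1
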