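import Mathlib
import Cfsg.Agent.H1.Rank1
import Cfsg.Agent.H1.Replace
import Cfsg.Agent.H1.KP2

set_option autoImplicit false
set_option linter.style.haveILetI false
set_option linter.unusedVariables false
set_option linter.unusedSectionVars false
set_option linter.unusedSimpArgs false

/-! `p`-groups in which subgroups of the same order look alike. -/

namespace Cfsg.Agent.H1

open Cfsg Subgroup
open scoped commutatorElement Pointwise

universe u v

theorem quat_order_four {n : ℕ} [NeZero n] (i : ZMod (2 * n)) : orderOf (QuaternionGroup.xa i : QuaternionGroup n) = 4 := QuaternionGroup.orderOf_xa i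

/-- joining a normalizing element of order `p` -/
theorem card_sup_zpowers_prime {G : Type u} [Group G] [Finite G] {p : ℕ} (hp : p.Prime) {A : Subgroup G} {y : G} (hy : y ∈ normalizer (A : Set G)) (hyA : y ∉ A)
    (hyp : y ^ p = 1) : Nat.card (A ⊔ zpowers y : Subgroup G) = p * Nat.card A := by
  have h1 := card_sup_mul_card_inf (A := A) (B := zpowers y) (zpowers_le.mpr hy)
  have hy1 : y ≠ 1 := by rintro rfl; exact hyA (one_mem _)
  have hoy : orderOf y = p := by
    haveI : Fact p.Prime := ⟨hp⟩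
    exact orderOf_eq_prime hyp hy1
  have h2 : A ⊓ zpowers y = ⊥ := by
    have h3 : Nat.card (A ⊓ zpowers y : Subgroup G) ∣ p := by
      have := card_dvd_of_le (inf_le_right : A ⊓ zpowers y ≤ zpowers y)
      rwa [Nat.card_zpowers, hoy] at this
    rcases (Nat.dvd_prime hp).mp h3 with h4 | h4
    · exact card_eq_one.mp h4
    · exfalso
      have h5 : A ⊓ zpowers y = zpowers y := eq_of_le_of_card_ge inf_le_right (by rw [h4, Nat.card_zpowers, hoy])
      apply hyA
      have : y ∈ A ⊓ zpowers y := by rw [h5]; exact mem_zpowers y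
      exact (Subgroup.mem_inf.mp this).1
  rw [h2, card_bot, mul_one, Nat.card_zpowers, hoy] at h1
  rw [h1, mul_comm]

/-- either there is an elementary abelian subgroup of order `p²`, or the group is cyclic or quaternion -/
theorem pp_or_rank_one {P : Type u} [Group P] [Finite P] {p : ℕ} [hp : Fact p.Prime] (hP : IsPGroup p P) :
    (∃ V : Subgroup P, Nat.card V = p ^ 2 ∧ (∀ v ∈ V, v ^ p = 1) ∧ ∀ v ∈ V, ∀ w ∈ V, v * w = w * v) ∨
      IsCyclic P ∨ (p = 2 ∧ ∃ n : ℕ, 1 ≤ n ∧ Nonempty (P ≃* QuaternionGroup (2 ^ n))) := by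
  by_cases h : ∀ H K : Subgroup P, Nat.card H = p → Nat.card K = p → H = K
  · exact Or.inr (cyclic_or_quat hP h)
  left
  push Not at h
  obtain ⟨H, K, hH, hK, hne⟩ := h
  have hnt : Nontrivial P := by
    by_contra hcon
    rw [not_nontrivial_iff_subsingleton] at hcon
    have : Nat.card H ≤ Nat.card P := card_le_card_group H
    rw [hH, Nat.card_of_subsingleton 1] at this
    exact absurd hp.out.one_lt (by omega)
  -- a central subgroup of order p
  have hc : Nontrivial (center P) := hP.center_nontrivial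
  obtain ⟨z, hz⟩ : ∃ z : center P, orderOf z = p := by
    apply exists_prime_orderOf_dvd_card'
    obtain ⟨k, hk0, hk⟩ := (hP.to_subgroup (center P)).nontrivial_iff_card.mp hc
    rw [hk]; exact dvd_pow_self p (by omega)
  have hzo : orderOf (z : P) = p := by rw [Subgroup.orderOf_coe]; exact hz
  -- a subgroup of order p different from ⟨z⟩
  obtain ⟨L, hL, hLz⟩ : ∃ L : Subgroup P, Nat.card L = p ∧ L ≠ zpowers (z : P) := by
    by_cases h1 : H = zpowers (z : P)
    · exact ⟨K, hK, fun h2 => hne (h1.trans h2.symm)⟩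
    · exact ⟨H, hH, h1⟩
  obtain ⟨y, hyL, hyz⟩ : ∃ y ∈ L, y ∉ zpowers (z : P) := by
    by_contra hcon
    push Not at hcon
    exact hLz (eq_of_le_of_card_ge hcon (by rw [hL, Nat.card_zpowers, hzo]))
  have hyp : y ^ p = 1 := by
    have : (⟨y, hyL⟩ : L) ^ p = 1 := by rw [← hL]; exact pow_card_eq_one'
    exact congrArg Subtype.val this
  have hzc : ∀ g : P, g * z = z * g := mem_center_iff.mp z.2
  have hzp : (z : P) ^ p = 1 := by rw [← hzo]; exact pow_orderOf_eq_one _
  have hyn : y ∈ normalizer ((zpowers (z : P) : Subgroup P) : Set P) := by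
    apply centralizer_le_normalizer
    rw [mem_centralizer_iff]
    rintro _ ⟨i, rfl⟩
    have : Commute y (z : P) := hzc y
    exact (this.zpow_right i).symm
  have hcard := card_sup_zpowers_prime hp.out hyn hyz hyp
  refine ⟨zpowers (z : P) ⊔ zpowers y, by rw [hcard, Nat.card_zpowers, hzo]; ring, ?_⟩
  have hcomm : ∀ v ∈ (zpowers (z : P) ⊔ zpowers y), ∀ w ∈ (zpowers (z : P) ⊔ zpowers y), v * w = w * v := by
    have h1 : (zpowers (z : P) ⊔ zpowers y) ≤ centralizer (((zpowers (z : P) ⊔ zpowers y) : Subgroup P) : Set P) := by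
      have c1 : (z : P) ∈ centralizer (((zpowers (z : P) ⊔ zpowers y) : Subgroup P) : Set P) := by
        rw [mem_centralizer_iff]; intro w _; exact hzc w
      have c2 : (zpowers (z : P) ⊔ zpowers y) ≤ centralizer ({y} : Set P) := by
        refine sup_le ?_ ?_
        · rw [zpowers_le, mem_centralizer_singleton_iff]; exact (hzc y).symm
        · rw [zpowers_le, mem_centralizer_singleton_iff]
      refine sup_le (zpowers_le.mpr c1) (zpowers_le.mpr ?_)
      rw [mem_centralizer_iff]
      intro w hw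
      exact mem_centralizer_singleton_iff.mp (c2 hw)
    intro v hv w hw
    exact (mem_centralizer_iff.mp (h1 hv) w hw).symm
  refine ⟨?_, hcomm⟩
  intro v hv
  have h1 : v ∈ ((zpowers (z : P) ⊔ zpowers y : Subgroup P) : Set P) := hv
  rw [coe_mul_of_right_le_normalizer_left _ _ (zpowers_le.mpr hyn)] at h1
  obtain ⟨a, ⟨i, rfl⟩, b, ⟨j, rfl⟩, rfl⟩ := h1
  have hab : Commute ((z : P) ^ i) (y ^ j) := by
    have : Commute (z : P) y := (hzc y).symm
    exact (this.zpow_left i).zpow_right j
  change ((z : P) ^ i * y ^ j) ^ p = 1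
  rw [hab.mul_pow]
  have e1 : ((z : P) ^ i) ^ p = 1 := by rw [← zpow_natCast, ← zpow_mul, mul_comm, zpow_mul, zpow_natCast, hzp, one_zpow]
  have e2 : (y ^ j) ^ p = 1 := by rw [← zpow_natCast, ← zpow_mul, mul_comm, zpow_mul, zpow_natCast, hyp, one_zpow]
  rw [e1, e2, one_mul]

theorem cyc_eq {K : Type u} [Group K] [Finite K] [IsCyclic K] {A B : Subgroup K} (h : Nat.card A = Nat.card B) : A = B := by
  classical
  haveI := Fintype.ofFinite K
  have key : ∀ A : Subgroup K, (A : Set K) = {x : K | x ^ Nat.card A = 1} := by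
    intro A
    apply Set.eq_of_subset_of_ncard_le
    · intro x hx
      have : (⟨x, hx⟩ : A) ^ Nat.card A = 1 := pow_card_eq_one'
      exact congrArg Subtype.val this
    · have h1 := IsCyclic.card_pow_eq_one_le (α := K) (n := Nat.card A) Nat.card_pos
      have h2 : {x : K | x ^ Nat.card A = 1}.ncard = (Finset.univ.filter (fun x : K => x ^ Nat.card A = 1)).card := by
        rw [← Set.ncard_coe_finset]; congr 1; ext x; simp
      rw [h2]
      exact h1
    · exact Set.toFinite _
  apply SetLike.coe_injective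
  rw [key A, key B, h]

/-- uniqueness of the subgroup of order `p^s` -/
theorem s3977_aux {G : Type u} [Group G] [Finite G] (p m s : ℕ) (hp : p.Prime) (hG : Nat.card G = p ^ m) (hs : 1 ≤ s) (hsm : s < m) (h2 : p ≠ 2 ∨ 2 ≤ s)
    (huniq : ∀ H K : Subgroup G, Nat.card H = p ^ s → Nat.card K = p ^ s → H = K) : IsCyclic G := by
  haveI : Fact p.Prime := ⟨hp⟩
  have hPG : IsPGroup p G := IsPGroup.of_card hG
  obtain ⟨K, hK⟩ := Sylow.exists_subgroup_card_pow_prime (G := G) p (n := s) (by rw [hG]; exact pow_dvd_pow p hsm.le)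
  -- subgroups of order at most `p^s` lie in `K`
  have hle : ∀ (A : Subgroup G) (j : ℕ), Nat.card A = p ^ j → j ≤ s → A ≤ K := by
    intro A j hA hj
    obtain ⟨B, hB, hAB⟩ := Sylow.exists_subgroup_card_pow_prime_le p (m := s) (by rw [hG]; exact pow_dvd_pow p hsm.le) A hA hj
    rw [huniq K B hK hB]; exact hAB
  have hbig : ∀ x : G, x ∉ K → ∃ j, orderOf x = p ^ j ∧ s < j := by
    intro x hx
    obtain ⟨j, hj⟩ := IsPGroup.iff_orderOf.mp hPG x
    refine ⟨j, hj, ?_⟩
    by_contra hcon
    push Not at hcon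
    exact hx (hle (zpowers x) j (by rw [Nat.card_zpowers, hj]) hcon (mem_zpowers x))
  have hsub : ∀ x : G, x ∉ K → K ≤ zpowers x := by
    intro x hx
    obtain ⟨j, hj, hsj⟩ := hbig x hx
    obtain ⟨B, hB⟩ := Sylow.exists_subgroup_card_pow_prime (G := zpowers x) p (n := s) (by rw [Nat.card_zpowers, hj]; exact pow_dvd_pow p hsj.le)
    have h3 : Nat.card (B.map (zpowers x).subtype) = p ^ s := by
      rw [Nat.card_congr (B.equivMapOfInjective _ (subtype_injective _)).symm.toEquiv, hB]
    rw [huniq K _ hK h3]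
    exact map_subtype_le _
  obtain ⟨x, hx⟩ : ∃ x : G, x ∉ K := by
    by_contra hcon
    push Not at hcon
    have : K = ⊤ := by rw [eq_top_iff]; exact fun x _ => hcon x
    rw [this, card_top, hG] at hK
    have := Nat.pow_right_injective hp.two_le hK
    omega
  have hKcyc : IsCyclic K := by
    haveI : IsCyclic (zpowers x) := inferInstance
    exact isCyclic_of_injective (inclusion (hsub x hx)) (inclusion_injective _)
  rcases cyclic_or_quat hPG (by
    intro A B hA hB
    have hAK := hle A 1 (by rw [pow_one]; exact hA) hs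
    have hBK := hle B 1 (by rw [pow_one]; exact hB) hs
    have h3 : A.subgroupOf K = B.subgroupOf K := by
      apply cyc_eq
      rw [Nat.card_congr (subgroupOfEquivOfLe hAK).toEquiv, Nat.card_congr (subgroupOfEquivOfLe hBK).toEquiv, hA, hB]
    have h4 := congrArg (fun S : Subgroup K => S.map K.subtype) h3
    simpa [subgroupOf_map_subtype, inf_eq_left.mpr hAK, inf_eq_left.mpr hBK] using h4) with h | ⟨hp2, n, hn, ⟨e⟩⟩
  · exact h
  · exfalso
    subst hp2
    have hs2 : 2 ≤ s := h2.resolve_left (by simp)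
    have hmem : ∀ i, e.symm (QuaternionGroup.xa i) ∈ K := by
      intro i
      by_contra hno
      obtain ⟨j, hj, hsj⟩ := hbig _ hno
      rw [MulEquiv.orderOf_eq, QuaternionGroup.orderOf_xa] at hj
      have h5 : 2 ^ 2 = 2 ^ j := by rw [← hj]; norm_num
      have := Nat.pow_right_injective le_rfl h5
      omega
    haveI := hKcyc
    letI := IsCyclic.commGroup (α := K)
    have h5 := mul_comm (⟨_, hmem 0⟩ : K) ⟨_, hmem 1⟩
    have h6 : e.symm (QuaternionGroup.xa 0) * e.symm (QuaternionGroup.xa 1) = e.symm (QuaternionGroup.xa 1) * e.symm (QuaternionGroup.xa 0) := congrArg Subtype.val h5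
    rw [← map_mul, ← map_mul] at h6
    have h7 := e.symm.injective h6
    rw [QuaternionGroup.xa_mul_xa, QuaternionGroup.xa_mul_xa] at h7
    have h8 := QuaternionGroup.a.inj h7
    have h9 : (2 : ZMod (2 * 2 ^ n)) = 0 := by linear_combination h8
    have h10 : ((2 : ℕ) : ZMod (2 * 2 ^ n)) = 0 := by exact_mod_cast h9
    rw [ZMod.natCast_eq_zero_iff] at h10
    have h11 := Nat.le_of_dvd (by norm_num) h10
    have h12 : 2 ^ 1 ≤ 2 ^ n := Nat.pow_le_pow_right (by norm_num) hn
    omega

/-- adding a centralizing element keeps commutativity -/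
theorem comm_sup {G : Type u} [Group G] {A : Subgroup G} (hA : ∀ a ∈ A, ∀ b ∈ A, a * b = b * a) {w : G} (hw : ∀ a ∈ A, a * w = w * a) :
    ∀ a ∈ A ⊔ zpowers w, ∀ b ∈ A ⊔ zpowers w, a * b = b * a := by
  have h1 : (A ⊔ zpowers w) ≤ centralizer ((A ⊔ zpowers w : Subgroup G) : Set G) := by
    have c1 : (A ⊔ zpowers w) ≤ centralizer ({w} : Set G) := by
      refine sup_le ?_ ?_
      · intro a ha
        rw [mem_centralizer_singleton_iff]; exact hw a ha
      · rw [zpowers_le, mem_centralizer_singleton_iff]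
    have c2 : ∀ a ∈ A, (A ⊔ zpowers w) ≤ centralizer ({a} : Set G) := by
      intro a ha
      refine sup_le ?_ ?_
      · intro b hb
        rw [mem_centralizer_singleton_iff]; exact hA b hb a ha
      · rw [zpowers_le, mem_centralizer_singleton_iff]; exact (hw a ha).symm
    refine sup_le ?_ ?_
    · intro a ha
      rw [mem_centralizer_iff]
      intro b hb
      exact mem_centralizer_singleton_iff.mp (c2 a ha hb)
    · rw [zpowers_le, mem_centralizer_iff]
      intro b hb
      exact mem_centralizer_singleton_iff.mp (c1 hb)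
  intro a ha b hb
  exact (mem_centralizer_iff.mp (h1 ha) b hb).symm

/-- a non-central element which is central modulo a subgroup -/
theorem exists_central_mod {P : Type u} [Group P] [Finite P] {p : ℕ} [hp : Fact p.Prime] (hP : IsPGroup p P) (N : Subgroup P) [N.Normal] (hN : N ≠ ⊤) :
    ∃ x : P, x ∉ N ∧ ∀ g : P, g * x * g⁻¹ * x⁻¹ ∈ N := by
  have h1 : Nontrivial (P ⧸ N) := by
    by_contra hcon
    rw [not_nontrivial_iff_subsingleton] at hcon
    exact hN (QuotientGroup.subsingleton_iff.mp hcon)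
  obtain ⟨⟨c, hc⟩, hc1⟩ := @exists_ne _ (hP.to_quotient N).center_nontrivial 1
  obtain ⟨x, rfl⟩ := QuotientGroup.mk'_surjective N c
  refine ⟨x, ?_, ?_⟩
  · intro h
    apply hc1
    apply Subtype.ext
    exact (QuotientGroup.eq_one_iff x).mpr h
  · intro g
    have h2 := mem_center_iff.mp hc (QuotientGroup.mk' N g)
    have h3 : QuotientGroup.mk' N (g * x * g⁻¹ * x⁻¹) = 1 := by
      rw [map_mul, map_mul, map_mul, map_inv, map_inv, h2]; group
    exact (QuotientGroup.eq_one_iff _).mp h3

theorem exists_nonabelian_p3 {P : Type u} [Group P] [Finite P] {p : ℕ} [hp : Fact p.Prime] (hP : IsPGroup p P) (hexp : ∀ x : P, x ^ p = 1)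
    (hnc : ¬ ∀ a b : P, a * b = b * a) : ∃ W : Subgroup P, Nat.card W = p ^ 3 ∧ ∃ x ∈ W, ∃ y ∈ W, x * y ≠ y * x := by
  have hct : center P ≠ ⊤ := by
    intro h
    apply hnc
    intro a b
    have : b ∈ center P := h ▸ mem_top _
    exact mem_center_iff.mp this a
  obtain ⟨x, hx, hxg⟩ := exists_central_mod hP (center P) hct
  obtain ⟨y, hy⟩ : ∃ y, y * x ≠ x * y := by
    by_contra hcon
    push Not at hcon
    exact hx (mem_center_iff.mpr hcon)
  set z := y * x * y⁻¹ * x⁻¹ with hz
  have hzc := hxg y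
  have hz1 : z ≠ 1 := by
    intro h
    apply hy
    have h1 := mul_inv_eq_one.mp h
    exact mul_inv_eq_iff_eq_mul.mp h1
  have hzo : orderOf z = p := orderOf_eq_prime (hexp z) hz1
  have hzcomm : ∀ g : P, g * z = z * g := mem_center_iff.mp hzc
  have hA1 : Nat.card (zpowers z) = p := by rw [Nat.card_zpowers, hzo]
  have hA1c : zpowers z ≤ center P := zpowers_le.mpr hzc
  have hnorm : ∀ g : P, g ∈ normalizer ((zpowers z : Subgroup P) : Set P) := by
    intro g
    apply centralizer_le_normalizer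
    rw [mem_centralizer_iff]
    intro t ht
    exact (mem_center_iff.mp (hA1c ht) g).symm
  have hA2 : Nat.card (zpowers z ⊔ zpowers x : Subgroup P) = p * p := by
    rw [card_sup_zpowers_prime hp.out (hnorm x) (fun h => hx (hA1c h)) (hexp x), hA1]
  have hyn : y ∈ normalizer ((zpowers z ⊔ zpowers x : Subgroup P) : Set P) := by
    apply mem_normalizer_of_conj_mem
    have h1 : (zpowers z ⊔ zpowers x : Subgroup P) ≤ (zpowers z ⊔ zpowers x : Subgroup P).comap (MulAut.conj y).toMonoidHom := by
      refine sup_le ?_ ?_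
      · rw [zpowers_le]
        have e : y * z * y⁻¹ = z := by rw [hzcomm y, mul_assoc, mul_inv_cancel, mul_one]
        have m : y * z * y⁻¹ ∈ (zpowers z ⊔ zpowers x : Subgroup P) := by
          rw [e]; exact mem_sup_left (mem_zpowers z)
        exact m
      · rw [zpowers_le]
        have e : y * x * y⁻¹ = z * x := by rw [hz]; group
        have m : y * x * y⁻¹ ∈ (zpowers z ⊔ zpowers x : Subgroup P) := by
          rw [e]; exact mul_mem (mem_sup_left (mem_zpowers z)) (mem_sup_right (mem_zpowers x))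
        exact m
    intro t ht
    exact h1 ht
  have hyA : y ∉ (zpowers z ⊔ zpowers x : Subgroup P) := by
    intro h
    have h1 : (zpowers z ⊔ zpowers x : Subgroup P) ≤ centralizer ({x} : Set P) := by
      refine sup_le ?_ ?_
      · rw [zpowers_le, mem_centralizer_singleton_iff]; exact (hzcomm x).symm
      · rw [zpowers_le, mem_centralizer_singleton_iff]
    exact hy (mem_centralizer_singleton_iff.mp (h1 h))
  refine ⟨(zpowers z ⊔ zpowers x) ⊔ zpowers y, ?_, x, mem_sup_left (mem_sup_right (mem_zpowers x)), y, mem_sup_right (mem_zpowers y), Ne.symm hy⟩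
  rw [card_sup_zpowers_prime hp.out hyn hyA (hexp y), hA2]; ring

theorem exists_abelian_p3 {P : Type u} [Group P] [Finite P] {p : ℕ} [hp : Fact p.Prime] (hP : IsPGroup p P) (hexp : ∀ x : P, x ^ p = 1)
    (hcard : p ^ 4 ≤ Nat.card P) : ∃ W : Subgroup P, Nat.card W = p ^ 3 ∧ ∀ x ∈ W, ∀ y ∈ W, x * y = y * x := by
  have hp1 := hp.out.one_lt
  have hnt : Nontrivial P := by
    by_contra hcon
    rw [not_nontrivial_iff_subsingleton] at hcon
    rw [Nat.card_of_subsingleton 1] at hcard
    have := Nat.one_lt_pow (show (4 : ℕ) ≠ 0 by norm_num) hp1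
    omega
  obtain ⟨⟨z, hzc⟩, hz1'⟩ := @exists_ne _ hP.center_nontrivial 1
  have hz1 : z ≠ 1 := fun h => hz1' (Subtype.ext h)
  have hzo : orderOf z = p := orderOf_eq_prime (hexp z) hz1
  have hzcomm : ∀ g : P, g * z = z * g := mem_center_iff.mp hzc
  have hZc : zpowers z ≤ center P := zpowers_le.mpr hzc
  have hZcard : Nat.card (zpowers z) = p := by rw [Nat.card_zpowers, hzo]
  haveI : (zpowers z).Normal := by
    refine ⟨fun t ht g => ?_⟩
    rw [mem_center_iff.mp (hZc ht) g, mul_assoc, mul_inv_cancel, mul_one]; exact ht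
  have hZtop : zpowers z ≠ ⊤ := by
    intro h
    rw [h, card_top] at hZcard
    rw [hZcard] at hcard
    have : p ^ 1 < p ^ 4 := Nat.pow_lt_pow_right hp1 (by norm_num)
    rw [pow_one] at this
    omega
  obtain ⟨v, hv, hvg⟩ := exists_central_mod hP (zpowers z) hZtop
  have hzv : ∀ a ∈ zpowers z, a * v = v * a := fun a ha => (mem_center_iff.mp (hZc ha) v).symm
  have hZcomm : ∀ a ∈ zpowers z, ∀ b ∈ zpowers z, a * b = b * a := fun a _ b hb => mem_center_iff.mp (hZc hb) a
  have hVcomm := comm_sup hZcomm hzv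
  have hvn : v ∈ normalizer ((zpowers z : Subgroup P) : Set P) := by
    apply centralizer_le_normalizer
    rw [mem_centralizer_iff]
    exact hzv
  have hVcard : Nat.card (zpowers z ⊔ zpowers v : Subgroup P) = p * p := by
    rw [card_sup_zpowers_prime hp.out hvn hv (hexp v), hZcard]
  -- the centralizer of `v`
  let φ : P →* zpowers z := MonoidHom.mk' (fun g => ⟨g * v * g⁻¹ * v⁻¹, hvg g⟩) (by
    intro g h
    apply Subtype.ext
    rw [Subgroup.coe_mul]
    change g * h * v * (g * h)⁻¹ * v⁻¹ = g * v * g⁻¹ * v⁻¹ * (h * v * h⁻¹ * v⁻¹)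
    have h1 := mem_center_iff.mp (hZc (hvg h)) g
    have h2 := mem_center_iff.mp (hZc (hvg h)) (g * v * g⁻¹ * v⁻¹)
    rw [h2]
    calc g * h * v * (g * h)⁻¹ * v⁻¹ = (g * (h * v * h⁻¹ * v⁻¹)) * (v * g⁻¹ * v⁻¹) := by group
      _ = ((h * v * h⁻¹ * v⁻¹) * g) * (v * g⁻¹ * v⁻¹) := by rw [h1]
      _ = _ := by group)
  have hker : φ.ker ≤ centralizer ({v} : Set P) := by
    intro g hg
    have h1 : φ g = 1 := hg
    have h2 : g * v * g⁻¹ * v⁻¹ = 1 := congrArg Subtype.val h1
    rw [mem_centralizer_singleton_iff]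
    exact mul_inv_eq_iff_eq_mul.mp (mul_inv_eq_one.mp h2)
  have hidx : φ.ker.index ≤ p := by
    rw [index_ker, ← hZcard]
    exact card_le_card_group _
  have hCcard : p ^ 3 ≤ Nat.card (centralizer ({v} : Set P)) := by
    have h1 := card_mul_index φ.ker
    have h2 : Nat.card φ.ker ≤ Nat.card (centralizer ({v} : Set P)) := Nat.card_le_card_of_injective _ (inclusion_injective hker)
    have h3 : p ^ 4 ≤ Nat.card (centralizer ({v} : Set P)) * p := by
      calc p ^ 4 ≤ Nat.card P := hcard
        _ = Nat.card φ.ker * φ.ker.index := h1.symm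
        _ ≤ _ := Nat.mul_le_mul h2 hidx
    have h4 : p ^ 3 * p ≤ Nat.card (centralizer ({v} : Set P)) * p := by rw [← pow_succ]; exact h3
    exact Nat.le_of_mul_le_mul_right h4 (by omega)
  obtain ⟨w, hwC, hwV⟩ : ∃ w ∈ centralizer ({v} : Set P), w ∉ (zpowers z ⊔ zpowers v : Subgroup P) := by
    by_contra hcon
    push Not at hcon
    have h1 : Nat.card (centralizer ({v} : Set P)) ≤ Nat.card (zpowers z ⊔ zpowers v : Subgroup P) := Nat.card_le_card_of_injective _ (inclusion_injective hcon)
    rw [hVcard] at h1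
    have h2 : p * p < p ^ 3 := by
      have : p ^ 2 < p ^ 3 := Nat.pow_lt_pow_right hp1 (by norm_num)
      nlinarith
    omega
  have hwcomm : ∀ a ∈ (zpowers z ⊔ zpowers v : Subgroup P), a * w = w * a := by
    have h1 : (zpowers z ⊔ zpowers v : Subgroup P) ≤ centralizer ({w} : Set P) := by
      refine sup_le ?_ ?_
      · rw [zpowers_le, mem_centralizer_singleton_iff]; exact (hzcomm w).symm
      · rw [zpowers_le, mem_centralizer_singleton_iff]; exact (mem_centralizer_singleton_iff.mp hwC).symm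
    intro a ha
    exact mem_centralizer_singleton_iff.mp (h1 ha)
  refine ⟨(zpowers z ⊔ zpowers v) ⊔ zpowers w, ?_, comm_sup hVcomm hwcomm⟩
  rw [card_sup_zpowers_prime hp.out (centralizer_le_normalizer _ (mem_centralizer_iff.mpr hwcomm)) hwV (hexp w), hVcard]; ring

theorem s4023_aux {G : Type u} [Group G] [Finite G] {p : ℕ} [hp : Fact p.Prime] (hC : ∀ H K : Subgroup G, IsPGroup p H → IsPGroup p K → Nat.card H = Nat.card K →
      ∃ g : G, K = H.map (MulAut.conj g).toMonoidHom) (P : Sylow p G) :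
    IsCyclic P ∨ Cfsg.IsElementaryAbelian p (P : Subgroup G) ∨
      (p = 2 ∧ Nonempty ((P : Subgroup G) ≃* QuaternionGroup 2)) ∨
      (p ≠ 2 ∧ ¬ IsMulCommutative P ∧ Nat.card P = p ^ 3 ∧ Monoid.exponent P = p) := by
  have hp1 := hp.out.one_lt
  rcases pp_or_rank_one P.2 with ⟨V, hV, hVp, hVc⟩ | h | ⟨hp2, n, hn, ⟨e⟩⟩
  · -- exponent p
    have hexp : ∀ x ∈ P, x ^ p = 1 := by
      intro x hx
      by_contra hne
      obtain ⟨k, hk⟩ := IsPGroup.iff_orderOf.mp P.2 ⟨x, hx⟩
      rw [Subgroup.orderOf_mk] at hk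
      have hk2 : 2 ≤ k := by
        by_contra hcon
        apply hne
        apply orderOf_dvd_iff_pow_eq_one.mp
        rw [hk]
        calc p ^ k ∣ p ^ 1 := pow_dvd_pow p (by omega)
          _ = p := pow_one p
      obtain ⟨j, rfl⟩ : ∃ j, k = j + 2 := ⟨k - 2, by omega⟩
      have hy : orderOf (x ^ p ^ j) = p ^ 2 := by
        rw [orderOf_pow' x (pow_pos hp.out.pos j).ne', hk, Nat.gcd_eq_right (pow_dvd_pow p (by omega)), pow_add, Nat.mul_div_cancel_left _ (pow_pos hp.out.pos j)]
      obtain ⟨g, hg⟩ := hC (zpowers (x ^ p ^ j)) (V.map (P : Subgroup G).subtype) (IsPGroup.of_card (n := 2) (by rw [Nat.card_zpowers, hy]))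
        (IsPGroup.of_card (n := 2) (by rw [Nat.card_congr (V.equivMapOfInjective _ (subtype_injective _)).symm.toEquiv, hV]))
        (by rw [Nat.card_zpowers, hy, Nat.card_congr (V.equivMapOfInjective _ (subtype_injective _)).symm.toEquiv, hV])
      have h1 : g * (x ^ p ^ j) * g⁻¹ ∈ V.map (P : Subgroup G).subtype := by
        rw [hg]
        exact ⟨_, mem_zpowers _, rfl⟩
      obtain ⟨v, hv, hv2⟩ := h1
      have h2 : (g * (x ^ p ^ j) * g⁻¹) ^ p = 1 := by
        rw [← hv2, ← map_pow, hVp v hv, map_one]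
      rw [conj_pow] at h2
      have h3 : (x ^ p ^ j) ^ p = 1 := by
        have := mul_inv_eq_one.mp h2
        exact mul_eq_left.mp this
      have h4 := orderOf_dvd_of_pow_eq_one h3
      rw [hy] at h4
      have h5 := Nat.le_of_dvd (by omega) h4
      have : p ^ 1 < p ^ 2 := Nat.pow_lt_pow_right hp1 (by norm_num)
      rw [pow_one] at this
      omega
    have hexp' : ∀ x : (P : Subgroup G), x ^ p = 1 := fun x => Subtype.ext (by rw [Subgroup.coe_pow]; exact hexp x x.2)
    by_cases hab : ∀ a b : (P : Subgroup G), a * b = b * a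
    · right; left
      exact ⟨⟨⟨hab⟩⟩, hexp⟩
    · have hp2 : p ≠ 2 := by
        intro h2
        apply hab
        intro a b
        have h3 : ∀ a : (P : Subgroup G), a * a = 1 := by
          intro a
          calc a * a = a ^ 2 := (pow_two a).symm
            _ = a ^ p := congrArg (a ^ ·) h2.symm
            _ = 1 := hexp' a
        have h4 : ∀ a : (P : Subgroup G), a⁻¹ = a := fun a => inv_eq_of_mul_eq_one_left (h3 a)
        calc a * b = (a * b)⁻¹ := (h4 _).symm
          _ = b⁻¹ * a⁻¹ := mul_inv_rev _ _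
          _ = b * a := by rw [h4, h4]
      right; right; right
      obtain ⟨W, hW, x, hx, y, hy, hxy⟩ := exists_nonabelian_p3 P.2 hexp' hab
      refine ⟨hp2, fun h => hab (fun a b => h.is_comm.comm a b), ?_, ?_⟩
      · obtain ⟨k, hk⟩ := IsPGroup.iff_card.mp P.2
        have h1 : p ^ 3 ≤ p ^ k := by rw [← hk, ← hW]; exact card_le_card_group W
        have h2 : 3 ≤ k := (Nat.pow_le_pow_iff_right hp1).mp h1
        by_cases h3 : k = 3
        · have h4 : Nat.card (P : Subgroup G) = p ^ 3 := by rw [hk, h3]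
          exact h4
        · exfalso
          obtain ⟨U, hU, hUc⟩ := exists_abelian_p3 P.2 hexp' (by rw [hk]; exact Nat.pow_le_pow_right (by omega) (by omega))
          have cU : Nat.card (U.map (P : Subgroup G).subtype) = p ^ 3 := by rw [Nat.card_congr (U.equivMapOfInjective _ (subtype_injective _)).symm.toEquiv, hU]
          have cW : Nat.card (W.map (P : Subgroup G).subtype) = p ^ 3 := by rw [Nat.card_congr (W.equivMapOfInjective _ (subtype_injective _)).symm.toEquiv, hW]
          obtain ⟨g, hg⟩ := hC (U.map (P : Subgroup G).subtype) (W.map (P : Subgroup G).subtype) (IsPGroup.of_card cU) (IsPGroup.of_card cW) (cU.trans cW.symm)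
          have key : ∀ t ∈ W, ∃ u ∈ U, (t : G) = g * (u : G) * g⁻¹ := by
            intro t ht
            have h5 : (t : G) ∈ W.map (P : Subgroup G).subtype := ⟨t, ht, rfl⟩
            rw [hg] at h5
            obtain ⟨_, ⟨u, hu, rfl⟩, h6⟩ := h5
            exact ⟨u, hu, h6.symm⟩
          obtain ⟨u, hu, hxu⟩ := key x hx
          obtain ⟨w, hw, hyw⟩ := key y hy
          apply hxy
          apply Subtype.ext
          rw [Subgroup.coe_mul, Subgroup.coe_mul, hxu, hyw]
          have h7 : (u : G) * (w : G) = (w : G) * (u : G) := congrArg Subtype.val (hUc u hu w hw)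
          calc g * (u : G) * g⁻¹ * (g * (w : G) * g⁻¹) = g * ((u : G) * (w : G)) * g⁻¹ := by group
            _ = g * ((w : G) * (u : G)) * g⁻¹ := by rw [h7]
            _ = _ := by group
      · have h1 : Monoid.exponent (P : Subgroup G) ∣ p := Monoid.exponent_dvd_of_forall_pow_eq_one hexp'
        rcases (Nat.dvd_prime hp.out).mp h1 with h2 | h2
        · exfalso
          have : Subsingleton (P : Subgroup G) := Monoid.exp_eq_one_iff.mp h2
          exact hab (fun a b => Subsingleton.elim _ _)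
        · exact h2
  · exact Or.inl h
  · subst hp2
    right; right; left
    refine ⟨rfl, ?_⟩
    by_cases hn1 : n = 1
    · subst hn1; exact ⟨e⟩
    exfalso
    have hcP : Nat.card (P : Subgroup G) = 4 * 2 ^ n := by
      rw [Nat.card_congr e.toEquiv, Nat.card_eq_fintype_card, QuaternionGroup.card]
    have h8 : 2 ^ 3 ∣ Nat.card (P : Subgroup G) := by
      rw [hcP]
      have : 2 ^ 1 ∣ 2 ^ n := pow_dvd_pow 2 hn
      obtain ⟨c, hc⟩ := this
      exact ⟨c, by rw [hc]; ring⟩
    -- a cyclic subgroup of order 8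
    obtain ⟨j, hj⟩ : ∃ j, n = j + 2 := ⟨n - 2, by omega⟩
    obtain ⟨t, ht⟩ : ∃ t : G, orderOf t = 8 := by
      refine ⟨((e.symm (QuaternionGroup.a 1) ^ 2 ^ j : (P : Subgroup G)) : G), ?_⟩
      rw [Subgroup.orderOf_coe]
      have h1 : orderOf (e.symm (QuaternionGroup.a 1)) = 2 * 2 ^ n := by rw [MulEquiv.orderOf_eq, QuaternionGroup.orderOf_a_one]
      rw [orderOf_pow' _ (by positivity), h1, hj]
      have h2 : 2 * 2 ^ (j + 2) = 2 ^ j * 8 := by ring
      rw [h2, Nat.gcd_eq_right (dvd_mul_right _ _), Nat.mul_div_cancel_left _ (by positivity)]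
    set s := e.symm (QuaternionGroup.xa 0) with hs
    have hso : orderOf s = 4 := by rw [hs, MulEquiv.orderOf_eq, QuaternionGroup.orderOf_xa]
    obtain ⟨B, hB, hsB⟩ := Sylow.exists_subgroup_card_pow_prime_le 2 (m := 3) (n := 2) h8 (zpowers s) (by rw [Nat.card_zpowers, hso]; norm_num) (by norm_num)
    have cB : Nat.card (B.map (P : Subgroup G).subtype) = 2 ^ 3 := by rw [Nat.card_congr (B.equivMapOfInjective _ (subtype_injective _)).symm.toEquiv, hB]
    have cT : Nat.card (zpowers t) = 2 ^ 3 := by rw [Nat.card_zpowers, ht]; norm_num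
    obtain ⟨g, hg⟩ := hC (zpowers t) (B.map (P : Subgroup G).subtype) (IsPGroup.of_card cT) (IsPGroup.of_card cB) (cT.trans cB.symm)
    obtain ⟨y, hy, hy2⟩ : g * t * g⁻¹ ∈ B.map (P : Subgroup G).subtype := by
      rw [hg]; exact ⟨_, mem_zpowers _, rfl⟩
    have hyt : (y : G) = g * t * g⁻¹ := hy2
    have hyo : orderOf y = 8 := by
      rw [← Subgroup.orderOf_coe, hyt]
      exact (MulEquiv.orderOf_eq (MulAut.conj g) t).trans ht
    have hBy : B = zpowers y := by
      symm
      apply eq_of_le_of_card_ge (zpowers_le.mpr hy)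
      rw [hB, Nat.card_zpowers, hyo]; norm_num
    have hsy : s ∈ zpowers y := hBy ▸ hsB (mem_zpowers s)
    obtain ⟨i, hi⟩ := mem_zpowers_iff.mp hsy
    rcases hye : e y with c | c
    · have h1 : e s = QuaternionGroup.a c ^ i := by rw [← hi, map_zpow, hye]
      rw [hs, MulEquiv.apply_symm_apply] at h1
      have h2 : ∀ i : ℤ, ∃ d, (QuaternionGroup.a c : QuaternionGroup (2 ^ n)) ^ i = QuaternionGroup.a d := by
        intro i
        have h3 : ∀ m : ℕ, ∃ d, (QuaternionGroup.a c : QuaternionGroup (2 ^ n)) ^ m = QuaternionGroup.a d := by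
          intro m
          induction m with
          | zero => exact ⟨0, by rw [pow_zero]; rfl⟩
          | succ k ih =>
            obtain ⟨d, hd⟩ := ih
            exact ⟨d + c, by rw [pow_succ, hd, QuaternionGroup.a_mul_a]⟩
        rcases Int.eq_nat_or_neg i with ⟨m, rfl | rfl⟩
        · obtain ⟨d, hd⟩ := h3 m
          exact ⟨d, by rw [zpow_natCast, hd]⟩
        · obtain ⟨d, hd⟩ := h3 m
          exact ⟨-d, by rw [zpow_neg, zpow_natCast, hd]; rfl⟩
      obtain ⟨d, hd⟩ := h2 i
      rw [hd] at h1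
      cases h1
    · have h1 : orderOf (e y) = 4 := by rw [hye, QuaternionGroup.orderOf_xa]
      rw [MulEquiv.orderOf_eq, hyo] at h1
      norm_num at h1

end Cfsg.Agent.H1
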