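import Mathlib
import Cfsg.Agent.H8.GP1
import Cfsg.Agent.H1.FC

set_option autoImplicit false
set_option linter.style.haveILetI false
set_option linter.unusedVariables false
set_option linter.unusedSectionVars false
set_option linter.unusedSimpArgs false

/-! Unitriangular subgroups of `SL(n,K)`. -/

namespace Cfsg.Agent.H1.UT

open Matrix Subgroup

universe u
variable {n : ℕ} {K : Type u} [Field K]

theorem tri_diag_mul {A B : Matrix (Fin n) (Fin n) K} (hA : ∀ i j, j < i → A i j = 0) (hB : ∀ i j, j < i → B i j = 0) (i : Fin n) :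
    (A * B) i i = A i i * B i i := by
  rw [Matrix.mul_apply, Finset.sum_eq_single i]
  · intro k _ hk
    rcases lt_or_gt_of_ne hk with h | h
    · rw [hA i k h, zero_mul]
    · rw [hB k i h, mul_zero]
  · intro h; exact absurd (Finset.mem_univ _) h

/-- upper triangular matrices -/
def BB (n : ℕ) (K : Type u) [Field K] : Subgroup (SpecialLinearGroup (Fin n) K) where
  carrier := {g | ∀ i j, j < i → g.1 i j = 0}
  mul_mem' := fun {x y} hx hy => by
    intro i j hij
    change (x.1 * y.1) i j = 0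
    rw [Matrix.mul_apply]
    apply Finset.sum_eq_zero
    intro k _
    by_cases h : k < i
    · rw [hx i k h, zero_mul]
    · rw [hy k j (lt_of_lt_of_le hij (not_lt.mp h)), mul_zero]
  one_mem' := by
    intro i j hij
    change (1 : Matrix (Fin n) (Fin n) K) i j = 0
    exact one_apply_ne hij.ne'
  inv_mem' := fun {x} hx => by
    have hd : x.1.det = 1 := x.2
    have h1 : BlockTriangular x.1 (id : Fin n → Fin n) := fun i j hij => hx i j hij
    haveI : Invertible x.1 := invertibleOfIsUnitDet _ (by rw [hd]; exact isUnit_one)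
    have h2 := Matrix.blockTriangular_inv_of_blockTriangular h1
    have h3 : (x⁻¹).1 = (x.1)⁻¹ := by
      rw [Matrix.SpecialLinearGroup.coe_inv, Matrix.inv_def, hd, Ring.inverse_one, one_smul]
    intro i j hij
    rw [h3]
    exact h2 hij

theorem mem_BB {g : SpecialLinearGroup (Fin n) K} : g ∈ BB n K ↔ ∀ i j, j < i → g.1 i j = 0 := Iff.rfl

theorem BB_diag_mul {g h : SpecialLinearGroup (Fin n) K} (hg : g ∈ BB n K) (hh : h ∈ BB n K) (i : Fin n) : (g * h).1 i i = g.1 i i * h.1 i i :=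
  tri_diag_mul hg hh i

theorem BB_diag_inv {g : SpecialLinearGroup (Fin n) K} (hg : g ∈ BB n K) (i : Fin n) : g.1 i i * (g⁻¹).1 i i = 1 := by
  rw [← BB_diag_mul hg (inv_mem hg), mul_inv_cancel]
  exact one_apply_eq i

theorem BB_diag_pow {g : SpecialLinearGroup (Fin n) K} (hg : g ∈ BB n K) (i : Fin n) (k : ℕ) : (g ^ k).1 i i = g.1 i i ^ k := by
  induction k with
  | zero => rw [pow_zero, pow_zero]; exact one_apply_eq i
  | succ k ih => rw [pow_succ, pow_succ, BB_diag_mul (pow_mem hg k) hg, ih]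

theorem BB_det {g : SpecialLinearGroup (Fin n) K} (hg : g ∈ BB n K) : ∏ i, g.1 i i = 1 := by
  rw [← Matrix.det_of_upperTriangular (M := g.1) (fun i j hij => hg i j hij)]
  exact g.2

/-- upper unitriangular matrices -/
def UU (n : ℕ) (K : Type u) [Field K] : Subgroup (SpecialLinearGroup (Fin n) K) where
  carrier := {g | g ∈ BB n K ∧ ∀ i, g.1 i i = 1}
  mul_mem' := fun {x y} hx hy => ⟨mul_mem hx.1 hy.1, fun i => by rw [BB_diag_mul hx.1 hy.1, hx.2, hy.2, one_mul]⟩
  one_mem' := ⟨one_mem _, fun i => one_apply_eq i⟩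
  inv_mem' := fun {x} hx => ⟨inv_mem hx.1, fun i => by
    have := BB_diag_inv hx.1 i
    rwa [hx.2, one_mul] at this⟩

theorem mem_UU {g : SpecialLinearGroup (Fin n) K} : g ∈ UU n K ↔ g ∈ BB n K ∧ ∀ i, g.1 i i = 1 := Iff.rfl

theorem UU_le_BB : UU n K ≤ BB n K := fun _ h => h.1

theorem UU_conj {b u : SpecialLinearGroup (Fin n) K} (hb : b ∈ BB n K) (hu : u ∈ UU n K) : b * u * b⁻¹ ∈ UU n K := by
  refine ⟨mul_mem (mul_mem hb hu.1) (inv_mem hb), fun i => ?_⟩
  rw [BB_diag_mul (mul_mem hb hu.1) (inv_mem hb), BB_diag_mul hb hu.1, hu.2, mul_one, BB_diag_inv hb]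

theorem UU_pgroup {p : ℕ} [Fact p.Prime] [CharP K p] {g : SpecialLinearGroup (Fin n) K} (hg : g ∈ UU n K) : g ^ p ^ n = 1 := by
  rcases Nat.eq_zero_or_pos n with hn | hn
  · subst hn
    apply Subtype.ext
    ext i
    exact i.elim0
  haveI : Nonempty (Fin n) := ⟨⟨0, hn⟩⟩
  have h1 := Matrix.charpoly_of_upperTriangular g.1 (fun i j hij => hg.1 i j hij)
  have h2 := Matrix.aeval_self_charpoly g.1
  have h3 : (g.1 - 1) ^ n = 0 := by
    rw [h1] at h2
    simp only [hg.2] at h2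
    rw [Finset.prod_const, Finset.card_univ, Fintype.card_fin] at h2
    simpa using h2
  have h4 : (g.1 - 1) ^ p ^ n = 0 := by
    have hp : 1 < p := (Fact.out : p.Prime).one_lt
    have h5 : n ≤ p ^ n := (Nat.lt_pow_self hp).le
    obtain ⟨m, hm⟩ := Nat.exists_eq_add_of_le h5
    rw [hm, pow_add, h3, zero_mul]
  rw [sub_pow_char_pow_of_commute _ _ (Commute.one_right _), one_pow, sub_eq_zero] at h4
  apply Subtype.ext
  exact (Matrix.SpecialLinearGroup.coe_pow g _).trans h4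

/-- element of `UU` from a matrix -/
theorem exists_UU (A : Matrix (Fin n) (Fin n) K) (h1 : ∀ i j, j < i → A i j = 0) (h2 : ∀ i, A i i = 1) : ∃ g ∈ UU n K, g.1 = A := by
  have hd : A.det = 1 := by
    rw [Matrix.det_of_upperTriangular (M := A) (fun i j hij => h1 i j hij)]
    simp [h2]
  exact ⟨⟨A, hd⟩, ⟨h1, h2⟩, rfl⟩

/-- elementary transvection -/
def tv (i j : Fin n) (h : i ≠ j) (c : K) : SpecialLinearGroup (Fin n) K := ⟨transvection i j c, det_transvection_of_ne i j h c⟩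

theorem tv_val (i j : Fin n) (h : i ≠ j) (c : K) : (tv i j h c).1 = 1 + single i j c := rfl

theorem tv_apply (i j : Fin n) (h : i ≠ j) (c : K) (k l : Fin n) : (tv i j h c).1 k l = (if k = l then 1 else 0) + (if i = k ∧ j = l then c else 0) := by
  rw [tv_val, Matrix.add_apply, Matrix.one_apply, Matrix.single_apply]

theorem tv_mem_UU {i j : Fin n} (h : i < j) (c : K) : tv i j h.ne c ∈ UU n K := by
  constructor
  · intro k l hkl
    rw [tv_apply, if_neg hkl.ne', if_neg, add_zero]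
    rintro ⟨rfl, rfl⟩
    exact absurd h (not_lt.mpr hkl.le)
  · intro k
    rw [tv_apply, if_pos rfl, if_neg, add_zero]
    rintro ⟨rfl, h2⟩
    exact h.ne' h2

/-- the normalizer of the unitriangular group is the triangular group -/
theorem BB_of_norm {v : SpecialLinearGroup (Fin n) K} (hv : ∀ u ∈ UU n K, v * u * v⁻¹ ∈ UU n K) : v ∈ BB n K := by
  classical
  obtain ⟨b, hb, b', hb', w, hw⟩ := Cfsg.Agent.H8.GLP.bruhat (SpecialLinearGroup.toGL v)
  have hmono : StrictMono w := by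
    intro i j hij
    -- the conjugate of a transvection
    have ht : SpecialLinearGroup.toGL (tv i j hij.ne (1 : K)) ∈ Cfsg.Agent.H8.GLP.PG K (fun i : Fin n => i.val) := by
      rw [Cfsg.Agent.H8.GLP.mem_PG]
      intro k l hkl
      exact (tv_mem_UU hij 1).1 k l hkl
    have hx := mul_mem (mul_mem (inv_mem hb') ht) hb'
    have hxd : ∀ k, ((b'⁻¹ * SpecialLinearGroup.toGL (tv i j hij.ne (1 : K)) * b' : GL (Fin n) K) : Matrix (Fin n) (Fin n) K) k k = 1 := by
      intro k
      have e1 := Cfsg.Agent.H8.GLP.mem_PG.mp (inv_mem hb')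
      have e2 := Cfsg.Agent.H8.GLP.mem_PG.mp hb'
      have e3 := Cfsg.Agent.H8.GLP.mem_PG.mp ht
      have e4 := Cfsg.Agent.H8.GLP.mem_PG.mp (mul_mem (inv_mem hb') ht)
      have f1 : ((b'⁻¹ * SpecialLinearGroup.toGL (tv i j hij.ne (1 : K)) * b' : GL (Fin n) K) : Matrix (Fin n) (Fin n) K) k k
          = ((b'⁻¹ * SpecialLinearGroup.toGL (tv i j hij.ne (1 : K)) : GL (Fin n) K) : Matrix (Fin n) (Fin n) K) k k * (b' : Matrix (Fin n) (Fin n) K) k k :=
        tri_diag_mul (fun a c h => e4 a c h) (fun a c h => e2 a c h) k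
      have f2 : ((b'⁻¹ * SpecialLinearGroup.toGL (tv i j hij.ne (1 : K)) : GL (Fin n) K) : Matrix (Fin n) (Fin n) K) k k
          = ((b'⁻¹ : GL (Fin n) K) : Matrix (Fin n) (Fin n) K) k k * (tv i j hij.ne (1 : K)).1 k k :=
        tri_diag_mul (fun a c h => e1 a c h) (fun a c h => e3 a c h) k
      have f3 : ((b'⁻¹ * b' : GL (Fin n) K) : Matrix (Fin n) (Fin n) K) k k = ((b'⁻¹ : GL (Fin n) K) : Matrix (Fin n) (Fin n) K) k k * (b' : Matrix (Fin n) (Fin n) K) k k :=
        tri_diag_mul (fun a c h => e1 a c h) (fun a c h => e2 a c h) k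
      rw [f1, f2, (tv_mem_UU hij 1).2, mul_one, ← f3, inv_mul_cancel]
      exact one_apply_eq k
    obtain ⟨g, hg, hgA⟩ := exists_UU _ (fun a c h => Cfsg.Agent.H8.GLP.mem_PG.mp hx a c h) hxd
    have h1 := hv g hg
    have h2 : SpecialLinearGroup.toGL g = b'⁻¹ * SpecialLinearGroup.toGL (tv i j hij.ne (1 : K)) * b' := by
      apply Units.ext
      exact hgA
    have h3 : SpecialLinearGroup.toGL (v * g * v⁻¹) ∈ Cfsg.Agent.H8.GLP.PG K (fun i : Fin n => i.val) := by
      rw [Cfsg.Agent.H8.GLP.mem_PG]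
      intro k l hkl
      exact h1.1 k l hkl
    have h4 : SpecialLinearGroup.toGL (v * g * v⁻¹) = b * (Cfsg.Agent.H8.GLP.pm K w * SpecialLinearGroup.toGL (tv i j hij.ne (1 : K)) * (Cfsg.Agent.H8.GLP.pm K w)⁻¹) * b⁻¹ := by
      rw [map_mul, map_mul, map_inv, hw, h2]
      group
    have h5 : Cfsg.Agent.H8.GLP.pm K w * SpecialLinearGroup.toGL (tv i j hij.ne (1 : K)) * (Cfsg.Agent.H8.GLP.pm K w)⁻¹ ∈ Cfsg.Agent.H8.GLP.PG K (fun i : Fin n => i.val) := by
      rw [h4] at h3
      have h6 := mul_mem (mul_mem (inv_mem hb) h3) hb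
      have e : b⁻¹ * (b * (Cfsg.Agent.H8.GLP.pm K w * SpecialLinearGroup.toGL (tv i j hij.ne (1 : K)) * (Cfsg.Agent.H8.GLP.pm K w)⁻¹) * b⁻¹) * b = Cfsg.Agent.H8.GLP.pm K w * SpecialLinearGroup.toGL (tv i j hij.ne (1 : K)) * (Cfsg.Agent.H8.GLP.pm K w)⁻¹ := by group
      rwa [e] at h6
    by_contra hcon
    have hne : w i ≠ w j := fun h => hij.ne (w.injective h)
    have hlt : w j < w i := lt_of_le_of_ne (not_lt.mp hcon) hne.symm
    have h6 := Cfsg.Agent.H8.GLP.mem_PG.mp h5 (w i) (w j) hlt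
    -- compute
    have h7 : ((Cfsg.Agent.H8.GLP.pm K w * SpecialLinearGroup.toGL (tv i j hij.ne (1 : K)) * (Cfsg.Agent.H8.GLP.pm K w)⁻¹ : GL (Fin n) K) : Matrix (Fin n) (Fin n) K) (w i) (w j)
        = ((Cfsg.Agent.H8.GLP.pm K w * SpecialLinearGroup.toGL (tv i j hij.ne (1 : K)) : GL (Fin n) K) : Matrix (Fin n) (Fin n) K) (w i) j := by
      rw [← map_inv]
      have := Cfsg.Agent.H8.GLP.mul_pm ((Cfsg.Agent.H8.GLP.pm K w * SpecialLinearGroup.toGL (tv i j hij.ne (1 : K)) : GL (Fin n) K) : Matrix (Fin n) (Fin n) K) w⁻¹ (w i) (w j)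
      rw [show w⁻¹ (w j) = j by simp] at this
      exact this
    have h8 : ((Cfsg.Agent.H8.GLP.pm K w * SpecialLinearGroup.toGL (tv i j hij.ne (1 : K)) : GL (Fin n) K) : Matrix (Fin n) (Fin n) K) (w i) j = (tv i j hij.ne (1 : K)).1 i j := by
      change ((Cfsg.Agent.H8.GLP.pm K w : Matrix (Fin n) (Fin n) K) * (tv i j hij.ne (1 : K)).1) (w i) j = _
      rw [Matrix.mul_apply, Finset.sum_eq_single i]
      · rw [Cfsg.Agent.H8.GLP.pm_apply, if_pos rfl, one_mul]
      · intro k _ hk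
        rw [Cfsg.Agent.H8.GLP.pm_apply, if_neg, zero_mul]
        intro h
        exact hk (w.injective h).symm
      · intro h; exact absurd (Finset.mem_univ _) h
    rw [h7, h8, tv_apply, if_neg hij.ne, if_pos ⟨rfl, rfl⟩, zero_add] at h6
    exact one_ne_zero h6
  have hw1 : w = 1 := by
    let o : Fin n ≃o Fin n := hmono.orderIsoOfSurjective w w.surjective
    have h1 : o = OrderIso.refl _ := Subsingleton.elim _ _
    apply Equiv.ext
    intro i
    have h2 := congrArg (fun f : Fin n ≃o Fin n => f i) h1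
    exact h2
  rw [hw1, map_one, mul_one] at hw
  have h1 : SpecialLinearGroup.toGL v ∈ Cfsg.Agent.H8.GLP.PG K (fun i : Fin n => i.val) := by
    rw [hw]; exact mul_mem hb hb'
  intro i j hij
  exact Cfsg.Agent.H8.GLP.mem_PG.mp h1 i j hij

end Cfsg.Agent.H1.UT
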