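import Mathlib
import Cfsg.Agent.H1.UT1

set_option autoImplicit false
set_option linter.style.haveILetI false
set_option linter.unusedVariables false
set_option linter.unusedSectionVars false
set_option linter.unusedSimpArgs false

/-! The image of the unitriangular group in `PSL(n,K)`. -/

namespace Cfsg.Agent.H1.UT

open Matrix Subgroup

universe u v
variable {n : ℕ} {K : Type u} [Field K]

theorem frob_inj {p : ℕ} [Fact p.Prime] [CharP K p] {a b : K} {k : ℕ} (h : a ^ p ^ k = b ^ p ^ k) : a = b := by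
  have h1 : (a - b) ^ p ^ k = 0 := by rw [sub_pow_char_pow, h, sub_self]
  have h2 := (pow_eq_zero_iff (pow_ne_zero k (Fact.out : p.Prime).ne_zero)).mp h1
  exact sub_eq_zero.mp h2

theorem center_scalar {z : SpecialLinearGroup (Fin n) K} (h : z ∈ center (SpecialLinearGroup (Fin n) K)) : ∃ r : K, ∀ i j, z.1 i j = if i = j then r else 0 := by
  obtain ⟨r, hr, hr2⟩ := Matrix.SpecialLinearGroup.mem_center_iff.mp h
  refine ⟨r, fun i j => ?_⟩
  rw [← hr2]
  by_cases hij : i = j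
  · subst hij; simp
  · simp [hij]

theorem UU_center {u : SpecialLinearGroup (Fin n) K} (hu : u ∈ UU n K) (h : u ∈ center (SpecialLinearGroup (Fin n) K)) : u = 1 := by
  obtain ⟨r, hr⟩ := center_scalar h
  apply Subtype.ext
  ext i j
  change u.1 i j = (1 : Matrix (Fin n) (Fin n) K) i j
  rw [Matrix.one_apply]
  by_cases hij : i = j
  · subst hij; rw [if_pos rfl, hu.2]
  · rw [if_neg hij, hr, if_neg hij]

section
variable {p : ℕ} [Fact p.Prime] [CharP K p] {G : Type v} [Group G] {π : SpecialLinearGroup (Fin n) K →* G}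

theorem mem_of_pi (hk : ∀ x, π x = 1 → x ∈ center (SpecialLinearGroup (Fin n) K)) {v : SpecialLinearGroup (Fin n) K} (hv : π v ∈ (UU n K).map π) {k : ℕ} (h : v ^ p ^ k = 1) : v ∈ UU n K := by
  obtain ⟨u, hu, huv⟩ := hv
  have hz : u⁻¹ * v ∈ center (SpecialLinearGroup (Fin n) K) := by
    apply hk
    rw [map_mul, map_inv, huv, inv_mul_cancel]
  have hv2 : v = u * (u⁻¹ * v) := by group
  have hz2 : (u⁻¹ * v) ^ p ^ (n + k) = 1 := by
    have hcomm : Commute u (u⁻¹ * v) := (mem_center_iff.mp hz u)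
    have h1 : v ^ p ^ (n + k) = 1 := by rw [pow_add, mul_comm, pow_mul, h, _root_.one_pow]
    have h2 : u ^ p ^ (n + k) = 1 := by rw [pow_add, pow_mul, UU_pgroup hu, _root_.one_pow]
    rw [hv2, hcomm.mul_pow, h2, one_mul] at h1
    exact h1
  obtain ⟨r, hr⟩ := center_scalar hz
  have hzB : u⁻¹ * v ∈ BB n K := fun i j hij => by rw [hr, if_neg hij.ne']
  have hz3 : u⁻¹ * v ∈ UU n K := by
    refine ⟨hzB, fun i => ?_⟩
    have h1 := BB_diag_pow hzB i (p ^ (n + k))
    rw [hz2] at h1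
    have h2 : (1 : SpecialLinearGroup (Fin n) K).1 i i = 1 := one_apply_eq i
    rw [h2] at h1
    apply frob_inj (p := p) (k := n + k)
    rw [← h1, _root_.one_pow]
  rw [hv2]
  exact mul_mem hu hz3

theorem BB_of_pi (hk : ∀ x, π x = 1 → x ∈ center (SpecialLinearGroup (Fin n) K)) (hK : CharP K p) {v : SpecialLinearGroup (Fin n) K} (hv : π v ∈ normalizer (((UU n K).map π : Subgroup G) : Set G)) : v ∈ BB n K := by
  apply BB_of_norm
  intro u hu
  apply mem_of_pi (p := p) (k := n) hk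
  · rw [map_mul, map_mul, map_inv]
    exact (mem_normalizer_iff.mp hv _).mp ⟨u, hu, rfl⟩
  · rw [conj_pow, UU_pgroup hu, mul_one, mul_inv_cancel]

theorem pi_norm {v : SpecialLinearGroup (Fin n) K} (hv : v ∈ BB n K) : π v ∈ normalizer (((UU n K).map π : Subgroup G) : Set G) := by
  rw [mem_normalizer_iff]
  intro x
  constructor
  · rintro ⟨u, hu, rfl⟩
    exact ⟨v * u * v⁻¹, UU_conj hv hu, by rw [map_mul, map_mul, map_inv]⟩
  · rintro ⟨u, hu, hx⟩
    refine ⟨v⁻¹ * u * v⁻¹⁻¹, UU_conj (inv_mem hv) hu, ?_⟩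
    rw [map_mul, map_mul, hx, map_inv, map_inv, map_inv, inv_inv]
    group

theorem diag_mem (hn : 0 < n) (hsurj : Function.Surjective π) (hc : ∀ x ∈ center (SpecialLinearGroup (Fin n) K), π x = 1) {v : SpecialLinearGroup (Fin n) K} (hv : v ∈ BB n K) {d : K} (hd : ∀ i, v.1 i i = d) : π v ∈ (UU n K).map π := by
  have hdn : d ^ Fintype.card (Fin n) = 1 := by
    have h1 := BB_det hv
    simp only [hd] at h1
    rwa [Finset.prod_const, Finset.card_univ] at h1
  have hdet : (scalar (Fin n) d).det = 1 := by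
    rw [Matrix.scalar_apply, Matrix.det_diagonal, Finset.prod_const, Finset.card_univ]
    exact hdn
  let z : SpecialLinearGroup (Fin n) K := ⟨scalar (Fin n) d, hdet⟩
  have hz : z ∈ center (SpecialLinearGroup (Fin n) K) := Matrix.SpecialLinearGroup.mem_center_iff.mpr ⟨d, hdn, rfl⟩
  have hzB : z ∈ BB n K := fun i j hij => by
    change (scalar (Fin n) d) i j = 0
    rw [Matrix.scalar_apply, Matrix.diagonal_apply_ne _ hij.ne']
  have hzd : ∀ i, z.1 i i = d := fun i => by
    change (scalar (Fin n) d) i i = d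
    rw [Matrix.scalar_apply, Matrix.diagonal_apply_eq]
  refine ⟨z⁻¹ * v, ⟨mul_mem (inv_mem hzB) hv, fun i => ?_⟩, ?_⟩
  · rw [BB_diag_mul (inv_mem hzB) hv, hd, mul_comm, ← hzd i, BB_diag_inv hzB]
  · rw [map_mul, map_inv, hc z hz, inv_one, one_mul]

theorem p_elt_mem (hn : 0 < n) (hsurj : Function.Surjective π) (hk : ∀ x, π x = 1 → x ∈ center (SpecialLinearGroup (Fin n) K)) (hc : ∀ x ∈ center (SpecialLinearGroup (Fin n) K), π x = 1) (hK : CharP K p)
    {x : G} (hx : x ∈ normalizer (((UU n K).map π : Subgroup G) : Set G)) {k : ℕ} (h : x ^ p ^ k = 1) : x ∈ (UU n K).map π := by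
  obtain ⟨v, rfl⟩ := hsurj x
  have hvB := BB_of_pi hk hK hx
  have hz : v ^ p ^ k ∈ center (SpecialLinearGroup (Fin n) K) := hk _ (by rw [map_pow, h])
  obtain ⟨r, hr⟩ := center_scalar hz
  have hd : ∀ i, v.1 i i = v.1 ⟨0, hn⟩ ⟨0, hn⟩ := by
    intro i
    apply frob_inj (p := p) (k := k)
    rw [← BB_diag_pow hvB, ← BB_diag_pow hvB, hr, hr, if_pos rfl, if_pos rfl]
  exact diag_mem hn hsurj hc hvB hd

end

theorem sylow_of_normalizer {G : Type v} [Group G] [Finite G] {p : ℕ} [Fact p.Prime] (P : Subgroup G) (hP : IsPGroup p P)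
    (h : ∀ x ∈ normalizer (P : Set G), (∃ k, x ^ p ^ k = 1) → x ∈ P) : ∃ Q : Sylow p G, (Q : Subgroup G) = P := by
  obtain ⟨Q, hQ⟩ := hP.exists_le_sylow
  refine ⟨Q, ?_⟩
  by_contra hne
  obtain ⟨y, hyQ, hyN, hyP⟩ := Cfsg.Agent.L0.Fus.exists_mem_normalizer_of_lt Q.2 (lt_of_le_of_ne hQ (Ne.symm hne))
  apply hyP
  apply h y hyN
  obtain ⟨k, hk⟩ := Q.2 ⟨y, hyQ⟩
  exact ⟨k, congrArg Subtype.val hk⟩

/-- every Sylow subgroup is the image of the unitriangular group under a suitable quotient map -/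
theorem exists_pi {p : ℕ} [Fact p.Prime] (hK : CharP K p) {G : Type v} [Group G] [Finite G] {π : SpecialLinearGroup (Fin n) K →* G} (hn : 0 < n) (hsurj : Function.Surjective π) (hk : ∀ x, π x = 1 → x ∈ center (SpecialLinearGroup (Fin n) K)) (hc : ∀ x ∈ center (SpecialLinearGroup (Fin n) K), π x = 1)
    (S : Sylow p G) : ∃ π' : SpecialLinearGroup (Fin n) K →* G, Function.Surjective π' ∧ (∀ x, π' x = 1 → x ∈ center (SpecialLinearGroup (Fin n) K)) ∧ (∀ x ∈ center (SpecialLinearGroup (Fin n) K), π' x = 1) ∧ (S : Subgroup G) = (UU n K).map π' := by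
  have hP : IsPGroup p ((UU n K).map π) := by
    rintro ⟨_, u, hu, rfl⟩
    refine ⟨n, Subtype.ext ?_⟩
    change (π u) ^ p ^ n = 1
    rw [← map_pow, UU_pgroup hu, map_one]
  obtain ⟨Q, hQ⟩ := sylow_of_normalizer ((UU n K).map π) hP (fun x hx ⟨k, h⟩ => p_elt_mem hn hsurj hk hc hK hx h)
  obtain ⟨g, hg⟩ := MulAction.exists_smul_eq G Q S
  refine ⟨(MulAut.conj g).toMonoidHom.comp π, ?_, ?_, ?_, ?_⟩
  · exact (MulAut.conj g).surjective.comp hsurj
  · intro x hx
    apply hk
    exact (MulAut.conj g).injective (hx.trans (map_one (MulAut.conj g)).symm)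
  · intro x hx
    change MulAut.conj g (π x) = 1
    rw [hc x hx, map_one]
  · rw [← Subgroup.map_map, ← hQ, ← hg]
    rfl

end Cfsg.Agent.H1.UT
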