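import Mathlib
import Cfsg.Agent.H1.UT2
import Cfsg.Agent.H1.Basic

set_option autoImplicit false
set_option linter.style.haveILetI false
set_option linter.unusedVariables false
set_option linter.unusedSectionVars false
set_option linter.unusedSimpArgs false

/-! Strongly closed subgroups in the unitriangular group. -/

namespace Cfsg.Agent.H1.UT

open Matrix Subgroup

universe u v
variable {n : ℕ} {K : Type u} [Field K]

theorem ss_same (i j k : Fin n) (a b : K) : (single i j a : Matrix (Fin n) (Fin n) K) * single j k b = single i k (a * b) := by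
  rw [Matrix.single_mul_single_same]

theorem ss_ne (i j k l : Fin n) (h : j ≠ k) (a b : K) : (single i j a : Matrix (Fin n) (Fin n) K) * single k l b = 0 := by
  rw [Matrix.single_mul_single_of_ne (h := h)]

theorem single_sum (i j : Fin n) (a b : K) : (single i j (a + b) : Matrix (Fin n) (Fin n) K) = single i j a + single i j b := by
  rw [Matrix.single_add]

theorem tv_mul {i j : Fin n} (h : i ≠ j) (a b : K) : tv i j h a * tv i j h b = tv i j h (a + b) := by
  apply Subtype.ext
  change (1 + single i j a) * (1 + single i j b) = (1 + single i j (a + b) : Matrix (Fin n) (Fin n) K)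
  rw [add_mul, mul_add, mul_add, ss_ne i j i j h.symm, single_sum]
  simp only [one_mul, mul_one, add_zero]
  abel

theorem tv_zero {i j : Fin n} (h : i ≠ j) : tv i j h (0 : K) = 1 := by
  apply Subtype.ext
  change (1 + single i j 0 : Matrix (Fin n) (Fin n) K) = 1
  rw [Matrix.single_zero, add_zero]

theorem tv_inv {i j : Fin n} (h : i ≠ j) (a : K) : (tv i j h a)⁻¹ = tv i j h (-a) := by
  apply inv_eq_of_mul_eq_one_right
  rw [tv_mul, add_neg_cancel, tv_zero]

theorem tv_comm {i j k l : Fin n} (h : i ≠ j) (h' : k ≠ l) (hjk : j ≠ k) (hli : l ≠ i) (a b : K) : tv i j h a * tv k l h' b = tv k l h' b * tv i j h a := by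
  apply Subtype.ext
  change (1 + single i j a) * (1 + single k l b) = (1 + single k l b) * (1 + single i j a : Matrix (Fin n) (Fin n) K)
  rw [add_mul, mul_add, mul_add, add_mul, mul_add, mul_add, ss_ne i j k l hjk, ss_ne k l i j hli]
  simp only [one_mul, mul_one, add_zero]
  abel

theorem tv_rel {i j k : Fin n} (hij : i ≠ j) (hki : k ≠ i) (hkj : k ≠ j) (a b : K) : tv k i hki a * tv i j hij b = tv i j hij b * tv k j hkj (a * b) * tv k i hki a := by
  apply Subtype.ext
  change (1 + single k i a) * (1 + single i j b) = (1 + single i j b) * (1 + single k j (a * b)) * (1 + single k i a : Matrix (Fin n) (Fin n) K)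
  simp only [add_mul, mul_add, one_mul, mul_one]
  rw [ss_same, ss_ne i j k i hkj.symm, ss_ne i j k j hkj.symm, ss_ne k j k i hkj.symm, Matrix.zero_mul]
  abel

/-- moving the row index -/
theorem move1 {i j k : Fin n} (hij : i ≠ j) (hki : k ≠ i) (hkj : k ≠ j) {d : K} (hd : d ≠ 0) (b : K) : IsConj (tv i j hij b) (tv k j hkj (d * b)) := by
  rw [isConj_iff]
  refine ⟨tv k i hki d * tv i k hki.symm (-d⁻¹) * tv k i hki d, ?_⟩
  have h1 : tv k i hki d * tv i j hij b * (tv k i hki d)⁻¹ = tv i j hij b * tv k j hkj (d * b) := by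
    rw [tv_rel hij hki hkj]; group
  have h2 : tv i k hki.symm (-d⁻¹) * tv k j hkj (d * b) * (tv i k hki.symm (-d⁻¹))⁻¹ = tv k j hkj (d * b) * tv i j hij (-b) := by
    rw [tv_rel hkj hki.symm hij]
    have e : -d⁻¹ * (d * b) = -b := by field_simp
    rw [e]; group
  have h3 : tv i k hki.symm (-d⁻¹) * tv i j hij b * (tv i k hki.symm (-d⁻¹))⁻¹ = tv i j hij b := by
    rw [tv_comm hki.symm hij hki hij.symm]; group
  have h4 : tv k i hki d * tv k j hkj (d * b) * (tv k i hki d)⁻¹ = tv k j hkj (d * b) := by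
    rw [tv_comm hki hkj hki.symm hkj.symm]; group
  have h5 : tv i j hij b * (tv k j hkj (d * b) * tv i j hij (-b)) = tv k j hkj (d * b) := by
    rw [tv_comm hkj hij hij.symm hkj.symm, ← mul_assoc, tv_mul, add_neg_cancel, tv_zero, one_mul]
  calc tv k i hki d * tv i k hki.symm (-d⁻¹) * tv k i hki d * tv i j hij b * (tv k i hki d * tv i k hki.symm (-d⁻¹) * tv k i hki d)⁻¹
      = tv k i hki d * (tv i k hki.symm (-d⁻¹) * (tv k i hki d * tv i j hij b * (tv k i hki d)⁻¹) * (tv i k hki.symm (-d⁻¹))⁻¹) * (tv k i hki d)⁻¹ := by group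
    _ = tv k i hki d * ((tv i k hki.symm (-d⁻¹) * tv i j hij b * (tv i k hki.symm (-d⁻¹))⁻¹) * (tv i k hki.symm (-d⁻¹) * tv k j hkj (d * b) * (tv i k hki.symm (-d⁻¹))⁻¹)) * (tv k i hki d)⁻¹ := by
        rw [h1]; group
    _ = tv k j hkj (d * b) := by rw [h2, h3, h5, h4]

/-- moving the column index -/
theorem move2 {i j k : Fin n} (hij : i ≠ j) (hkj : k ≠ j) (hik : i ≠ k) {d : K} (hd : d ≠ 0) (b : K) : IsConj (tv i j hij b) (tv i k hik (b * d)) := by
  rw [isConj_iff]
  refine ⟨tv j k hkj.symm (-d) * tv k j hkj d⁻¹ * tv j k hkj.symm (-d), ?_⟩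
  have r1 : ∀ c e : K, tv j k hkj.symm c * tv i j hij e * (tv j k hkj.symm c)⁻¹ = tv i j hij e * tv i k hik (- (e * c)) := by
    intro c e
    have h0 := tv_rel hkj.symm hij hik e c
    -- tv i j e * tv j k c = tv j k c * tv i k (e*c) * tv i j e
    have h1 : tv j k hkj.symm c * tv i j hij e = (tv i k hik (e * c))⁻¹ * (tv i j hij e * tv j k hkj.symm c) := by
      rw [h0, tv_comm hkj.symm hik hik.symm hkj]
      group
    rw [h1, tv_inv hik]
    have h2 : tv i k hik (-(e * c)) * tv i j hij e = tv i j hij e * tv i k hik (-(e * c)) := tv_comm hik hij hik.symm hij.symm _ _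
    rw [← mul_assoc, h2]; group
  have r2 : ∀ c e : K, tv k j hkj c * tv i k hik e * (tv k j hkj c)⁻¹ = tv i k hik e * tv i j hij (- (e * c)) := by
    intro c e
    have h0 := tv_rel hkj hik hij e c
    have h1 : tv k j hkj c * tv i k hik e = (tv i j hij (e * c))⁻¹ * (tv i k hik e * tv k j hkj c) := by
      rw [h0, tv_comm hkj hij hij.symm hkj.symm]
      group
    rw [h1, tv_inv hij]
    have h2 : tv i j hij (-(e * c)) * tv i k hik e = tv i k hik e * tv i j hij (-(e * c)) := tv_comm hij hik hij.symm hik.symm _ _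
    rw [← mul_assoc, h2]; group
  have h1 : tv j k hkj.symm (-d) * tv i j hij b * (tv j k hkj.symm (-d))⁻¹ = tv i j hij b * tv i k hik (b * d) := by
    rw [r1, mul_neg, neg_neg]
  have h2 : tv k j hkj d⁻¹ * tv i k hik (b * d) * (tv k j hkj d⁻¹)⁻¹ = tv i k hik (b * d) * tv i j hij (-b) := by
    rw [r2]
    have e : -(b * d * d⁻¹) = -b := by field_simp
    rw [e]
  have h3 : tv k j hkj d⁻¹ * tv i j hij b * (tv k j hkj d⁻¹)⁻¹ = tv i j hij b := by
    rw [tv_comm hkj hij hij.symm hkj.symm]; group
  have h4 : tv j k hkj.symm (-d) * tv i k hik (b * d) * (tv j k hkj.symm (-d))⁻¹ = tv i k hik (b * d) := by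
    rw [tv_comm hkj.symm hik hik.symm hkj]; group
  have h5 : tv i j hij b * (tv i k hik (b * d) * tv i j hij (-b)) = tv i k hik (b * d) := by
    rw [tv_comm hik hij hik.symm hij.symm, ← mul_assoc, tv_mul, add_neg_cancel, tv_zero, one_mul]
  calc tv j k hkj.symm (-d) * tv k j hkj d⁻¹ * tv j k hkj.symm (-d) * tv i j hij b * (tv j k hkj.symm (-d) * tv k j hkj d⁻¹ * tv j k hkj.symm (-d))⁻¹
      = tv j k hkj.symm (-d) * (tv k j hkj d⁻¹ * (tv j k hkj.symm (-d) * tv i j hij b * (tv j k hkj.symm (-d))⁻¹) * (tv k j hkj d⁻¹)⁻¹) * (tv j k hkj.symm (-d))⁻¹ := by group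
    _ = tv j k hkj.symm (-d) * ((tv k j hkj d⁻¹ * tv i j hij b * (tv k j hkj d⁻¹)⁻¹) * (tv k j hkj d⁻¹ * tv i k hik (b * d) * (tv k j hkj d⁻¹)⁻¹)) * (tv j k hkj.symm (-d))⁻¹ := by
        rw [h1]; group
    _ = tv i k hik (b * d) := by rw [h2, h3, h5, h4]

/-- all elementary transvections are conjugate -/
theorem tv_conj (hn : 3 ≤ n) {c : K} (hc : c ≠ 0) {i₀ j₀ : Fin n} (h₀ : i₀ ≠ j₀) {i j : Fin n} (hij : i ≠ j) {b : K} (hb : b ≠ 0) : IsConj (tv i₀ j₀ h₀ c) (tv i j hij b) := by
  have third : ∀ i j : Fin n, ∃ k, k ≠ i ∧ k ≠ j := by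
    intro i j
    by_contra hcon
    push Not at hcon
    have h1 : (Finset.univ : Finset (Fin n)) ⊆ {i, j} := by
      intro k _
      rw [Finset.mem_insert, Finset.mem_singleton]
      by_cases h : k = i
      · exact Or.inl h
      · exact Or.inr (hcon k h)
    have h2 := Finset.card_le_card h1
    rw [Finset.card_univ, Fintype.card_fin] at h2
    have h3 : ({i, j} : Finset (Fin n)).card ≤ 2 := Finset.card_le_two
    omega
  -- scaling
  have sc : ∀ (i j : Fin n) (h : i ≠ j) (a b : K), a ≠ 0 → b ≠ 0 → IsConj (tv i j h a) (tv i j h b) := by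
    intro i j h a b ha hb
    obtain ⟨k, hki, hkj⟩ := third i j
    have h1 := move1 h hki hkj (d := b * a⁻¹) (mul_ne_zero hb (inv_ne_zero ha)) a
    have h2 := move1 hkj hki.symm h (d := (1 : K)) one_ne_zero (b * a⁻¹ * a)
    have e : 1 * (b * a⁻¹ * a) = b := by field_simp
    rw [e] at h2
    exact h1.trans h2
  have m1 : ∀ (i j k : Fin n) (h : i ≠ j) (h' : k ≠ j) (a b : K), a ≠ 0 → b ≠ 0 → IsConj (tv i j h a) (tv k j h' b) := by
    intro i j k h h' a b ha hb
    by_cases hki : k = i
    · subst hki; exact sc _ _ _ _ _ ha hb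
    · have h1 := move1 h hki h' (d := b * a⁻¹) (mul_ne_zero hb (inv_ne_zero ha)) a
      have e : b * a⁻¹ * a = b := by field_simp
      rw [e] at h1
      exact h1
  have m2 : ∀ (i j k : Fin n) (h : i ≠ j) (h' : i ≠ k) (a b : K), a ≠ 0 → b ≠ 0 → IsConj (tv i j h a) (tv i k h' b) := by
    intro i j k h h' a b ha hb
    by_cases hkj : k = j
    · subst hkj; exact sc _ _ _ _ _ ha hb
    · have h1 := move2 h hkj h' (d := b * a⁻¹) (mul_ne_zero hb (inv_ne_zero ha)) a
      have e : a * (b * a⁻¹) = b := by field_simp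
      rw [e] at h1
      exact h1
  by_cases hji : j = i₀
  · obtain ⟨k, hki, hkj⟩ := third i₀ j₀
    have hkj' : k ≠ j := by rw [hji]; exact hki
    exact (m1 i₀ j₀ k h₀ hkj c 1 hc one_ne_zero).trans ((m2 k j₀ j hkj hkj' 1 1 one_ne_zero one_ne_zero).trans (m1 k j i hkj' hij 1 b one_ne_zero hb))
  · exact (m2 i₀ j₀ j h₀ (Ne.symm hji) c 1 hc one_ne_zero).trans (m1 i₀ j i (Ne.symm hji) hij 1 b one_ne_zero hb)

/-- generation of the unitriangular group -/
theorem UU_gen (H : Subgroup (SpecialLinearGroup (Fin n) K)) (hH : ∀ (i j : Fin n) (h : i < j) (c : K), tv i j h.ne c ∈ H) : UU n K ≤ H := by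
  classical
  have key : ∀ (N : ℕ) (u : SpecialLinearGroup (Fin n) K), u ∈ UU n K → (Finset.univ.filter (fun q : Fin n × Fin n => q.1 < q.2 ∧ u.1 q.1 q.2 ≠ 0)).card = N → u ∈ H := by
    intro N
    induction N using Nat.strong_induction_on with
    | _ N ih =>
      intro u hu hN
      by_cases hz : ∀ i j : Fin n, i < j → u.1 i j = 0
      · have : u = 1 := by
          apply Subtype.ext
          ext i j
          change u.1 i j = (1 : Matrix (Fin n) (Fin n) K) i j
          rw [Matrix.one_apply]
          rcases lt_trichotomy i j with h | h | h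
          · rw [if_neg h.ne, hz i j h]
          · subst h; rw [if_pos rfl, hu.2]
          · rw [if_neg h.ne', hu.1 i j h]
        rw [this]; exact one_mem _
      · -- minimal row
        have hex : ∃ m : Fin n, (∃ j, m < j ∧ u.1 m j ≠ 0) ∧ ∀ i < m, ∀ j, i < j → u.1 i j = 0 := by
          push Not at hz
          obtain ⟨i₀, j₀, h1, h2⟩ := hz
          have hne : ({m : Fin n | ∃ j, m < j ∧ u.1 m j ≠ 0} : Set (Fin n)).Nonempty := ⟨i₀, j₀, h1, h2⟩
          refine ⟨WellFounded.min (wellFounded_lt) _ hne, WellFounded.min_mem (wellFounded_lt) _ hne, ?_⟩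
          intro i hi j hij
          by_contra hcon
          exact WellFounded.not_lt_min (wellFounded_lt) (s := {m : Fin n | ∃ j, m < j ∧ u.1 m j ≠ 0}) (x := i) ⟨j, hij, hcon⟩ hi
        obtain ⟨m, ⟨l, hml, hul⟩, hmin⟩ := hex
        have hent : ∀ i j, (u * tv m l hml.ne (-u.1 m l)).1 i j = u.1 i j - (if l = j then u.1 i m * u.1 m l else 0) := by
          intro i j
          change (u.1 * (1 + single m l (-u.1 m l))) i j = _
          rw [mul_add, mul_one, Matrix.add_apply]
          by_cases hlj : l = j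
          · subst hlj
            rw [if_pos rfl, Matrix.mul_single_apply_same, mul_neg, sub_eq_add_neg]
          · rw [if_neg hlj, Matrix.mul_single_apply_of_ne (hbj := Ne.symm hlj), add_zero, sub_zero]
        have hent2 : ∀ i j, i ≠ m ∨ j ≠ l → (u * tv m l hml.ne (-u.1 m l)).1 i j = u.1 i j := by
          intro i j hor
          rw [hent]
          by_cases hlj : l = j
          · rw [if_pos hlj]
            have him : i ≠ m := by
              rcases hor with h | h
              · exact h
              · exact absurd hlj.symm h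
            have h0 : u.1 i m = 0 := by
              rcases lt_or_gt_of_ne him with h | h
              · exact hmin i h m h
              · exact hu.1 i m h
            rw [h0, zero_mul, sub_zero]
          · rw [if_neg hlj, sub_zero]
        have hent3 : (u * tv m l hml.ne (-u.1 m l)).1 m l = 0 := by
          rw [hent, if_pos rfl, hu.2, one_mul, sub_self]
        have hU : u * tv m l hml.ne (-u.1 m l) ∈ UU n K := mul_mem hu (tv_mem_UU hml _)
        have hlt : (Finset.univ.filter (fun q : Fin n × Fin n => q.1 < q.2 ∧ (u * tv m l hml.ne (-u.1 m l)).1 q.1 q.2 ≠ 0)).card < N := by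
          rw [← hN]
          apply Finset.card_lt_card
          constructor
          · intro q hq
            rw [Finset.mem_filter] at hq ⊢
            refine ⟨hq.1, hq.2.1, ?_⟩
            by_cases hqq : q.1 ≠ m ∨ q.2 ≠ l
            · rw [← hent2 _ _ hqq]; exact hq.2.2
            · push Not at hqq
              have h1 := hq.2.2
              rw [hqq.1, hqq.2, hent3] at h1
              exact absurd rfl h1
          · intro hsub
            have h1 : (m, l) ∈ Finset.univ.filter (fun q : Fin n × Fin n => q.1 < q.2 ∧ u.1 q.1 q.2 ≠ 0) := by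
              rw [Finset.mem_filter]; exact ⟨Finset.mem_univ _, hml, hul⟩
            have h2 := hsub h1
            rw [Finset.mem_filter] at h2
            exact h2.2.2 hent3
        have h1 := ih _ hlt _ hU rfl
        have e : u = (u * tv m l hml.ne (-u.1 m l)) * (tv m l hml.ne (-u.1 m l))⁻¹ := by group
        rw [e]
        exact mul_mem h1 (inv_mem (hH m l hml _))
  intro u hu
  exact key _ u hu rfl

end Cfsg.Agent.H1.UT
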