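import Mathlib
import Cfsg.Agent.H1.UT3

set_option autoImplicit false
set_option linter.style.haveILetI false
set_option linter.unusedVariables false
set_option linter.unusedSectionVars false
set_option linter.unusedSimpArgs false

/-! The fusion system of `PSL(n,K)` in defining characteristic. -/

namespace Cfsg.Agent.H1.UT

open Matrix Subgroup

universe u v
variable {n : ℕ} {K : Type u} [Field K]

theorem tv_left (a b : Fin n) (h : a ≠ b) (c : K) (x : SpecialLinearGroup (Fin n) K) (i j : Fin n) : (tv a b h c * x).1 i j = x.1 i j + (if i = a then c * x.1 b j else 0) := by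
  change ((1 + single a b c) * x.1) i j = _
  rw [add_mul, one_mul, Matrix.add_apply]
  by_cases hi : i = a
  · subst hi
    rw [if_pos rfl, Matrix.single_mul_apply_same]
  · rw [if_neg hi, Matrix.single_mul_apply_of_ne (h := hi)]

theorem tv_right (a b : Fin n) (h : a ≠ b) (c : K) (x : SpecialLinearGroup (Fin n) K) (i j : Fin n) : (x * tv a b h c).1 i j = x.1 i j + (if j = b then x.1 i a * c else 0) := by
  change (x.1 * (1 + single a b c)) i j = _
  rw [mul_add, mul_one, Matrix.add_apply]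
  by_cases hj : j = b
  · subst hj
    rw [if_pos rfl, Matrix.mul_single_apply_same]
  · rw [if_neg hj, Matrix.mul_single_apply_of_ne (hbj := hj)]

theorem tv_pow {a b : Fin n} (h : a ≠ b) (c : K) (k : ℕ) : (tv a b h c) ^ k = tv a b h (k * c) := by
  induction k with
  | zero => rw [pow_zero, Nat.cast_zero, zero_mul, tv_zero]
  | succ k ih => rw [pow_succ, ih, tv_mul]; congr 1; push_cast; ring

theorem tv_pow_p {p : ℕ} [CharP K p] {a b : Fin n} (h : a ≠ b) (c : K) : (tv a b h c) ^ p = 1 := by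
  rw [tv_pow, CharP.cast_eq_zero, zero_mul, tv_zero]

theorem UU_off {u : SpecialLinearGroup (Fin n) K} (hu : u ∈ UU n K) {m m' : Fin n} (hm : m.val + 1 = m'.val) {w : SpecialLinearGroup (Fin n) K} (hw : w ∈ UU n K) : (u * w).1 m m' = u.1 m m' + w.1 m m' := by
  change (u.1 * w.1) m m' = _
  have hne : m ≠ m' := fun h => by rw [h] at hm; omega
  rw [Matrix.mul_apply, Finset.sum_eq_add m m' hne]
  · rw [hu.2, hw.2, one_mul, mul_one, add_comm]
  · rintro k _ ⟨h1, h2⟩
    rcases lt_or_gt_of_ne h1 with h | h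
    · rw [hu.1 m k h, zero_mul]
    · have h3 : m' < k := by
        have h4 : m.val < k.val := h
        have h5 : k.val ≠ m'.val := fun e => h2 (Fin.ext e)
        exact Fin.lt_def.mpr (by omega)
      rw [hw.1 k m' h3, mul_zero]
  · intro h; exact absurd (Finset.mem_univ _) h
  · intro h; exact absurd (Finset.mem_univ _) h

/-- radical of the minimal parabolic -/
def RR (m m' : Fin n) (hm : m.val + 1 = m'.val) (K : Type u) [Field K] : Subgroup (SpecialLinearGroup (Fin n) K) where
  carrier := {u | u ∈ UU n K ∧ u.1 m m' = 0}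
  mul_mem' := fun {x y} hx hy => ⟨mul_mem hx.1 hy.1, by rw [UU_off hx.1 hm hy.1, hx.2, hy.2, add_zero]⟩
  one_mem' := ⟨one_mem _, one_apply_ne (fun h => by rw [h] at hm; omega)⟩
  inv_mem' := fun {x} hx => ⟨inv_mem hx.1, by
    have h1 := UU_off hx.1 hm (inv_mem hx.1)
    rw [mul_inv_cancel, hx.2, zero_add] at h1
    rw [← h1]
    exact one_apply_ne (fun h => by rw [h] at hm; omega)⟩

theorem RR_UU {m m' : Fin n} {hm : m.val + 1 = m'.val} {u r : SpecialLinearGroup (Fin n) K} (hu : u ∈ UU n K) (hr : r ∈ RR m m' hm K) : u * r * u⁻¹ ∈ RR m m' hm K := by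
  refine ⟨mul_mem (mul_mem hu hr.1) (inv_mem hu), ?_⟩
  rw [UU_off (mul_mem hu hr.1) hm (inv_mem hu), UU_off hu hm hr.1, hr.2, add_zero, ← UU_off hu hm (inv_mem hu), mul_inv_cancel]
  exact one_apply_ne (fun h => by rw [h] at hm; omega)

theorem RR_low {m m' : Fin n} {hm : m.val + 1 = m'.val} (hne : m' ≠ m) (c : K) {r : SpecialLinearGroup (Fin n) K} (hr : r ∈ RR m m' hm K) : tv m' m hne c * r * (tv m' m hne c)⁻¹ ∈ RR m m' hm K := by
  have hent : ∀ i j, (tv m' m hne c * r * (tv m' m hne c)⁻¹).1 i j = (r.1 i j + (if i = m' then c * r.1 m j else 0)) + (if j = m then (r.1 i m' + (if i = m' then c * r.1 m m' else 0)) * (-c) else 0) := by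
    intro i j
    rw [tv_inv, tv_right, tv_left, tv_left]
  have hr1 := hr.1.1
  have hr2 := hr.1.2
  have hr3 := hr.2
  refine ⟨⟨?_, ?_⟩, ?_⟩
  · intro i j hij
    rw [hent, hr3, mul_zero, ite_self, add_zero, hr1 i j hij, zero_add]
    by_cases hi : i = m'
    · subst hi
      rw [if_pos rfl, hr2]
      by_cases hj : j = m
      · subst hj; rw [if_pos rfl, hr2]; ring
      · rw [if_neg hj, add_zero]
        have h3 : j < m := by
          have h4 : j.val < i.val := hij
          have h5 : j.val ≠ m.val := fun e => hj (Fin.ext e)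
          exact Fin.lt_def.mpr (by omega)
        rw [hr1 m j h3, mul_zero]
    · rw [if_neg hi, zero_add]
      by_cases hj : j = m
      · subst hj
        rw [if_pos rfl]
        have h3 : m' < i := by
          have h4 : j.val < i.val := hij
          have h5 : i.val ≠ m'.val := fun e => hi (Fin.ext e)
          exact Fin.lt_def.mpr (by omega)
        rw [hr1 i m' h3, zero_mul]
      · rw [if_neg hj]
  · intro i
    rw [hent, hr3, mul_zero, ite_self, add_zero, hr2]
    by_cases hi : i = m'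
    · subst hi
      rw [if_pos rfl, hr3, mul_zero, if_neg hne, add_zero, add_zero]
    · rw [if_neg hi, add_zero]
      by_cases hj : i = m
      · subst hj; rw [if_pos rfl, hr3, zero_mul, add_zero]
      · rw [if_neg hj, add_zero]
  · rw [hent, hr3, if_neg hne.symm, if_neg hne, add_zero, add_zero]

/-- the torus-like element -/
theorem exists_tor {m m' : Fin n} (hm : m.val + 1 = m'.val) (hne : m' ≠ m) {a : K} (ha : a ≠ 0) :
    (tv m' m hne (a⁻¹ - 1) * (tv m m' hne.symm 1 * tv m' m hne (a - 1))) ∈ BB n K ∧ (tv m' m hne (a⁻¹ - 1) * (tv m m' hne.symm 1 * tv m' m hne (a - 1))).1 m m = a ∧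
    ∀ i < m, (tv m' m hne (a⁻¹ - 1) * (tv m m' hne.symm 1 * tv m' m hne (a - 1))).1 i i = 1 := by
  have hx : ∀ i j, (tv m m' hne.symm 1 * tv m' m hne (a - 1)).1 i j = ((if i = j then (1 : K) else 0) + (if m = i ∧ m' = j then 1 else 0)) + (if j = m then ((if i = m' then (1 : K) else 0) + (if m = i ∧ m' = m' then 1 else 0)) * (a - 1) else 0) := by
    intro i j
    rw [tv_right, tv_apply, tv_apply]
  have hmm : m < m' := Fin.lt_def.mpr (by omega)
  refine ⟨?_, ?_, ?_⟩
  · intro i j hij
    rw [tv_left, hx, hx, if_neg hij.ne', if_neg (c := m = i ∧ m' = j) (by rintro ⟨rfl, rfl⟩; exact absurd hmm (not_lt.mpr hij.le)), zero_add, zero_add]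
    by_cases hi : i = m'
    · subst hi
      by_cases hj : j = m
      · subst hj
        simp [hne, hne.symm]
        field_simp
        ring
      · have h1 : ¬ (m = j) := fun h => hj h.symm
        have h2 : ¬ (i = j) := hij.ne'
        simp only [if_true, if_neg hj, if_neg h1, and_true, true_and, if_neg h2, if_false, add_zero, zero_add, mul_zero]
    · have h0 : ¬ (m = i ∧ m' = m' ∧ j = m) := fun h => by
        have := h.1
        rw [this] at h
        exact absurd hij (by rw [h.2.2]; exact lt_irrefl _)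
      rw [if_neg (c := i = m') hi, if_neg (c := i = m') hi, add_zero, zero_add]
      by_cases hj : j = m
      · subst hj
        rw [if_pos rfl, if_neg, zero_mul]
        rintro ⟨h1, -⟩
        exact hij.ne h1
      · rw [if_neg hj]
  · rw [tv_left, hx]
    simp [hne, hne.symm]
  · intro i hi
    have h1 : i ≠ m' := (hi.trans hmm).ne
    rw [tv_left, hx]
    simp [h1, hi.ne, hi.ne']

section
variable {p : ℕ} [Fact p.Prime] {G : Type v} [Group G] {π : SpecialLinearGroup (Fin n) K →* G}

theorem comm_of_pi (hk : ∀ x, π x = 1 → x ∈ center (SpecialLinearGroup (Fin n) K)) {u w : SpecialLinearGroup (Fin n) K} (hu : u ∈ UU n K) (hw : w ∈ UU n K) (h : π u * π w = π w * π u) : u * w = w * u := by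
  have h1 : u * w * (w * u)⁻¹ ∈ center (SpecialLinearGroup (Fin n) K) := by
    apply hk
    rw [map_mul, map_inv, map_mul, map_mul, h, mul_inv_cancel]
  have h2 := UU_center (mul_mem (mul_mem hu hw) (inv_mem (mul_mem hw hu))) h1
  exact mul_inv_eq_one.mp h2

theorem norm_of (R : Subgroup (SpecialLinearGroup (Fin n) K)) {t : SpecialLinearGroup (Fin n) K} (h1 : ∀ r ∈ R, t * r * t⁻¹ ∈ R) (h2 : ∀ r ∈ R, t⁻¹ * r * t⁻¹⁻¹ ∈ R) : π t ∈ normalizer ((R.map π : Subgroup G) : Set G) := by
  rw [mem_normalizer_iff]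
  intro x
  constructor
  · rintro ⟨u, hu, rfl⟩
    exact ⟨t * u * t⁻¹, h1 u hu, by rw [map_mul, map_mul, map_inv]⟩
  · rintro ⟨u, hu, hx⟩
    refine ⟨t⁻¹ * u * t⁻¹⁻¹, h2 u hu, ?_⟩
    rw [map_mul, map_mul, hx, map_inv, map_inv, map_inv, inv_inv]
    group

/-- strongly closed subgroups -/
theorem closed_eq [Finite G] (hn : 3 ≤ n) (hk : ∀ x, π x = 1 → x ∈ center (SpecialLinearGroup (Fin n) K)) (S : Sylow p G) (hS : (S : Subgroup G) = (UU n K).map π)
    (T : Subgroup G) (hT : T ≤ (S : Subgroup G)) (hT1 : T ≠ ⊥) (hcl : ∀ t ∈ T, ∀ g : G, g * t * g⁻¹ ∈ (S : Subgroup G) → g * t * g⁻¹ ∈ T) : T = (S : Subgroup G) := by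
  haveI : Group.IsNilpotent (S : Subgroup G) := S.2.isNilpotent
  haveI hnorm : (T.subgroupOf (S : Subgroup G)).Normal := by
    constructor
    intro t ht s
    rw [mem_subgroupOf] at ht ⊢
    exact hcl _ ht s (mul_mem (mul_mem s.2 t.2) (inv_mem s.2))
  have hne : T.subgroupOf (S : Subgroup G) ≠ ⊥ := by
    intro h
    rw [subgroupOf_eq_bot] at h
    apply hT1
    rw [eq_bot_iff]
    intro t ht
    exact h.le_bot ⟨ht, hT ht⟩
  have h1 := inf_center_ne_bot _ hne
  obtain ⟨⟨s, hsT, hsc⟩, hs1⟩ := Subgroup.ne_bot_iff_exists_ne_one.mp h1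
  have hs1' : (s : G) ≠ 1 := fun h => hs1 (Subtype.ext (Subtype.ext h))
  have hsS : (s : G) ∈ (UU n K).map π := hS.le s.2
  obtain ⟨u, hu, hus⟩ := hsS
  have hu1 : u ≠ 1 := by
    rintro rfl
    rw [map_one] at hus
    exact hs1' hus.symm
  have hcomm : ∀ w ∈ UU n K, w * u = u * w := by
    intro w hw
    apply comm_of_pi hk hw hu
    have h2 := mem_center_iff.mp hsc ⟨π w, hS.ge ⟨w, hw, rfl⟩⟩
    have h3 := congrArg Subtype.val h2
    change π w * (s : G) = (s : G) * π w at h3
    rw [← hus] at h3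
    exact h3
  let z : Fin n := ⟨0, by omega⟩
  let l : Fin n := ⟨n - 1, by omega⟩
  have hzl : z < l := Fin.lt_def.mpr (show 0 < n - 1 by omega)
  have hoff : ∀ i j : Fin n, i < j → (i ≠ z ∨ j ≠ l) → u.1 i j = 0 := by
    intro i j hij hor
    rcases hor with h | h
    · have hzi : z < i := by
        have h4 : i.val ≠ 0 := fun e => h (Fin.ext e)
        exact Fin.lt_def.mpr (show 0 < i.val by omega)
      have h2 := congrArg (fun x : SpecialLinearGroup (Fin n) K => x.1 z j) (hcomm _ (tv_mem_UU hzi 1))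
      simp only [tv_left, tv_right, if_true, if_neg hij.ne', one_mul, add_zero] at h2
      simpa using h2
    · have hjl : j < l := by
        have h4 : j.val ≠ n - 1 := fun e => h (Fin.ext e)
        have h5 := j.2
        exact Fin.lt_def.mpr (show j.val < n - 1 by omega)
      have h2 := congrArg (fun x : SpecialLinearGroup (Fin n) K => x.1 i l) (hcomm _ (tv_mem_UU hjl 1))
      simp only [tv_left, tv_right, if_true, if_neg hij.ne, mul_one, add_zero] at h2
      simpa using h2.symm
  have hut : u = tv z l hzl.ne (u.1 z l) := by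
    apply Subtype.ext
    ext i j
    rw [tv_apply]
    rcases lt_trichotomy i j with h | h | h
    · rw [if_neg h.ne, zero_add]
      by_cases h3 : z = i ∧ l = j
      · rw [if_pos h3, h3.1, h3.2]
      · rw [if_neg h3]
        apply hoff i j h
        by_contra hcon
        push Not at hcon
        exact h3 ⟨hcon.1.symm, hcon.2.symm⟩
    · subst h
      rw [if_pos rfl, if_neg, add_zero, hu.2]
      rintro ⟨h4, h5⟩
      exact hzl.ne (h4.trans h5.symm)
    · rw [if_neg h.ne', zero_add, if_neg, hu.1 i j h]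
      rintro ⟨h4, h5⟩
      rw [← h4, ← h5] at h
      exact absurd hzl (not_lt.mpr h.le)
  have hc : u.1 z l ≠ 0 := by
    intro h
    rw [h, tv_zero] at hut
    exact hu1 hut
  have hsT' : (s : G) ∈ T := hsT
  have hT2 : UU n K ≤ T.comap π := by
    apply UU_gen
    intro i j hij c
    rw [mem_comap]
    by_cases hc0 : c = 0
    · rw [hc0, tv_zero, map_one]; exact one_mem _
    · obtain ⟨g, hg⟩ := isConj_iff.mp (tv_conj hn hc hzl.ne hij.ne hc0)
      rw [← hut] at hg
      have h2 : π (tv i j hij.ne c) = π g * (s : G) * (π g)⁻¹ := by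
        rw [← hg, map_mul, map_mul, map_inv, hus]
      rw [h2]
      apply hcl _ hsT'
      rw [← h2]
      exact hS.ge ⟨_, tv_mem_UU hij c, rfl⟩
  apply le_antisymm hT
  rw [hS]
  rintro _ ⟨w, hw, rfl⟩
  exact hT2 hw

/-- the torus elements are generated as required -/
theorem tor_gen (hn : 3 ≤ n) [CharP K p] (hk : ∀ x, π x = 1 → x ∈ center (SpecialLinearGroup (Fin n) K)) (S : Subgroup G) (hS : S = (UU n K).map π)
    {m m' : Fin n} (hm : m.val + 1 = m'.val) (hne : m' ≠ m) {a : K} (ha : a ≠ 0) :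
    π (tv m' m hne (a⁻¹ - 1) * (tv m m' hne.symm 1 * tv m' m hne (a - 1))) ∈ genSet p S := by
  have hB := (exists_tor hm hne ha).1
  have hmm : m < m' := Fin.lt_def.mpr (by omega)
  subst hS
  refine ⟨pi_norm hB, (RR m m' hm K).map π, map_mono (fun x hx => hx.1), ?_, ?_, ?_⟩
  · rintro _ ⟨u, hu, rfl⟩
    exact norm_of _ (fun r hr => RR_UU hu hr) (fun r hr => RR_UU (inv_mem hu) hr)
  · rintro _ ⟨u, hu, rfl⟩ hcm
    refine ⟨u, ⟨hu, ?_⟩, rfl⟩
    have hcomm : ∀ w ∈ RR m m' hm K, w * u = u * w := fun w hw => comm_of_pi hk hw.1 hu (hcm _ ⟨w, hw, rfl⟩)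
    by_cases hl : m'.val + 1 < n
    · have hj : m' < (⟨m'.val + 1, hl⟩ : Fin n) := Fin.lt_def.mpr (Nat.lt_succ_self _)
      have hw : tv m' ⟨m'.val + 1, hl⟩ hj.ne (1 : K) ∈ RR m m' hm K := by
        refine ⟨tv_mem_UU hj 1, ?_⟩
        rw [tv_apply, if_neg hmm.ne, if_neg (fun h => hmm.ne' h.1), add_zero]
      have h2 := congrArg (fun x : SpecialLinearGroup (Fin n) K => x.1 m ⟨m'.val + 1, hl⟩) (hcomm _ hw)
      simp only [tv_left, tv_right, if_true, if_neg hmm.ne, mul_one, add_zero] at h2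
      simpa using h2.symm
    · have h2n := m'.2
      have hj : (⟨0, by omega⟩ : Fin n) < m := Fin.lt_def.mpr (show 0 < m.val by omega)
      have hw : tv ⟨0, by omega⟩ m hj.ne (1 : K) ∈ RR m m' hm K := by
        refine ⟨tv_mem_UU hj 1, ?_⟩
        rw [tv_apply, if_neg hmm.ne, if_neg (fun h => hmm.ne h.2), add_zero]
      have h2 := congrArg (fun x : SpecialLinearGroup (Fin n) K => x.1 ⟨0, by omega⟩ m') (hcomm _ hw)
      simp only [tv_left, tv_right, if_true, if_neg hmm.ne', one_mul, add_zero] at h2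
      simpa using h2
  · have hlow : ∀ c : K, π (tv m' m hne c) ∈ closure {g : G | g ∈ normalizer (((RR m m' hm K).map π : Subgroup G) : Set G) ∧ ∃ k : ℕ, g ^ p ^ k = 1} := by
      intro c
      apply Subgroup.subset_closure
      refine ⟨norm_of _ (fun r hr => RR_low hne c hr) (fun r hr => ?_), 1, ?_⟩
      · rw [tv_inv]; exact RR_low hne (-c) hr
      · rw [pow_one, ← map_pow, tv_pow_p, map_one]
    have hup : ∀ c : K, π (tv m m' hne.symm c) ∈ closure {g : G | g ∈ normalizer (((RR m m' hm K).map π : Subgroup G) : Set G) ∧ ∃ k : ℕ, g ^ p ^ k = 1} := by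
      intro c
      apply Subgroup.subset_closure
      refine ⟨norm_of _ (fun r hr => RR_UU (tv_mem_UU hmm c) hr) (fun r hr => RR_UU (inv_mem (tv_mem_UU hmm c)) hr), 1, ?_⟩
      · rw [pow_one, ← map_pow, tv_pow_p, map_one]
    rw [map_mul, map_mul]
    exact mul_mem (hlow _) (mul_mem (hup _) (hlow _))

theorem norm_gen (hn : 3 ≤ n) [CharP K p] (hk : ∀ x, π x = 1 → x ∈ center (SpecialLinearGroup (Fin n) K)) (S : Subgroup G) (hSp : IsPGroup p S) (hS : S = (UU n K).map π) :
    ∀ (d : ℕ) (v : SpecialLinearGroup (Fin n) K), v ∈ BB n K → (∀ i : Fin n, i.val + d + 1 < n → v.1 i i = 1) → d < n → π v ∈ closure (genSet p S) := by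
  intro d
  induction d with
  | zero =>
    intro v hv hd _
    -- all but the last diagonal entry are one
    have hvU : v ∈ UU n K := by
      refine ⟨hv, ?_⟩
      have hdet := BB_det hv
      have hl : (⟨n - 1, by omega⟩ : Fin n) ∈ Finset.univ := Finset.mem_univ _
      rw [Finset.prod_eq_single_of_mem _ hl] at hdet
      · intro i
        by_cases h : i.val + 1 < n
        · exact hd i (by omega)
        · have : i = ⟨n - 1, by omega⟩ := Fin.ext (by have := i.2; show i.val = n - 1; omega)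
          rw [this]; exact hdet
      · intro i _ hi
        apply hd
        have h1 : i.val ≠ n - 1 := fun e => hi (Fin.ext e)
        have := i.2
        omega
    apply Subgroup.subset_closure
    have hmem : π v ∈ S := by rw [hS]; exact ⟨v, hvU, rfl⟩
    refine ⟨le_normalizer hmem, S, le_rfl, fun s hs => le_normalizer hs, fun s hs _ => hs, ?_⟩
    apply Subgroup.subset_closure
    refine ⟨le_normalizer hmem, ?_⟩
    obtain ⟨k, hk⟩ := hSp ⟨π v, hmem⟩
    exact ⟨k, congrArg Subtype.val hk⟩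
  | succ d ih =>
    intro v hv hd hdn
    have hmlt : n - (d + 2) < n := by omega
    have hmlt' : n - (d + 2) + 1 < n := by omega
    have ha : v.1 ⟨n - (d + 2), hmlt⟩ ⟨n - (d + 2), hmlt⟩ ≠ 0 := by
      have := BB_diag_inv hv ⟨n - (d + 2), hmlt⟩
      exact left_ne_zero_of_mul_eq_one this
    have hne : (⟨n - (d + 2) + 1, hmlt'⟩ : Fin n) ≠ ⟨n - (d + 2), hmlt⟩ := fun h => by
      have := congrArg Fin.val h
      simp at this
    obtain ⟨h1, h2, h3⟩ := exists_tor (m := ⟨n - (d + 2), hmlt⟩) (m' := ⟨n - (d + 2) + 1, hmlt'⟩) rfl hne ha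
    have h4 := tor_gen hn hk S hS (m := ⟨n - (d + 2), hmlt⟩) (m' := ⟨n - (d + 2) + 1, hmlt'⟩) rfl hne ha
    generalize hg : (tv (⟨n - (d + 2) + 1, hmlt'⟩ : Fin n) ⟨n - (d + 2), hmlt⟩ hne ((v.1 ⟨n - (d + 2), hmlt⟩ ⟨n - (d + 2), hmlt⟩)⁻¹ - 1) * (tv ⟨n - (d + 2), hmlt⟩ ⟨n - (d + 2) + 1, hmlt'⟩ hne.symm 1 * tv ⟨n - (d + 2) + 1, hmlt'⟩ ⟨n - (d + 2), hmlt⟩ hne (v.1 ⟨n - (d + 2), hmlt⟩ ⟨n - (d + 2), hmlt⟩ - 1))) = g at h1 h2 h3 h4
    have h5 : π (v * g⁻¹) ∈ closure (genSet p S) := by
      apply ih (v * g⁻¹) (mul_mem hv (inv_mem h1))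
      · intro i hi
        rw [BB_diag_mul hv (inv_mem h1)]
        by_cases him : i.val = n - (d + 2)
        · have : i = ⟨n - (d + 2), hmlt⟩ := Fin.ext him
          rw [this]
          have h6 := BB_diag_inv h1 ⟨n - (d + 2), hmlt⟩
          rw [h2] at h6
          exact h6
        · have h7 : i < ⟨n - (d + 2), hmlt⟩ := Fin.lt_def.mpr (show i.val < n - (d + 2) by omega)
          rw [hd i (by omega), one_mul]
          have h6 := BB_diag_inv h1 i
          rw [h3 i h7, one_mul] at h6
          exact h6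
      · omega
    have e : π v = π (v * g⁻¹) * π g := by rw [← map_mul, inv_mul_cancel_right]
    rw [e]
    exact mul_mem h5 (Subgroup.subset_closure h4)

end

theorem psl_aux {K : Type u} [Field K] [Fintype K] (p : ℕ) [Fact p.Prime] [CharP K p] (n : ℕ) (hn : 3 ≤ n) (S : Sylow p (ProjectiveSpecialLinearGroup (Fin n) K)) :
    (Cfsg.groupFusionSystem (S : Subgroup (ProjectiveSpecialLinearGroup (Fin n) K))).IsSimple p := by
  classical
  obtain ⟨π, hsurj, hk, hc, hS⟩ := exists_pi (p := p) inferInstance (π := QuotientGroup.mk' (center (SpecialLinearGroup (Fin n) K))) (by omega)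
    (QuotientGroup.mk'_surjective _) (fun x hx => (QuotientGroup.eq_one_iff _).mp hx) (fun x hx => (QuotientGroup.eq_one_iff _).mpr hx) S
  apply simple_of_gen S
  · intro h
    have hz : (⟨0, by omega⟩ : Fin n) < ⟨1, by omega⟩ := Fin.lt_def.mpr Nat.zero_lt_one
    have h1 : π (tv _ _ hz.ne (1 : K)) ∈ (S : Subgroup (ProjectiveSpecialLinearGroup (Fin n) K)) := by
      rw [hS]; exact ⟨_, tv_mem_UU hz 1, rfl⟩
    rw [h, mem_bot] at h1
    have h2 := UU_center (tv_mem_UU hz 1) (hk _ h1)
    have h3 := congrArg (fun x : SpecialLinearGroup (Fin n) K => x.1 ⟨0, by omega⟩ ⟨1, by omega⟩) h2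
    simp only [tv_apply] at h3
    rw [if_neg hz.ne] at h3
    have h4 : (1 : SpecialLinearGroup (Fin n) K).1 (⟨0, by omega⟩ : Fin n) ⟨1, by omega⟩ = 0 := one_apply_ne hz.ne
    rw [h4] at h3
    simp at h3
  · intro T hT hT1 hcl
    exact closed_eq hn hk S hS T hT hT1 hcl
  · intro x hx
    obtain ⟨v, rfl⟩ := hsurj x
    rw [hS] at hx
    have hvB := BB_of_pi hk (inferInstance : CharP K p) hx
    exact norm_gen hn hk _ S.2 hS (n - 1) v hvB (fun i hi => absurd hi (by omega)) (by omega)

end Cfsg.Agent.H1.UT
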