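import Mathlib
import Cfsg.Agent.H1.UT4

set_option autoImplicit false
set_option linter.style.haveILetI false
set_option linter.unusedVariables false
set_option linter.unusedSectionVars false
set_option linter.unusedSimpArgs false

/-! Normalizers of unitriangular groups in `GL(n,K)`. -/

namespace Cfsg.Agent.H1.UT

open Matrix Subgroup

universe u
variable {n : ℕ} {K : Type u} [Field K]

/-- the normalizer of the unitriangular group is the triangular group -/
theorem GL_of_norm {v : GL (Fin n) K} (hv : ∀ u ∈ UU n K, ∀ i j, j < i → ((v * SpecialLinearGroup.toGL u * v⁻¹ : GL (Fin n) K) : Matrix (Fin n) (Fin n) K) i j = 0) : ∀ i j, j < i → (v : Matrix (Fin n) (Fin n) K) i j = 0 := by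
  classical
  obtain ⟨b, hb, b', hb', w, hw⟩ := Cfsg.Agent.H8.GLP.bruhat v
  have hmono : StrictMono w := by
    intro i j hij
    -- the conjugate of a transvection
    have ht : SpecialLinearGroup.toGL (tv i j hij.ne (1 : K)) ∈ Cfsg.Agent.H8.GLP.PG K (fun i : Fin n => i.val) := by
      rw [Cfsg.Agent.H8.GLP.mem_PG]
      intro k l hkl
      exact (tv_mem_UU hij 1).1 k l hkl
    have hx := mul_mem (mul_mem (inv_mem hb') ht) hb'
    have hxd : ∀ k, ((b'⁻¹ * SpecialLinearGroup.toGL (tv i j hij.ne (1 : K)) * b' : GL (Fin n) K) : Matrix (Fin n) (Fin n) K) k k = 1 := by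
      intro k
      have e1 := Cfsg.Agent.H8.GLP.mem_PG.mp (inv_mem hb')
      have e2 := Cfsg.Agent.H8.GLP.mem_PG.mp hb'
      have e3 := Cfsg.Agent.H8.GLP.mem_PG.mp ht
      have e4 := Cfsg.Agent.H8.GLP.mem_PG.mp (mul_mem (inv_mem hb') ht)
      have f1 : ((b'⁻¹ * SpecialLinearGroup.toGL (tv i j hij.ne (1 : K)) * b' : GL (Fin n) K) : Matrix (Fin n) (Fin n) K) k k
          = ((b'⁻¹ * SpecialLinearGroup.toGL (tv i j hij.ne (1 : K)) : GL (Fin n) K) : Matrix (Fin n) (Fin n) K) k k * (b' : Matrix (Fin n) (Fin n) K) k k :=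
        tri_diag_mul (fun a c h => e4 a c h) (fun a c h => e2 a c h) k
      have f2 : ((b'⁻¹ * SpecialLinearGroup.toGL (tv i j hij.ne (1 : K)) : GL (Fin n) K) : Matrix (Fin n) (Fin n) K) k k
          = ((b'⁻¹ : GL (Fin n) K) : Matrix (Fin n) (Fin n) K) k k * (tv i j hij.ne (1 : K)).1 k k :=
        tri_diag_mul (fun a c h => e1 a c h) (fun a c h => e3 a c h) k
      have f3 : ((b'⁻¹ * b' : GL (Fin n) K) : Matrix (Fin n) (Fin n) K) k k = ((b'⁻¹ : GL (Fin n) K) : Matrix (Fin n) (Fin n) K) k k * (b' : Matrix (Fin n) (Fin n) K) k k :=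
        tri_diag_mul (fun a c h => e1 a c h) (fun a c h => e2 a c h) k
      rw [f1, f2, (tv_mem_UU hij 1).2, mul_one, ← f3, inv_mul_cancel]
      exact one_apply_eq k
    obtain ⟨g, hg, hgA⟩ := exists_UU _ (fun a c h => Cfsg.Agent.H8.GLP.mem_PG.mp hx a c h) hxd
    have h1 := hv g hg
    have h2 : SpecialLinearGroup.toGL g = b'⁻¹ * SpecialLinearGroup.toGL (tv i j hij.ne (1 : K)) * b' := by
      apply Units.ext
      exact hgA
    have h3 : (v * SpecialLinearGroup.toGL g * v⁻¹) ∈ Cfsg.Agent.H8.GLP.PG K (fun i : Fin n => i.val) := by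
      rw [Cfsg.Agent.H8.GLP.mem_PG]
      intro k l hkl
      exact h1 k l hkl
    have h4 : (v * SpecialLinearGroup.toGL g * v⁻¹) = b * (Cfsg.Agent.H8.GLP.pm K w * SpecialLinearGroup.toGL (tv i j hij.ne (1 : K)) * (Cfsg.Agent.H8.GLP.pm K w)⁻¹) * b⁻¹ := by
      rw [hw, h2]
      group
    have h5 : Cfsg.Agent.H8.GLP.pm K w * SpecialLinearGroup.toGL (tv i j hij.ne (1 : K)) * (Cfsg.Agent.H8.GLP.pm K w)⁻¹ ∈ Cfsg.Agent.H8.GLP.PG K (fun i : Fin n => i.val) := by
      rw [h4] at h3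
      have h6 := mul_mem (mul_mem (inv_mem hb) h3) hb
      have e : b⁻¹ * (b * (Cfsg.Agent.H8.GLP.pm K w * SpecialLinearGroup.toGL (tv i j hij.ne (1 : K)) * (Cfsg.Agent.H8.GLP.pm K w)⁻¹) * b⁻¹) * b = Cfsg.Agent.H8.GLP.pm K w * SpecialLinearGroup.toGL (tv i j hij.ne (1 : K)) * (Cfsg.Agent.H8.GLP.pm K w)⁻¹ := by group
      rwa [e] at h6
    by_contra hcon
    have hne : w i ≠ w j := fun h => hij.ne (w.injective h)
    have hlt : w j < w i := lt_of_le_of_ne (not_lt.mp hcon) hne.symm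
    have h6 := Cfsg.Agent.H8.GLP.mem_PG.mp h5 (w i) (w j) hlt
    -- compute
    have h7 : ((Cfsg.Agent.H8.GLP.pm K w * SpecialLinearGroup.toGL (tv i j hij.ne (1 : K)) * (Cfsg.Agent.H8.GLP.pm K w)⁻¹ : GL (Fin n) K) : Matrix (Fin n) (Fin n) K) (w i) (w j)
        = ((Cfsg.Agent.H8.GLP.pm K w * SpecialLinearGroup.toGL (tv i j hij.ne (1 : K)) : GL (Fin n) K) : Matrix (Fin n) (Fin n) K) (w i) j := by
      rw [← map_inv]
      have := Cfsg.Agent.H8.GLP.mul_pm ((Cfsg.Agent.H8.GLP.pm K w * SpecialLinearGroup.toGL (tv i j hij.ne (1 : K)) : GL (Fin n) K) : Matrix (Fin n) (Fin n) K) w⁻¹ (w i) (w j)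
      rw [show w⁻¹ (w j) = j by simp] at this
      exact this
    have h8 : ((Cfsg.Agent.H8.GLP.pm K w * SpecialLinearGroup.toGL (tv i j hij.ne (1 : K)) : GL (Fin n) K) : Matrix (Fin n) (Fin n) K) (w i) j = (tv i j hij.ne (1 : K)).1 i j := by
      change ((Cfsg.Agent.H8.GLP.pm K w : Matrix (Fin n) (Fin n) K) * (tv i j hij.ne (1 : K)).1) (w i) j = _
      rw [Matrix.mul_apply, Finset.sum_eq_single i]
      · rw [Cfsg.Agent.H8.GLP.pm_apply, if_pos rfl, one_mul]
      · intro k _ hk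
        rw [Cfsg.Agent.H8.GLP.pm_apply, if_neg, zero_mul]
        intro h
        exact hk (w.injective h).symm
      · intro h; exact absurd (Finset.mem_univ _) h
    rw [h7, h8, tv_apply, if_neg hij.ne, if_pos ⟨rfl, rfl⟩, zero_add] at h6
    exact one_ne_zero h6
  have hw1 : w = 1 := by
    let o : Fin n ≃o Fin n := hmono.orderIsoOfSurjective w w.surjective
    have h1 : o = OrderIso.refl _ := Subsingleton.elim _ _
    apply Equiv.ext
    intro i
    have h2 := congrArg (fun f : Fin n ≃o Fin n => f i) h1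
    exact h2
  rw [hw1, map_one, mul_one] at hw
  have h1 : v ∈ Cfsg.Agent.H8.GLP.PG K (fun i : Fin n => i.val) := by
    rw [hw]; exact mul_mem hb hb'
  intro i j hij
  exact Cfsg.Agent.H8.GLP.mem_PG.mp h1 i j hij

end Cfsg.Agent.H1.UT
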