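import Mathlib
import Cfsg.Prelude.Def_Classical
import Cfsg.Agent.H1.UT5
import Cfsg.Agent.S0246

set_option autoImplicit false
set_option linter.style.haveILetI false
set_option linter.unusedVariables false
set_option linter.unusedSectionVars false
set_option linter.unusedSimpArgs false

/-! `Sp(2m,K)` through blocks. -/

namespace Cfsg.Agent.H1.PG

open Matrix Subgroup Cfsg.Agent.H1 Cfsg.Agent.H1.UT

universe u v
variable {m : ℕ} {K : Type u} [Field K]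

local notation "Spm" => symplecticGroup (Fin m) K

def bA (g : symplecticGroup (Fin m) K) : Matrix (Fin m) (Fin m) K := g.1.toBlocks₁₁
def bB (g : symplecticGroup (Fin m) K) : Matrix (Fin m) (Fin m) K := g.1.toBlocks₁₂
def bC (g : symplecticGroup (Fin m) K) : Matrix (Fin m) (Fin m) K := g.1.toBlocks₂₁
def bD (g : symplecticGroup (Fin m) K) : Matrix (Fin m) (Fin m) K := g.1.toBlocks₂₂

theorem blk (g : symplecticGroup (Fin m) K) : g.1 = fromBlocks (bA g) (bB g) (bC g) (bD g) := (fromBlocks_toBlocks g.1).symm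

theorem blk_ext {g h : symplecticGroup (Fin m) K} (h1 : bA g = bA h) (h2 : bB g = bB h) (h3 : bC g = bC h) (h4 : bD g = bD h) : g = h := by
  apply Subtype.ext
  rw [blk g, blk h, h1, h2, h3, h4]

theorem mul_blk (g h : symplecticGroup (Fin m) K) : (g * h).1 = fromBlocks (bA g * bA h + bB g * bC h) (bA g * bB h + bB g * bD h) (bC g * bA h + bD g * bC h) (bC g * bB h + bD g * bD h) := by
  have e : (g * h).1 = g.1 * h.1 := rfl
  rw [e, blk g, blk h, fromBlocks_multiply]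

theorem A_mul (g h : symplecticGroup (Fin m) K) : bA (g * h) = bA g * bA h + bB g * bC h := by
  conv_lhs => unfold bA
  rw [mul_blk, toBlocks_fromBlocks₁₁]

theorem B_mul (g h : symplecticGroup (Fin m) K) : bB (g * h) = bA g * bB h + bB g * bD h := by
  conv_lhs => unfold bB
  rw [mul_blk, toBlocks_fromBlocks₁₂]

theorem C_mul (g h : symplecticGroup (Fin m) K) : bC (g * h) = bC g * bA h + bD g * bC h := by
  conv_lhs => unfold bC
  rw [mul_blk, toBlocks_fromBlocks₂₁]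

theorem D_mul (g h : symplecticGroup (Fin m) K) : bD (g * h) = bC g * bB h + bD g * bD h := by
  conv_lhs => unfold bD
  rw [mul_blk, toBlocks_fromBlocks₂₂]

theorem one_blk : (1 : symplecticGroup (Fin m) K).1 = fromBlocks 1 0 0 1 := by
  rw [fromBlocks_one]; rfl

theorem A_one : bA (1 : symplecticGroup (Fin m) K) = 1 := by unfold bA; rw [one_blk, toBlocks_fromBlocks₁₁]
theorem B_one : bB (1 : symplecticGroup (Fin m) K) = 0 := by unfold bB; rw [one_blk, toBlocks_fromBlocks₁₂]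
theorem C_one : bC (1 : symplecticGroup (Fin m) K) = 0 := by unfold bC; rw [one_blk, toBlocks_fromBlocks₂₁]
theorem D_one : bD (1 : symplecticGroup (Fin m) K) = 1 := by unfold bD; rw [one_blk, toBlocks_fromBlocks₂₂]

theorem inv_blk (g : symplecticGroup (Fin m) K) : (g⁻¹).1 = fromBlocks (bD g)ᵀ (-(bB g)ᵀ) (-(bC g)ᵀ) (bA g)ᵀ := by
  have h0 : (g⁻¹).1 = -J (Fin m) K * (g.1)ᵀ * J (Fin m) K := SymplecticGroup.coe_inv g
  rw [h0]
  nth_rewrite 1 [blk g]
  rw [fromBlocks_transpose]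
  unfold J
  rw [fromBlocks_neg, fromBlocks_multiply, fromBlocks_multiply]
  congr 1 <;> simp

theorem A_inv (g : symplecticGroup (Fin m) K) : bA g⁻¹ = (bD g)ᵀ := by
  conv_lhs => unfold bA
  rw [inv_blk, toBlocks_fromBlocks₁₁]
theorem B_inv (g : symplecticGroup (Fin m) K) : bB g⁻¹ = -(bB g)ᵀ := by
  conv_lhs => unfold bB
  rw [inv_blk, toBlocks_fromBlocks₁₂]
theorem C_inv (g : symplecticGroup (Fin m) K) : bC g⁻¹ = -(bC g)ᵀ := by
  conv_lhs => unfold bC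
  rw [inv_blk, toBlocks_fromBlocks₂₁]
theorem D_inv (g : symplecticGroup (Fin m) K) : bD g⁻¹ = (bA g)ᵀ := by
  conv_lhs => unfold bD
  rw [inv_blk, toBlocks_fromBlocks₂₂]

theorem AD {g : symplecticGroup (Fin m) K} (h : bC g = 0) : bA g * (bD g)ᵀ = 1 := by
  have h1 := A_mul g g⁻¹
  rw [mul_inv_cancel, A_one, A_inv, C_inv, h] at h1
  simpa using h1.symm

theorem DA {g : symplecticGroup (Fin m) K} (h : bC g = 0) : (bD g)ᵀ * bA g = 1 := by
  have h1 := A_mul g⁻¹ g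
  rw [inv_mul_cancel, A_one, A_inv, h] at h1
  simpa using h1.symm

theorem CD (g : symplecticGroup (Fin m) K) : bC g * (bD g)ᵀ = bD g * (bC g)ᵀ := by
  have h1 := C_mul g g⁻¹
  rw [mul_inv_cancel, C_one, A_inv, C_inv, mul_neg] at h1
  exact (sub_eq_zero.mp (by rw [sub_eq_add_neg]; exact h1.symm))

/-- from blocks to elements -/
theorem mem_of_blk {A B C D : Matrix (Fin m) (Fin m) K} (h1 : B * Aᵀ = A * Bᵀ) (h2 : A * Dᵀ - B * Cᵀ = 1) (h3 : D * Aᵀ - C * Bᵀ = 1) (h4 : D * Cᵀ = C * Dᵀ) : fromBlocks A B C D ∈ symplecticGroup (Fin m) K := by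
  rw [SymplecticGroup.mem_iff]
  unfold J
  rw [fromBlocks_transpose, fromBlocks_multiply, fromBlocks_multiply]
  congr 1
  · simp [h1]
  · have : A * Dᵀ = 1 + B * Cᵀ := by rw [← h2]; abel
    simp [this]
  · have : D * Aᵀ = 1 + C * Bᵀ := by rw [← h3]; abel
    simp [this]
  · simp [h4]

/-- upper unipotent elements -/
def Nn (b : Matrix (Fin m) (Fin m) K) (hb : bᵀ = b) : symplecticGroup (Fin m) K := ⟨fromBlocks 1 b 0 1, mem_of_blk (by simp [hb]) (by simp) (by simp) (by simp)⟩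

/-- lower unipotent elements -/
def Np (b : Matrix (Fin m) (Fin m) K) (hb : bᵀ = b) : symplecticGroup (Fin m) K := ⟨fromBlocks 1 0 b 1, mem_of_blk (by simp) (by simp) (by simp) (by simp [hb])⟩

/-- Levi elements -/
def Lg (a : GL (Fin m) K) : symplecticGroup (Fin m) K := ⟨fromBlocks a.1 0 0 (a⁻¹).1ᵀ, mem_of_blk (by simp)
  (by rw [transpose_transpose, zero_mul, sub_zero]; exact a.mul_inv)
  (by rw [zero_mul, sub_zero, ← transpose_mul, a.mul_inv, transpose_one]) (by simp)⟩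

theorem Nn_A (b : Matrix (Fin m) (Fin m) K) (hb : bᵀ = b) : bA (Nn b hb) = 1 := toBlocks_fromBlocks₁₁ _ _ _ _
theorem Nn_B (b : Matrix (Fin m) (Fin m) K) (hb : bᵀ = b) : bB (Nn b hb) = b := toBlocks_fromBlocks₁₂ _ _ _ _
theorem Nn_C (b : Matrix (Fin m) (Fin m) K) (hb : bᵀ = b) : bC (Nn b hb) = 0 := toBlocks_fromBlocks₂₁ _ _ _ _
theorem Nn_D (b : Matrix (Fin m) (Fin m) K) (hb : bᵀ = b) : bD (Nn b hb) = 1 := toBlocks_fromBlocks₂₂ _ _ _ _
theorem Np_A (b : Matrix (Fin m) (Fin m) K) (hb : bᵀ = b) : bA (Np b hb) = 1 := toBlocks_fromBlocks₁₁ _ _ _ _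
theorem Np_B (b : Matrix (Fin m) (Fin m) K) (hb : bᵀ = b) : bB (Np b hb) = 0 := toBlocks_fromBlocks₁₂ _ _ _ _
theorem Np_C (b : Matrix (Fin m) (Fin m) K) (hb : bᵀ = b) : bC (Np b hb) = b := toBlocks_fromBlocks₂₁ _ _ _ _
theorem Np_D (b : Matrix (Fin m) (Fin m) K) (hb : bᵀ = b) : bD (Np b hb) = 1 := toBlocks_fromBlocks₂₂ _ _ _ _
theorem Lg_A (a : GL (Fin m) K) : bA (Lg a) = a.1 := toBlocks_fromBlocks₁₁ _ _ _ _
theorem Lg_B (a : GL (Fin m) K) : bB (Lg a) = 0 := toBlocks_fromBlocks₁₂ _ _ _ _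
theorem Lg_C (a : GL (Fin m) K) : bC (Lg a) = 0 := toBlocks_fromBlocks₂₁ _ _ _ _
theorem Lg_D (a : GL (Fin m) K) : bD (Lg a) = (a⁻¹).1ᵀ := toBlocks_fromBlocks₂₂ _ _ _ _

theorem Lg_mul (a b : GL (Fin m) K) : Lg a * Lg b = Lg (a * b) := by
  apply blk_ext
  · rw [A_mul, Lg_A, Lg_A, Lg_A, Lg_B]; simp
  · rw [B_mul, Lg_B, Lg_B, Lg_B]; simp
  · rw [C_mul, Lg_C, Lg_C, Lg_C]; simp
  · rw [D_mul, Lg_C, Lg_D, Lg_D, Lg_D, _root_.mul_inv_rev, zero_mul, zero_add, ← transpose_mul]; rfl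

theorem Lg_one : Lg (1 : GL (Fin m) K) = 1 := by
  apply blk_ext
  · rw [Lg_A, A_one]; rfl
  · rw [Lg_B, B_one]
  · rw [Lg_C, C_one]
  · rw [Lg_D, D_one, inv_one]; exact transpose_one

theorem Lg_inv (a : GL (Fin m) K) : (Lg a)⁻¹ = Lg a⁻¹ := by
  apply inv_eq_of_mul_eq_one_right
  rw [Lg_mul, mul_inv_cancel, Lg_one]

theorem Nn_mul (b c : Matrix (Fin m) (Fin m) K) (hb : bᵀ = b) (hc : cᵀ = c) : Nn b hb * Nn c hc = Nn (b + c) (by rw [transpose_add, hb, hc]) := by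
  apply blk_ext
  · rw [A_mul, Nn_A, Nn_A, Nn_A, Nn_C]; simp
  · rw [B_mul, Nn_A, Nn_B, Nn_B, Nn_B, Nn_D]; simp [add_comm]
  · rw [C_mul, Nn_C, Nn_C, Nn_C]; simp
  · rw [D_mul, Nn_C, Nn_D, Nn_D, Nn_D]; simp

theorem Nn_inv (b : Matrix (Fin m) (Fin m) K) (hb : bᵀ = b) : (Nn b hb)⁻¹ = Nn (-b) (by rw [transpose_neg, hb]) := by
  apply blk_ext
  · rw [A_inv, Nn_D, Nn_A, transpose_one]
  · rw [B_inv, Nn_B, Nn_B, hb]
  · rw [C_inv, Nn_C, Nn_C]; simp
  · rw [D_inv, Nn_A, Nn_D, transpose_one]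

theorem LN_conj (a : GL (Fin m) K) (b : Matrix (Fin m) (Fin m) K) (hb : bᵀ = b) : Lg a * Nn b hb * (Lg a)⁻¹ = Nn (a.1 * b * (a.1)ᵀ) (by rw [transpose_mul, transpose_mul, transpose_transpose, hb, Matrix.mul_assoc]) := by
  rw [mul_inv_eq_iff_eq_mul]
  apply blk_ext
  · rw [A_mul, A_mul, Nn_A, Nn_A, Lg_A, Nn_C, Lg_C]; simp
  · rw [B_mul, B_mul, Lg_A, Nn_B, Lg_B, Nn_A, Nn_B, Lg_D, Matrix.mul_assoc (a.1 * b), ← transpose_mul, show (a⁻¹).1 * a.1 = 1 from a.inv_mul]; simp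
  · rw [C_mul, C_mul, Nn_C, Nn_C, Lg_C]; simp
  · rw [D_mul, D_mul, Nn_C, Lg_C, Nn_D, Nn_D]; simp

/-- triangular elements -/
def BBs (m : ℕ) (K : Type u) [Field K] : Subgroup (symplecticGroup (Fin m) K) where
  carrier := {g | bC g = 0 ∧ ∀ i j, j < i → bA g i j = 0}
  mul_mem' := by
    rintro g h ⟨hg1, hg2⟩ ⟨hh1, hh2⟩
    refine ⟨by rw [C_mul, hg1, hh1]; simp, fun i j hij => ?_⟩
    rw [A_mul, hh1, mul_zero, add_zero, Matrix.mul_apply]
    apply Finset.sum_eq_zero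
    intro k _
    by_cases h : k < i
    · rw [hg2 i k h, zero_mul]
    · rw [hh2 k j (lt_of_lt_of_le hij (not_lt.mp h)), mul_zero]
  one_mem' := ⟨C_one, fun i j hij => by rw [A_one]; exact one_apply_ne hij.ne'⟩
  inv_mem' := by
    rintro g ⟨hg1, hg2⟩
    refine ⟨by rw [C_inv, hg1]; simp, ?_⟩
    have h1 : BlockTriangular (bA g) (id : Fin m → Fin m) := fun i j hij => hg2 i j hij
    have h3 : (bD g)ᵀ = (bA g)⁻¹ := (Matrix.inv_eq_right_inv (AD hg1)).symm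
    haveI : Invertible (bA g) := ⟨(bD g)ᵀ, DA hg1, AD hg1⟩
    have h2 := Matrix.blockTriangular_inv_of_blockTriangular h1
    intro i j hij
    rw [A_inv, h3]
    exact h2 hij

theorem bbA_mul {g h : symplecticGroup (Fin m) K} (hh : h ∈ BBs m K) : bA (g * h) = bA g * bA h := by rw [A_mul, hh.1, mul_zero, add_zero]

theorem bb_diag {g h : symplecticGroup (Fin m) K} (hg : g ∈ BBs m K) (hh : h ∈ BBs m K) (i : Fin m) : bA (g * h) i i = bA g i i * bA h i i := by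
  rw [bbA_mul hh]; exact tri_diag_mul hg.2 hh.2 i

theorem bb_diag_inv {g : symplecticGroup (Fin m) K} (hg : g ∈ BBs m K) (i : Fin m) : bA g i i * bA g⁻¹ i i = 1 := by
  rw [← bb_diag hg (inv_mem hg), mul_inv_cancel, A_one]; exact one_apply_eq i

theorem bb_diag_pow {g : symplecticGroup (Fin m) K} (hg : g ∈ BBs m K) (i : Fin m) (k : ℕ) : bA (g ^ k) i i = bA g i i ^ k := by
  induction k with
  | zero => rw [pow_zero, pow_zero, A_one]; exact one_apply_eq i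
  | succ k ih => rw [pow_succ, pow_succ, bb_diag (pow_mem hg k) hg, ih]

/-- unitriangular elements -/
def UUs (m : ℕ) (K : Type u) [Field K] : Subgroup (symplecticGroup (Fin m) K) where
  carrier := {g | g ∈ BBs m K ∧ ∀ i, bA g i i = 1}
  mul_mem' := fun {x y} hx hy => ⟨mul_mem hx.1 hy.1, fun i => by rw [bb_diag hx.1 hy.1, hx.2, hy.2, one_mul]⟩
  one_mem' := ⟨one_mem _, fun i => by rw [A_one]; exact one_apply_eq i⟩
  inv_mem' := fun {x} hx => ⟨inv_mem hx.1, fun i => by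
    have := bb_diag_inv hx.1 i
    rwa [hx.2, one_mul] at this⟩

theorem uu_conj {b u : symplecticGroup (Fin m) K} (hb : b ∈ BBs m K) (hu : u ∈ UUs m K) : b * u * b⁻¹ ∈ UUs m K := by
  refine ⟨mul_mem (mul_mem hb hu.1) (inv_mem hb), fun i => ?_⟩
  rw [bb_diag (mul_mem hb hu.1) (inv_mem hb), bb_diag hb hu.1, hu.2, mul_one, bb_diag_inv hb]

/-- the Levi part of a unitriangular element -/
theorem uu_levi {g : symplecticGroup (Fin m) K} (hg : g ∈ UUs m K) : ∃ u ∈ UU m K, u.1 = bA g := exists_UU _ hg.1.2 hg.2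

theorem N_mem (b : Matrix (Fin m) (Fin m) K) (hb : bᵀ = b) : Nn b hb ∈ UUs m K :=
  ⟨⟨Nn_C b hb, fun i j hij => by rw [Nn_A]; exact one_apply_ne hij.ne'⟩, fun i => by rw [Nn_A]; exact one_apply_eq i⟩

/-- Levi elements from `SL` -/
def Ls (u : SpecialLinearGroup (Fin m) K) : symplecticGroup (Fin m) K := Lg (SpecialLinearGroup.toGL u)

theorem Ls_A (u : SpecialLinearGroup (Fin m) K) : bA (Ls u) = u.1 := Lg_A _
theorem Ls_mul (u w : SpecialLinearGroup (Fin m) K) : Ls u * Ls w = Ls (u * w) := by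
  unfold Ls; rw [Lg_mul, map_mul]
theorem Ls_one : Ls (1 : SpecialLinearGroup (Fin m) K) = 1 := by unfold Ls; rw [map_one, Lg_one]
theorem Ls_inv (u : SpecialLinearGroup (Fin m) K) : (Ls u)⁻¹ = Ls u⁻¹ := by unfold Ls; rw [Lg_inv, map_inv]

theorem Ls_BB {u : SpecialLinearGroup (Fin m) K} (hu : u ∈ BB m K) : Ls u ∈ BBs m K := ⟨Lg_C _, fun i j hij => by rw [Ls_A]; exact hu i j hij⟩
theorem Ls_UU {u : SpecialLinearGroup (Fin m) K} (hu : u ∈ UU m K) : Ls u ∈ UUs m K := ⟨Ls_BB hu.1, fun i => by rw [Ls_A]; exact hu.2 i⟩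

theorem pow_bC {g : symplecticGroup (Fin m) K} (hg : bC g = 0) (k : ℕ) : bC (g ^ k) = 0 ∧ bA (g ^ k) = bA g ^ k := by
  induction k with
  | zero => rw [pow_zero, pow_zero]; exact ⟨C_one, A_one⟩
  | succ k ih =>
    rw [pow_succ]
    refine ⟨by rw [C_mul, ih.1, hg]; simp, by rw [A_mul, hg, ih.2, pow_succ]; simp⟩

theorem BA {g : symplecticGroup (Fin m) K} : bB g * (bA g)ᵀ = bA g * (bB g)ᵀ := by
  have h1 := B_mul g g⁻¹
  rw [mul_inv_cancel, B_one, B_inv, D_inv, mul_neg] at h1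
  exact (neg_add_eq_zero.mp h1.symm).symm

theorem pow_N {h : symplecticGroup (Fin m) K} (hA : bA h = 1) (hC : bC h = 0) (hD : bD h = 1) (k : ℕ) : bA (h ^ k) = 1 ∧ bC (h ^ k) = 0 ∧ bD (h ^ k) = 1 ∧ bB (h ^ k) = (k : K) • bB h := by
  induction k with
  | zero => rw [pow_zero]; exact ⟨A_one, C_one, D_one, by rw [B_one]; simp⟩
  | succ k ih =>
    obtain ⟨h1, h2, h3, h4⟩ := ih
    rw [pow_succ]
    refine ⟨by rw [A_mul, h1, hA, hC]; simp, by rw [C_mul, h2, hC]; simp, by rw [D_mul, h2, h3, hD]; simp, ?_⟩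
    rw [B_mul, h1, h4, hD, one_mul, mul_one]
    push_cast
    rw [add_smul, one_smul, add_comm]

theorem uu_pgroup {p : ℕ} [Fact p.Prime] [CharP K p] {g : symplecticGroup (Fin m) K} (hg : g ∈ UUs m K) : g ^ p ^ (m + 1) = 1 := by
  obtain ⟨u, hu, hug⟩ := uu_levi hg
  have h1 := pow_bC hg.1.1 (p ^ m)
  have h2 : bA g ^ p ^ m = 1 := by
    rw [← hug, ← Matrix.SpecialLinearGroup.coe_pow, UU_pgroup hu]; rfl
  rw [h2] at h1
  have h3 := AD h1.1
  rw [h1.2, one_mul] at h3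
  have h4 : bD (g ^ p ^ m) = 1 := by rw [← transpose_transpose (bD (g ^ p ^ m)), h3, transpose_one]
  obtain ⟨f1, f2, f3, f4⟩ := pow_N h1.2 h1.1 h4 p
  rw [pow_succ, pow_mul]
  apply blk_ext
  · rw [f1, A_one]
  · rw [f4, B_one, CharP.cast_eq_zero, zero_smul]
  · rw [f2, C_one]
  · rw [f3, D_one]

end Cfsg.Agent.H1.PG
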