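import Mathlib
import Cfsg.Agent.H1.PG1

set_option autoImplicit false
set_option linter.style.haveILetI false
set_option linter.unusedVariables false
set_option linter.unusedSectionVars false
set_option linter.unusedSimpArgs false

/-! `PSp(2m,K)` in defining characteristic: Sylow subgroups. -/

namespace Cfsg.Agent.H1.PG

open Matrix Subgroup Cfsg.Agent.H1 Cfsg.Agent.H1.UT

universe u v
variable {m : ℕ} {K : Type u} [Field K]

theorem sgl_symm (i : Fin m) (c : K) : (single i i c : Matrix (Fin m) (Fin m) K)ᵀ = single i i c := by rw [Matrix.transpose_single]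

theorem sgl_conj (A B : Matrix (Fin m) (Fin m) K) (i j : Fin m) (c : K) (k l : Fin m) : (A * single i j c * Bᵀ) k l = A k i * c * B l j := by
  rw [Matrix.mul_apply, Finset.sum_eq_single j]
  · rw [Matrix.mul_single_apply_same, transpose_apply]
  · intro b _ hb
    rw [Matrix.mul_single_apply_of_ne (hbj := hb), zero_mul]
  · intro h; exact absurd (Finset.mem_univ _) h

theorem norm_BBs {v : symplecticGroup (Fin m) K} (hv : ∀ u ∈ UUs m K, v * u * v⁻¹ ∈ UUs m K) : v ∈ BBs m K := by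
  have hC : bC v = 0 := by
    ext k i
    have h1 := (hv _ (N_mem (single i i 1) (sgl_symm i 1))).1.1
    rw [C_mul, C_mul, D_mul, Nn_A, Nn_B, Nn_C, Nn_D, A_inv, C_inv, mul_one, mul_zero, add_zero, mul_one, mul_neg, add_mul, CD v] at h1
    have h2 : bC v * single i i 1 * (bC v)ᵀ = 0 := by
      have e : bC v * single i i 1 * (bC v)ᵀ = -(bD v * (bC v)ᵀ + -(bC v * single i i 1 * (bC v)ᵀ + bD v * (bC v)ᵀ)) := by abel
      rw [e, h1, neg_zero]
    have h3 := congrFun (congrFun h2 k) k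
    rw [sgl_conj] at h3
    simpa using h3
  refine ⟨hC, ?_⟩
  let a : GL (Fin m) K := ⟨bA v, (bD v)ᵀ, AD hC, DA hC⟩
  apply GL_of_norm (v := a)
  intro u hu i j hij
  have h1 := (hv _ (Ls_UU hu)).1.2 i j hij
  rw [A_mul, A_mul, A_inv, C_inv, hC, Ls_A] at h1
  have h2 : bC (Ls u) = 0 := Lg_C _
  rw [h2] at h1
  simp only [mul_zero, add_zero, transpose_zero, neg_zero] at h1
  exact h1

/-- conjugation of `Nn` by a block triangular element -/
theorem conj_N {v : symplecticGroup (Fin m) K} (hC : bC v = 0) (b : Matrix (Fin m) (Fin m) K) (hb : bᵀ = b) :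
    v * Nn b hb * v⁻¹ = Nn (bA v * b * (bA v)ᵀ) (by rw [transpose_mul, transpose_mul, transpose_transpose, hb, Matrix.mul_assoc]) := by
  rw [mul_inv_eq_iff_eq_mul]
  apply blk_ext
  · rw [A_mul, A_mul, Nn_A, Nn_A, Nn_C, hC]; simp
  · rw [B_mul, B_mul, Nn_A, Nn_B, Nn_D, Nn_B, mul_one, one_mul]
    have h1 : (bA v)ᵀ * bD v = 1 := by
      have := congrArg transpose (DA hC)
      rwa [transpose_mul, transpose_transpose, transpose_one] at this
    rw [Matrix.mul_assoc (bA v * b), h1, mul_one, add_comm]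
  · rw [C_mul, C_mul, Nn_C, Nn_C, hC]; simp
  · rw [D_mul, D_mul, Nn_C, Nn_D, Nn_D, hC]; simp

/-- central elements -/
theorem cen_blk {z : symplecticGroup (Fin m) K} (hz : z ∈ center (symplecticGroup (Fin m) K)) : z ∈ BBs m K ∧ ∃ d : K, d * d = 1 ∧ ∀ i, bA z i i = d := by
  classical
  have h1 : ∀ u ∈ UUs m K, z * u * z⁻¹ ∈ UUs m K := by
    intro u hu
    have : z * u * z⁻¹ = u := by rw [← mem_center_iff.mp hz u]; group
    rw [this]; exact hu
  have hB := norm_BBs h1
  refine ⟨hB, ?_⟩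
  have h2 : ∀ (b : Matrix (Fin m) (Fin m) K) (hb : bᵀ = b), bA z * b * (bA z)ᵀ = b := by
    intro b hb
    have h3 : z * Nn b hb * z⁻¹ = Nn b hb := by rw [← mem_center_iff.mp hz]; group
    rw [conj_N hB.1] at h3
    have h4 := congrArg bB h3
    rwa [Nn_B, Nn_B] at h4
  have h3 : ∀ i, bA z i i * bA z i i = 1 := by
    intro i
    have h4 := congrFun (congrFun (h2 (single i i 1) (sgl_symm i 1)) i) i
    rw [sgl_conj] at h4
    simpa using h4
  have h5 : ∀ i j, bA z i i = bA z j j := by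
    intro i j
    by_cases hij : i = j
    · rw [hij]
    · have hb : (single i j 1 + single j i 1 : Matrix (Fin m) (Fin m) K)ᵀ = single i j 1 + single j i 1 := by
        rw [transpose_add, Matrix.transpose_single, Matrix.transpose_single, add_comm]
      have h4 := congrFun (congrFun (h2 _ hb) i) j
      rw [Matrix.mul_add, Matrix.add_mul, Matrix.add_apply, sgl_conj, sgl_conj, Matrix.add_apply] at h4
      have h6 : bA z i j = 0 ∨ bA z j i = 0 := by
        rcases lt_or_gt_of_ne hij with h | h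
        · right; exact hB.2 j i h
        · left; exact hB.2 i j h
      have h7 : bA z i j * 1 * bA z j i = 0 := by rcases h6 with h | h <;> rw [h] <;> simp
      rw [h7, add_zero, mul_one, Matrix.single_apply_same, Matrix.single_apply_of_ne (h := fun h => hij h.1.symm), add_zero] at h4
      have h8 := h3 j
      calc bA z i i = bA z i i * (bA z j j * bA z j j) := by rw [h8, mul_one]
        _ = (bA z i i * bA z j j) * bA z j j := by ring
        _ = bA z j j := by rw [h4, one_mul]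
  rcases Nat.eq_zero_or_pos m with h0 | h0
  · subst h0
    exact ⟨1, by simp, fun i => i.elim0⟩
  · exact ⟨bA z ⟨0, h0⟩ ⟨0, h0⟩, h3 _, fun i => h5 i _⟩

theorem uu_D {g : symplecticGroup (Fin m) K} (hC : bC g = 0) (hA : bA g = 1) : bD g = 1 := by
  have h3 := AD hC
  rw [hA, one_mul] at h3
  rw [← transpose_transpose (bD g), h3, transpose_one]

theorem uu_center {z : symplecticGroup (Fin m) K} (hz : z ∈ center (symplecticGroup (Fin m) K)) (hu : z ∈ UUs m K) : z = 1 := by
  classical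
  have h2 : ∀ (b : Matrix (Fin m) (Fin m) K) (hb : bᵀ = b), bA z * b * (bA z)ᵀ = b := by
    intro b hb
    have h3 : z * Nn b hb * z⁻¹ = Nn b hb := by rw [← mem_center_iff.mp hz]; group
    rw [conj_N hu.1.1] at h3
    have h4 := congrArg bB h3
    rwa [Nn_B, Nn_B] at h4
  have hA : bA z = 1 := by
    ext k i
    rw [Matrix.one_apply]
    by_cases hki : k = i
    · subst hki; rw [if_pos rfl, hu.2]
    · rw [if_neg hki]
      have h4 := congrFun (congrFun (h2 (single i i 1) (sgl_symm i 1)) k) k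
      rw [sgl_conj, Matrix.single_apply_of_ne (h := fun h => hki h.1.symm)] at h4
      simpa using h4
  have hD := uu_D hu.1.1 hA
  have h1 := mem_center_iff.mp hz (Np 1 transpose_one)
  have h3 := congrArg bA h1
  rw [A_mul, A_mul, Np_A, Np_B, Np_C, hA, zero_mul, mul_one, mul_one, add_zero] at h3
  have hB : bB z = 0 := by simpa using h3
  apply blk_ext
  · rw [hA, A_one]
  · rw [hB, B_one]
  · rw [hu.1.1, C_one]
  · rw [hD, D_one]

/-- minus one -/
def Mm (m : ℕ) (K : Type u) [Field K] : symplecticGroup (Fin m) K := ⟨fromBlocks (-1) 0 0 (-1), mem_of_blk (by simp) (by simp) (by simp) (by simp)⟩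

theorem Mm_cen : Mm m K ∈ center (symplecticGroup (Fin m) K) := by
  rw [mem_center_iff]
  intro g
  apply Subtype.ext
  change g.1 * fromBlocks (-1) 0 0 (-1) = fromBlocks (-1) 0 0 (-1) * g.1
  rw [blk g, fromBlocks_multiply, fromBlocks_multiply]
  simp

theorem Mm_A : bA (Mm m K) = -1 := toBlocks_fromBlocks₁₁ _ _ _ _
theorem Mm_C : bC (Mm m K) = 0 := toBlocks_fromBlocks₂₁ _ _ _ _

theorem Mm_BB : Mm m K ∈ BBs m K := ⟨Mm_C, fun i j hij => by rw [Mm_A, Matrix.neg_apply, one_apply_ne hij.ne', neg_zero]⟩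

section
variable {p : ℕ} [Fact p.Prime] [CharP K p] {G : Type v} [Group G] {π : symplecticGroup (Fin m) K →* G}

theorem mem_of_pi (hk : ∀ x, π x = 1 → x ∈ center (symplecticGroup (Fin m) K)) {v : symplecticGroup (Fin m) K} (hv : π v ∈ (UUs m K).map π) {k : ℕ} (h : v ^ p ^ k = 1) : v ∈ UUs m K := by
  obtain ⟨u, hu, huv⟩ := hv
  have hz : u⁻¹ * v ∈ center (symplecticGroup (Fin m) K) := by
    apply hk
    rw [map_mul, map_inv, huv, inv_mul_cancel]
  have hv2 : v = u * (u⁻¹ * v) := by group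
  have hz2 : (u⁻¹ * v) ^ p ^ (m + 1 + k) = 1 := by
    have hcomm : Commute u (u⁻¹ * v) := (mem_center_iff.mp hz u)
    have h1 : v ^ p ^ (m + 1 + k) = 1 := by rw [pow_add, mul_comm, pow_mul, h, _root_.one_pow]
    have h2 : u ^ p ^ (m + 1 + k) = 1 := by rw [pow_add, pow_mul, uu_pgroup hu, _root_.one_pow]
    rw [hv2, hcomm.mul_pow, h2, one_mul] at h1
    exact h1
  obtain ⟨hzB, d, hd, hdd⟩ := cen_blk hz
  have hz3 : u⁻¹ * v ∈ UUs m K := by
    refine ⟨hzB, fun i => ?_⟩
    have h1 := bb_diag_pow hzB i (p ^ (m + 1 + k))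
    rw [hz2, A_one, one_apply_eq] at h1
    apply frob_inj (p := p) (k := m + 1 + k)
    rw [← h1, _root_.one_pow]
  rw [hv2]
  exact mul_mem hu hz3

theorem BB_of_pi (hk : ∀ x, π x = 1 → x ∈ center (symplecticGroup (Fin m) K)) (hK : CharP K p) {v : symplecticGroup (Fin m) K} (hv : π v ∈ normalizer (((UUs m K).map π : Subgroup G) : Set G)) : v ∈ BBs m K := by
  apply norm_BBs
  intro u hu
  apply mem_of_pi (p := p) (k := m + 1) hk
  · rw [map_mul, map_mul, map_inv]
    exact (mem_normalizer_iff.mp hv _).mp ⟨u, hu, rfl⟩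
  · rw [conj_pow, uu_pgroup hu, mul_one, mul_inv_cancel]

theorem p_elt_mem (hm : 0 < m) (hsurj : Function.Surjective π) (hk : ∀ x, π x = 1 → x ∈ center (symplecticGroup (Fin m) K)) (hc : ∀ x ∈ center (symplecticGroup (Fin m) K), π x = 1) (hK : CharP K p)
    {x : G} (hx : x ∈ normalizer (((UUs m K).map π : Subgroup G) : Set G)) {k : ℕ} (h : x ^ p ^ k = 1) : x ∈ (UUs m K).map π := by
  obtain ⟨v, rfl⟩ := hsurj x
  have hvB := BB_of_pi hk hK hx
  have hz : v ^ p ^ k ∈ center (symplecticGroup (Fin m) K) := hk _ (by rw [map_pow, h])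
  obtain ⟨-, r, hr, hrr⟩ := cen_blk hz
  have hd : ∀ i, bA v i i = bA v ⟨0, hm⟩ ⟨0, hm⟩ := by
    intro i
    apply frob_inj (p := p) (k := k)
    rw [← bb_diag_pow hvB, ← bb_diag_pow hvB, hrr, hrr]
  have hd2 : bA v ⟨0, hm⟩ ⟨0, hm⟩ * bA v ⟨0, hm⟩ ⟨0, hm⟩ = 1 := by
    apply frob_inj (p := p) (k := k)
    rw [mul_pow, ← bb_diag_pow hvB, hrr, hr, _root_.one_pow]
  rcases mul_self_eq_one_iff.mp hd2 with h1 | h1
  · exact ⟨v, ⟨hvB, fun i => by rw [hd, h1]⟩, rfl⟩
  · refine ⟨Mm m K * v, ⟨mul_mem Mm_BB hvB, fun i => ?_⟩, by rw [map_mul, hc _ Mm_cen, one_mul]⟩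
    rw [bb_diag Mm_BB hvB, hd, h1, Mm_A, Matrix.neg_apply, one_apply_eq, neg_mul_neg, one_mul]

/-- every Sylow subgroup is the image of the unitriangular group under a suitable quotient map -/
theorem exists_pi (hK : CharP K p) [Finite G] (hm : 0 < m) (hsurj : Function.Surjective π) (hk : ∀ x, π x = 1 → x ∈ center (symplecticGroup (Fin m) K)) (hc : ∀ x ∈ center (symplecticGroup (Fin m) K), π x = 1)
    (S : Sylow p G) : ∃ π' : symplecticGroup (Fin m) K →* G, Function.Surjective π' ∧ (∀ x, π' x = 1 → x ∈ center (symplecticGroup (Fin m) K)) ∧ (∀ x ∈ center (symplecticGroup (Fin m) K), π' x = 1) ∧ (S : Subgroup G) = (UUs m K).map π' := by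
  have hP : IsPGroup p ((UUs m K).map π) := by
    rintro ⟨_, u, hu, rfl⟩
    refine ⟨m + 1, Subtype.ext ?_⟩
    change (π u) ^ p ^ (m + 1) = 1
    rw [← map_pow, uu_pgroup hu, map_one]
  obtain ⟨Q, hQ⟩ := Cfsg.Agent.H1.UT.sylow_of_normalizer ((UUs m K).map π) hP (fun x hx ⟨k, h⟩ => p_elt_mem hm hsurj hk hc hK hx h)
  obtain ⟨g, hg⟩ := MulAction.exists_smul_eq G Q S
  refine ⟨(MulAut.conj g).toMonoidHom.comp π, ?_, ?_, ?_, ?_⟩
  · exact (MulAut.conj g).surjective.comp hsurj
  · intro x hx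
    apply hk
    exact (MulAut.conj g).injective (hx.trans (map_one (MulAut.conj g)).symm)
  · intro x hx
    change MulAut.conj g (π x) = 1
    rw [hc x hx, map_one]
  · rw [← Subgroup.map_map, ← hQ, ← hg]
    rfl

theorem comm_of_pi (hk : ∀ x, π x = 1 → x ∈ center (symplecticGroup (Fin m) K)) {u w : symplecticGroup (Fin m) K} (hu : u ∈ UUs m K) (hw : w ∈ UUs m K) (h : π u * π w = π w * π u) : u * w = w * u := by
  have h1 : u * w * (w * u)⁻¹ ∈ center (symplecticGroup (Fin m) K) := by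
    apply hk
    rw [map_mul, map_inv, map_mul, map_mul, h, mul_inv_cancel]
  have h2 := uu_center h1 (mul_mem (mul_mem hu hw) (inv_mem (mul_mem hw hu)))
  exact mul_inv_eq_one.mp h2

end

end Cfsg.Agent.H1.PG
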