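import Mathlib
import Cfsg.Agent.H1.PG2
import Cfsg.Agent.H7.KF

set_option autoImplicit false
set_option linter.style.haveILetI false
set_option linter.unusedVariables false
set_option linter.unusedSectionVars false
set_option linter.unusedSimpArgs false

/-! `PSp(2m,K)` in defining characteristic: strongly closed subgroups. -/

namespace Cfsg.Agent.H1.PG

open Matrix Subgroup Cfsg.Agent.H1 Cfsg.Agent.H1.UT

universe u v
variable {m : ℕ} {K : Type u} [Field K]

def sp (i j : Fin m) (c : K) : Matrix (Fin m) (Fin m) K := single i j c + single j i c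

theorem sp_symm (i j : Fin m) (c : K) : (sp i j c)ᵀ = sp i j c := by
  unfold sp; rw [transpose_add, Matrix.transpose_single, Matrix.transpose_single, add_comm]

theorem Nn_congr {b c : Matrix (Fin m) (Fin m) K} (h : b = c) (hb : bᵀ = b) : Nn b hb = Nn c (h ▸ hb) := by subst h; rfl

theorem eq_N {h : symplecticGroup (Fin m) K} (hC : bC h = 0) (hA : bA h = 1) : ∃ hb : (bB h)ᵀ = bB h, h = Nn (bB h) hb := by
  have hb : (bB h)ᵀ = bB h := by
    have := BA (g := h)
    rw [hA, transpose_one, mul_one, one_mul] at this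
    exact this.symm
  refine ⟨hb, ?_⟩
  apply blk_ext
  · rw [hA, Nn_A]
  · rw [Nn_B]
  · rw [hC, Nn_C]
  · rw [uu_D hC hA, Nn_D]

/-- the Weyl element of a long root -/
def Sj (j : Fin m) : symplecticGroup (Fin m) K := ⟨fromBlocks (1 - single j j 1) (-single j j 1) (single j j 1) (1 - single j j 1), by
  have hE : (single j j 1 : Matrix (Fin m) (Fin m) K) * single j j 1 = single j j 1 := by rw [ss_same]; simp
  have hT : (1 - single j j 1 : Matrix (Fin m) (Fin m) K)ᵀ = 1 - single j j 1 := by rw [transpose_sub, transpose_one, sgl_symm]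
  have hT2 : (-single j j 1 : Matrix (Fin m) (Fin m) K)ᵀ = -single j j 1 := by rw [transpose_neg, sgl_symm]
  apply mem_of_blk
  · rw [hT, hT2, mul_sub, sub_mul]; simp
  · rw [hT, sgl_symm, mul_sub, mul_one, sub_mul, one_mul, hE, neg_mul, hE]; abel
  · rw [hT, hT2, mul_sub, mul_one, sub_mul, one_mul, hE, mul_neg, hE]; abel
  · rw [sgl_symm, hT, mul_sub, sub_mul, hE]; simp⟩

theorem Sj_A (j : Fin m) : bA (Sj j : symplecticGroup (Fin m) K) = 1 - single j j 1 := toBlocks_fromBlocks₁₁ _ _ _ _
theorem Sj_B (j : Fin m) : bB (Sj j : symplecticGroup (Fin m) K) = -single j j 1 := toBlocks_fromBlocks₁₂ _ _ _ _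
theorem Sj_C (j : Fin m) : bC (Sj j : symplecticGroup (Fin m) K) = single j j 1 := toBlocks_fromBlocks₂₁ _ _ _ _
theorem Sj_D (j : Fin m) : bD (Sj j : symplecticGroup (Fin m) K) = 1 - single j j 1 := toBlocks_fromBlocks₂₂ _ _ _ _

theorem Ls_D {i j : Fin m} (h : i ≠ j) (c : K) : bD (Ls (tv i j h c)) = 1 - single j i c := by
  have h1 : bD (Ls (tv i j h c)) = (bA (Ls (tv i j h c))⁻¹)ᵀ := by rw [A_inv, transpose_transpose]
  rw [h1, Ls_inv, Ls_A, tv_inv, tv_val, transpose_add, transpose_one, Matrix.transpose_single, sub_eq_add_neg]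
  congr 1
  rw [← Matrix.single_neg]

theorem Sj_conj {i j : Fin m} (h : i ≠ j) (c : K) : Sj j * Nn (sp i j c) (sp_symm i j c) * (Sj j)⁻¹ = Ls (tv i j h (-c)) := by
  rw [mul_inv_eq_iff_eq_mul]
  have e1 : (single j j 1 : Matrix (Fin m) (Fin m) K) * single i j c = 0 := ss_ne _ _ _ _ h.symm _ _
  have e2 : (single j j 1 : Matrix (Fin m) (Fin m) K) * single j i c = single j i c := by rw [ss_same, one_mul]
  have e3 : (single i j (-c) : Matrix (Fin m) (Fin m) K) * single j j 1 = single i j (-c) := by rw [ss_same, mul_one]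
  have e4 : (single j i (-c) : Matrix (Fin m) (Fin m) K) * single j j 1 = 0 := ss_ne _ _ _ _ h _ _
  have n1 : (single i j (-c) : Matrix (Fin m) (Fin m) K) = -single i j c := by rw [← Matrix.single_neg]
  have n2 : (single j i (-c) : Matrix (Fin m) (Fin m) K) = -single j i c := by rw [← Matrix.single_neg]
  apply blk_ext
  · rw [A_mul, A_mul, Nn_A, Nn_C, Sj_A, Sj_B, Sj_C, Ls_A, tv_val, show bB (Ls (tv i j h (-c))) = 0 from Lg_B _, mul_one, mul_zero, zero_mul, add_zero, add_zero, add_mul, mul_sub, mul_sub, e3]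
    simp
  · rw [B_mul, B_mul, Nn_B, Nn_D, Sj_A, Sj_B, Sj_D, Ls_A, tv_val, show bB (Ls (tv i j h (-c))) = 0 from Lg_B _, zero_mul, add_zero, mul_one, sub_mul, one_mul, add_mul, one_mul, mul_neg, e3, n1]
    unfold sp
    rw [mul_add, e1, e2]
    abel
  · rw [C_mul, C_mul, Nn_A, Nn_C, Sj_A, Sj_C, show bC (Ls (tv i j h (-c))) = 0 from Lg_C _, Ls_D, mul_one, mul_zero, add_zero, zero_mul, zero_add, sub_mul, one_mul, e4, sub_zero]
  · rw [D_mul, D_mul, Nn_B, Nn_D, Sj_B, Sj_C, Sj_D, show bC (Ls (tv i j h (-c))) = 0 from Lg_C _, Ls_D, zero_mul, zero_add, mul_one]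
    unfold sp
    rw [mul_add, e1, e2, sub_mul, one_mul, mul_sub, mul_one, e4, n2]
    abel

theorem w_single {i j : Fin m} (h : i ≠ j) (c x : K) : (tv i j h c).1 * single j j x * ((tv i j h c).1)ᵀ = single j j x + sp i j (c * x) + single i i (c * c * x) := by
  rw [tv_val, transpose_add, transpose_one, Matrix.transpose_single, add_mul, one_mul, ss_same, mul_add, mul_one, add_mul, ss_same, ss_same]
  unfold sp
  rw [mul_comm x c, mul_right_comm c x c]
  abel

/-- a hom -/
def LsH (m : ℕ) (K : Type u) [Field K] : SpecialLinearGroup (Fin m) K →* symplecticGroup (Fin m) K where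
  toFun := Ls
  map_one' := Ls_one
  map_mul' a b := (Ls_mul a b).symm

theorem exists_col [NeZero m] (i : Fin m) {t : K} (ht : t ≠ 0) : ∃ a : GL (Fin m) K, ∀ k, (a : Matrix (Fin m) (Fin m) K) k 0 = if k = i then t else 0 := by
  classical
  let D : GL (Fin m) K := Matrix.GeneralLinearGroup.mkOfDetNeZero (Matrix.diagonal (fun k => if k = 0 then t else 1)) (by
    rw [Matrix.det_diagonal, Finset.prod_ne_zero_iff]
    intro k _
    split_ifs
    · exact ht
    · exact one_ne_zero)
  refine ⟨Cfsg.Agent.H8.GLP.pm K (Equiv.swap 0 i) * D, fun k => ?_⟩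
  change (((Cfsg.Agent.H8.GLP.pm K (Equiv.swap 0 i) : GL (Fin m) K) : Matrix (Fin m) (Fin m) K) * Matrix.diagonal (fun k => if k = 0 then t else 1) : Matrix (Fin m) (Fin m) K) k 0 = _
  rw [Matrix.mul_diagonal, Cfsg.Agent.H8.GLP.pm_apply, Equiv.swap_apply_left, if_pos rfl]
  split_ifs <;> simp

/-- the core of the argument for strongly closed subgroups -/
theorem closed_core [Fintype K] (hm : 2 ≤ m) (hex : m = 2 → 3 ≤ Fintype.card K) (TT : Subgroup (symplecticGroup (Fin m) K)) (hle : TT ≤ UUs m K)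
    (mv : ∀ t ∈ TT, ∀ v, v * t * v⁻¹ ∈ UUs m K → v * t * v⁻¹ ∈ TT) {z : symplecticGroup (Fin m) K} (hz : z ∈ TT) (hz1 : z ≠ 1) (hcm : ∀ w ∈ UUs m K, w * z = z * w) : TT = UUs m K := by
  classical
  haveI : NeZero m := ⟨by omega⟩
  have hzU := hle hz
  have hA : bA z = 1 := by
    ext k i
    rw [Matrix.one_apply]
    by_cases hki : k = i
    · subst hki; rw [if_pos rfl, hzU.2]
    · rw [if_neg hki]
      have h3 : z * Nn _ (sgl_symm i 1) * z⁻¹ = Nn _ (sgl_symm i 1) := by rw [← hcm _ (N_mem _ _)]; group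
      rw [conj_N hzU.1.1] at h3
      have h4 := congrFun (congrFun (congrArg bB h3) k) k
      rw [Nn_B, Nn_B, sgl_conj, Matrix.single_apply_of_ne (h := fun h => hki h.1.symm)] at h4
      simpa using h4
  obtain ⟨hb, hzN⟩ := eq_N hzU.1.1 hA
  obtain ⟨b, hbdef⟩ : ∃ b, b = bB z := ⟨_, rfl⟩
  rw [← hbdef] at hb
  have hzN : z = Nn b hb := by rw [hzN]; exact Nn_congr hbdef.symm _
  -- memberships
  have madd : ∀ (x y : Matrix (Fin m) (Fin m) K) (hx : xᵀ = x) (hy : yᵀ = y), Nn x hx ∈ TT → Nn y hy ∈ TT → Nn (x + y) (by rw [transpose_add, hx, hy]) ∈ TT := by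
    intro x y hx hy h1 h2
    have h3 := mul_mem h1 h2
    rw [Nn_mul] at h3
    exact h3
  have mcast : ∀ (x y : Matrix (Fin m) (Fin m) K) (h : x = y) (hx : xᵀ = x) (hy : yᵀ = y), Nn x hx ∈ TT → Nn y hy ∈ TT := by
    intro x y h hx hy h1; subst h; exact h1
  have msub : ∀ (x y : Matrix (Fin m) (Fin m) K) (hx : xᵀ = x) (hy : yᵀ = y), Nn x hx ∈ TT → Nn y hy ∈ TT → Nn (x - y) (by rw [transpose_sub, hx, hy]) ∈ TT := by
    intro x y hx hy h1 h2
    have h3 := inv_mem h2
    rw [Nn_inv] at h3
    exact mcast _ _ (sub_eq_add_neg x y).symm _ _ (madd _ _ _ _ h1 h3)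
  have mL : ∀ (a : GL (Fin m) K) (x : Matrix (Fin m) (Fin m) K) (hx : xᵀ = x), Nn x hx ∈ TT → Nn (a.1 * x * (a.1)ᵀ) (by rw [transpose_mul, transpose_mul, transpose_transpose, hx, Matrix.mul_assoc]) ∈ TT := by
    intro a x hx h1
    have h2 := mv _ h1 (Lg a) (by rw [LN_conj]; exact N_mem _ _)
    rw [LN_conj] at h2
    exact h2
  -- invariance of b
  have hinv : ∀ (i j : Fin m) (hij : i < j) (k l : Fin m), (b k l + (if k = i then b j l else 0)) + (if l = i then (b k j + (if k = i then b j j else 0)) else 0) = b k l := by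
    intro i j hij k l
    have h1 : Ls (tv i j hij.ne 1) * z * (Ls (tv i j hij.ne 1))⁻¹ = z := by rw [hcm _ (Ls_UU (tv_mem_UU hij 1))]; group
    rw [hzN] at h1
    unfold Ls at h1
    rw [LN_conj] at h1
    have h2 := congrFun (congrFun (congrArg bB h1) k) l
    rw [Nn_B, Nn_B] at h2
    have e1 : ∀ r s, ((SpecialLinearGroup.toGL (tv i j hij.ne 1) : GL (Fin m) K).1 * b) r s = b r s + (if r = i then b j s else 0) := by
      intro r s
      change ((1 + single i j 1) * b : Matrix (Fin m) (Fin m) K) r s = _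
      rw [add_mul, one_mul, Matrix.add_apply]
      by_cases hr : r = i
      · subst hr; rw [if_pos rfl, Matrix.single_mul_apply_same, one_mul]
      · rw [if_neg hr, Matrix.single_mul_apply_of_ne (h := hr)]
    have e2 : ∀ (X : Matrix (Fin m) (Fin m) K) r s, (X * ((SpecialLinearGroup.toGL (tv i j hij.ne 1) : GL (Fin m) K).1)ᵀ) r s = X r s + (if s = i then X r j else 0) := by
      intro X r s
      change (X * (1 + single i j 1)ᵀ : Matrix (Fin m) (Fin m) K) r s = _
      rw [transpose_add, transpose_one, Matrix.transpose_single, mul_add, mul_one, Matrix.add_apply]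
      by_cases hs : s = i
      · subst hs; rw [if_pos rfl, Matrix.mul_single_apply_same, mul_one]
      · rw [if_neg hs, Matrix.mul_single_apply_of_ne (hbj := hs)]
    rw [e2, e1, e1] at h2
    exact h2
  have h01 : (0 : Fin m) ≠ ⟨1, by omega⟩ := fun h => by have := congrArg Fin.val h; simp at this
  have h01' : (0 : Fin m) < ⟨1, by omega⟩ := Fin.lt_def.mpr (by simp)
  -- entries
  have hj1 : ∀ i j : Fin m, i < j → ∀ l, l ≠ i → b j l = 0 := by
    intro i j hij l hl
    have h1 := hinv i j hij i l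
    rw [if_pos rfl, if_neg hl, add_zero] at h1
    simpa using h1
  have hpos : ∀ j : Fin m, j ≠ 0 → (0 : Fin m) < j := fun j hj => Fin.pos_iff_ne_zero.mpr hj
  have hbsymm : ∀ i j, b i j = b j i := fun i j => congrFun (congrFun hb j) i
  have hform : b = single 0 0 (b 0 0) + sp 0 ⟨1, by omega⟩ (b 0 ⟨1, by omega⟩) := by
    have hz2 : ∀ i j : Fin m, j ≠ 0 → j ≠ ⟨1, by omega⟩ → b i j = 0 := by
      intro i j h0 h1
      rw [hbsymm]
      by_cases hi : i = 0
      · have hlt : (⟨1, by omega⟩ : Fin m) < j := by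
          have h2 : j.val ≠ 0 := fun e => h0 (Fin.ext (by simpa using e))
          have h3 : j.val ≠ 1 := fun e => h1 (Fin.ext e)
          exact Fin.lt_def.mpr (show 1 < j.val by omega)
        exact hj1 _ j hlt i (by rw [hi]; exact h01)
      · exact hj1 0 j (hpos j h0) i hi
    have h11 : b ⟨1, by omega⟩ ⟨1, by omega⟩ = 0 := hj1 0 _ h01' _ h01.symm
    ext i j
    unfold sp
    rw [Matrix.add_apply, Matrix.add_apply, Matrix.single_apply, Matrix.single_apply, Matrix.single_apply]
    by_cases hj0 : j = 0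
    · subst hj0
      by_cases hi0 : i = 0
      · subst hi0; simp [h01, h01.symm]
      · by_cases hi1 : i = ⟨1, by omega⟩
        · subst hi1; simp [h01, h01.symm]; rw [hbsymm]
        · have h2 : b i 0 = 0 := by rw [hbsymm]; exact hz2 0 i hi0 hi1
          rw [h2]; simp [Ne.symm hi0, Ne.symm hi1]
    · by_cases hj1' : j = ⟨1, by omega⟩
      · subst hj1'
        by_cases hi0 : i = 0
        · subst hi0; simp [h01, h01.symm]
        · by_cases hi1 : i = ⟨1, by omega⟩
          · subst hi1; rw [h11]; simp [h01, h01.symm]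
          · have h2 : b i ⟨1, by omega⟩ = 0 := by rw [hbsymm]; exact hz2 _ i hi0 hi1
            rw [h2]; simp [Ne.symm hi0, Ne.symm hi1]
      · rw [hz2 i j hj0 hj1']; simp [Ne.symm hj0, Ne.symm hj1']
  have h2c : b 0 ⟨1, by omega⟩ + b 0 ⟨1, by omega⟩ = 0 := by
    have h1 := hinv 0 ⟨1, by omega⟩ h01' 0 0
    have h11 : b ⟨1, by omega⟩ ⟨1, by omega⟩ = 0 := hj1 0 _ h01' _ h01.symm
    rw [if_pos rfl, if_pos rfl, if_pos rfl, h11, hbsymm ⟨1, by omega⟩ 0] at h1
    linear_combination h1
  -- pushing short root elements down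
  have hshort : ∀ (j : Fin m) (c : K), j ≠ 0 → c ≠ 0 → Nn (sp 0 j c) (sp_symm 0 j c) ∈ TT → ∃ c : K, c ≠ 0 ∧ Nn (single 0 0 c) (sgl_symm 0 c) ∈ TT := by
    intro j c hj hc h1
    have h0j : (0 : Fin m) ≠ j := hj.symm
    have h3 : Ls (tv 0 j h0j (-c)) ∈ TT := by
      have := mv _ h1 (Sj j) (by rw [Sj_conj h0j]; exact Ls_UU (tv_mem_UU (hpos j hj) _))
      rwa [Sj_conj h0j] at this
    have h4 : Nn (single j j 1) (sgl_symm j 1) * (Ls (tv 0 j h0j (-c)))⁻¹ * (Nn (single j j 1) (sgl_symm j 1))⁻¹ ∈ TT :=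
      mv _ (inv_mem h3) _ (mul_mem (mul_mem (N_mem _ _) (hle (inv_mem h3))) (inv_mem (N_mem _ _)))
    have h5 := mul_mem h3 h4
    have e : Ls (tv 0 j h0j (-c)) * (Nn (single j j 1) (sgl_symm j 1) * (Ls (tv 0 j h0j (-c)))⁻¹ * (Nn (single j j 1) (sgl_symm j 1))⁻¹)
        = Nn (single j j 1 + sp 0 j ((-c) * 1) + single 0 0 ((-c) * (-c) * 1)) (by rw [transpose_add, transpose_add, sgl_symm, sgl_symm, sp_symm]) * Nn (-single j j 1) (by rw [transpose_neg, sgl_symm]) := by
      have e1 : Ls (tv 0 j h0j (-c)) * Nn (single j j 1) (sgl_symm j 1) * (Ls (tv 0 j h0j (-c)))⁻¹ = Nn (single j j 1 + sp 0 j ((-c) * 1) + single 0 0 ((-c) * (-c) * 1)) (by rw [transpose_add, transpose_add, sgl_symm, sgl_symm, sp_symm]) := by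
        unfold Ls
        rw [LN_conj]
        exact Nn_congr (w_single h0j (-c) 1) _
      have e9 : Nn (-single j j 1) (by rw [transpose_neg, sgl_symm]) = (Nn (single j j (1 : K)) (sgl_symm j 1))⁻¹ := (Nn_inv _ _).symm
      rw [← e1, e9]; group
    rw [e, Nn_mul] at h5
    have h6 := madd _ _ _ _ h5 h1
    refine ⟨c * c, mul_ne_zero hc hc, mcast _ _ ?_ _ _ h6⟩
    have e2 : sp 0 j (-c * 1) = -sp 0 j c := by
      unfold sp
      rw [mul_one, ← Matrix.single_neg, ← Matrix.single_neg, neg_add]
    rw [e2, mul_one, neg_mul_neg]; abel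
  have hS1 : ∃ c : K, c ≠ 0 ∧ Nn (single 0 0 c) (sgl_symm 0 c) ∈ TT := by
    have hzT : Nn b hb ∈ TT := by rw [← hzN]; exact hz
    by_cases hc1 : b 0 ⟨1, by omega⟩ = 0
    · have e0 : b = single 0 0 (b 0 0) := by
        conv_lhs => rw [hform, hc1]
        unfold sp
        rw [Matrix.single_zero, Matrix.single_zero]; simp
      refine ⟨b 0 0, ?_, mcast _ _ e0 _ _ hzT⟩
      intro h0
      rw [h0, Matrix.single_zero] at e0
      apply hz1
      rw [hzN]
      apply blk_ext
      · rw [Nn_A, A_one]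
      · rw [Nn_B, e0, B_one]
      · rw [Nn_C, C_one]
      · rw [Nn_D, D_one]
    · by_cases hm3 : 3 ≤ m
      · have h21 : (⟨2, by omega⟩ : Fin m) ≠ ⟨1, by omega⟩ := fun h => by have := congrArg Fin.val h; simp at this
        have h20 : (⟨2, by omega⟩ : Fin m) ≠ 0 := fun h => by have := congrArg Fin.val h; simp at this
        apply hshort ⟨2, by omega⟩ (b 0 ⟨1, by omega⟩) h20 hc1
        have h5 := mL (SpecialLinearGroup.toGL (tv _ _ h21 1)) b hb hzT
        have h6 := msub _ _ _ _ h5 hzT
        refine mcast _ _ ?_ _ _ h6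
        have e1 : (SpecialLinearGroup.toGL (tv _ _ h21 (1 : K)) : GL (Fin m) K).1 = 1 + single ⟨2, by omega⟩ ⟨1, by omega⟩ 1 := rfl
        rw [e1, transpose_add, transpose_one, Matrix.transpose_single]
        generalize b 0 ⟨1, by omega⟩ = c1 at hform
        generalize b 0 0 = c0 at hform
        rw [hform]
        unfold sp
        simp only [mul_add, add_mul, one_mul, mul_one]
        rw [ss_ne _ _ _ _ h01.symm, ss_ne _ _ _ _ h01.symm, ss_same, ss_ne _ _ _ _ h01, ss_same, ss_ne _ _ _ _ h01]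
        simp only [one_mul, mul_one, zero_mul]
        rw [ss_ne _ _ _ _ h01]
        abel
      · have hm2 : m = 2 := by omega
        obtain ⟨t, ht0, ht1⟩ : ∃ t : K, t ≠ 0 ∧ t ≠ 1 := by
          by_contra hcon
          push Not at hcon
          have h1 : (Finset.univ : Finset K) ⊆ {0, 1} := by
            intro x _
            rw [Finset.mem_insert, Finset.mem_singleton]
            by_cases hx : x = 0
            · exact Or.inl hx
            · exact Or.inr (hcon x hx)
          have h3 := Finset.card_le_card h1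
          have h4 : ({0, 1} : Finset K).card ≤ 2 := Finset.card_le_two
          rw [Finset.card_univ] at h3
          have := hex hm2
          omega
        let D : GL (Fin m) K := Matrix.GeneralLinearGroup.mkOfDetNeZero (Matrix.diagonal (fun k => if k = ⟨1, by omega⟩ then t else 1)) (by
          rw [Matrix.det_diagonal, Finset.prod_ne_zero_iff]
          intro k _
          split_ifs
          · exact ht0
          · exact one_ne_zero)
        apply hshort ⟨1, by omega⟩ ((t - 1) * b 0 ⟨1, by omega⟩) h01.symm (mul_ne_zero (sub_ne_zero.mpr ht1) hc1)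
        have h5 := mL D b hb hzT
        have h6 := msub _ _ _ _ h5 hzT
        refine mcast _ _ ?_ _ _ h6
        have e1 : D.1 = Matrix.diagonal (fun k => if k = ⟨1, by omega⟩ then t else 1) := rfl
        rw [e1, Matrix.diagonal_transpose]
        generalize b 0 ⟨1, by omega⟩ = c1 at hform
        generalize b 0 0 = c0 at hform
        rw [hform]
        subst hm2
        unfold sp
        ext k l
        rw [Matrix.sub_apply, Matrix.mul_diagonal, Matrix.diagonal_mul]
        fin_cases k <;> fin_cases l <;> simp [Matrix.single_apply] <;> ring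
  obtain ⟨c₀, hc₀, hT0⟩ := hS1
  -- all long root elements
  have hlong : ∀ (i : Fin m) (x : K), Nn (single i i x) (sgl_symm i x) ∈ TT := by
    have h1 : ∀ (i : Fin m) (t : K), Nn (single i i (t * c₀ * t)) (sgl_symm i _) ∈ TT := by
      intro i t
      by_cases ht : t = 0
      · have e : Nn (single i i (t * c₀ * t)) (sgl_symm i _) = 1 := by
          apply blk_ext
          · rw [Nn_A, A_one]
          · rw [Nn_B, B_one, ht]; simp
          · rw [Nn_C, C_one]
          · rw [Nn_D, D_one]
        rw [e]; exact one_mem _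
      · obtain ⟨a, ha⟩ := exists_col i ht
        refine mcast _ _ ?_ _ _ (mL a _ _ hT0)
        ext k l
        rw [sgl_conj, ha, ha, Matrix.single_apply]
        by_cases hk : k = i
        · by_cases hl : l = i
          · rw [if_pos hk, if_pos hl, if_pos ⟨hk.symm, hl.symm⟩]
          · rw [if_pos hk, if_neg hl, mul_zero, if_neg (fun h => hl h.2.symm)]
        · rw [if_neg hk, zero_mul, zero_mul, if_neg (fun h => hk h.1.symm)]
    intro i x
    by_cases h2 : (2 : K) = 0
    · have hch : ringChar K = 2 := by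
        have hd : ringChar K ∣ 2 := ringChar.dvd (by exact_mod_cast h2)
        exact (Nat.prime_dvd_prime_iff_eq (CharP.char_is_prime K (ringChar K)) Nat.prime_two).mp hd
      obtain ⟨t, ht⟩ := FiniteField.isSquare_of_char_two hch (x / c₀)
      refine mcast _ _ ?_ _ _ (h1 i t)
      congr 1
      have : t * c₀ * t = (t * t) * c₀ := by ring
      rw [this, ← ht]; field_simp
    · obtain ⟨s, t, hst⟩ := Cfsg.Agent.H7.KF.binary (F := K) h2 (a := 1) (b := 1) one_ne_zero one_ne_zero (x / c₀)
      refine mcast _ _ ?_ _ _ (madd _ _ _ _ (h1 i s) (h1 i t))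
      rw [← single_sum]
      congr 1
      have : s * c₀ * s + t * c₀ * t = (1 * s ^ 2 + 1 * t ^ 2) * c₀ := by ring
      rw [this, hst]; field_simp
  have hsp : ∀ (i j : Fin m) (hij : i < j) (c : K), Nn (sp i j c) (sp_symm i j c) ∈ TT := by
    intro i j hij c
    have h1 := mL (SpecialLinearGroup.toGL (tv i j hij.ne c)) _ _ (hlong j 1)
    have e := w_single hij.ne c 1
    have h3 := mcast _ (single j j 1 + sp i j (c * 1) + single i i (c * c * 1)) e _ (by rw [transpose_add, transpose_add, sgl_symm, sgl_symm, sp_symm]) h1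
    have h4 := msub _ _ _ _ (msub _ _ _ _ h3 (hlong i (c * c * 1))) (hlong j 1)
    refine mcast _ _ ?_ _ _ h4
    rw [mul_one]; abel
  have hsp' : ∀ (i j : Fin m) (c : K), Nn (sp i j c) (sp_symm i j c) ∈ TT := by
    intro i j c
    rcases lt_trichotomy i j with h | h | h
    · exact hsp i j h c
    · subst h
      refine mcast _ _ ?_ _ _ (hlong i (c + c))
      unfold sp; rw [single_sum]
    · refine mcast _ _ ?_ _ _ (hsp j i h c)
      unfold sp; rw [add_comm]
  have hall : ∀ (x : Matrix (Fin m) (Fin m) K) (hx : xᵀ = x), Nn x hx ∈ TT := by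
    have hsymL : ∀ L : Matrix (Fin m) (Fin m) K, Nn (L + Lᵀ) (by rw [transpose_add, transpose_transpose, add_comm]) ∈ TT := by
      intro L
      induction L using Matrix.induction_on' with
      | h_zero => 
        have e : Nn ((0 : Matrix (Fin m) (Fin m) K) + (0 : Matrix (Fin m) (Fin m) K)ᵀ) (by simp) = 1 := by
          apply blk_ext
          · rw [Nn_A, A_one]
          · rw [Nn_B, B_one]; simp
          · rw [Nn_C, C_one]
          · rw [Nn_D, D_one]
        rw [e]; exact one_mem _
      | h_add p q hp hq =>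
        refine mcast _ _ ?_ _ _ (madd _ _ _ _ hp hq)
        rw [transpose_add]; abel
      | h_std_basis i j x =>
        refine mcast _ _ ?_ _ _ (hsp' i j x)
        unfold sp; rw [Matrix.transpose_single]
    have hdg : ∀ L : Matrix (Fin m) (Fin m) K, Nn (Matrix.diagonal (fun i => L i i)) (Matrix.diagonal_transpose _) ∈ TT := by
      intro L
      induction L using Matrix.induction_on' with
      | h_zero => 
        have e : Nn (Matrix.diagonal (fun i => (0 : Matrix (Fin m) (Fin m) K) i i)) (Matrix.diagonal_transpose _) = 1 := by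
          apply blk_ext
          · rw [Nn_A, A_one]
          · rw [Nn_B, B_one]; simp
          · rw [Nn_C, C_one]
          · rw [Nn_D, D_one]
        rw [e]; exact one_mem _
      | h_add p q hp hq =>
        refine mcast _ _ ?_ _ _ (madd _ _ _ _ hp hq)
        rw [Matrix.diagonal_add]; rfl
      | h_std_basis i j x =>
        by_cases hij : i = j
        · subst hij
          refine mcast _ _ ?_ _ _ (hlong i x)
          ext k l
          rw [Matrix.single_apply, Matrix.diagonal_apply, Matrix.single_apply]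
          by_cases hk : k = l
          · subst hk; rw [if_pos rfl]
          · rw [if_neg hk, if_neg (fun h => hk (h.1.symm.trans h.2))]
        · refine mcast _ _ ?_ _ _ (hlong i 0)
          ext k l
          rw [Matrix.single_apply, Matrix.diagonal_apply, Matrix.single_apply, ite_self]
          by_cases hk : k = l
          · rw [if_pos hk, if_neg (fun h => hij (h.1.trans h.2.symm))]
          · rw [if_neg hk]
    intro x hx
    refine mcast _ _ ?_ _ _ (madd _ _ _ _ (hsymL (Matrix.of (fun i j => if i < j then x i j else 0))) (hdg x))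
    ext i j
    rw [Matrix.add_apply, Matrix.add_apply, transpose_apply, Matrix.diagonal_apply, Matrix.of_apply, Matrix.of_apply]
    have hxs : x j i = x i j := congrFun (congrFun hx i) j
    rcases lt_trichotomy i j with h | h | h
    · rw [if_pos h, if_neg (not_lt.mpr h.le), if_neg h.ne]; simp
    · subst h; simp
    · rw [if_neg (not_lt.mpr h.le), if_pos h, if_neg h.ne', hxs]; simp
  have hlevi : UU m K ≤ TT.comap (LsH m K) := by
    apply UU_gen
    intro i j hij c
    rw [mem_comap]
    change Ls (tv i j hij.ne c) ∈ TT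
    have h1 := mv _ (hsp i j hij (-c)) (Sj j) (by rw [Sj_conj hij.ne]; exact Ls_UU (tv_mem_UU hij _))
    rw [Sj_conj hij.ne, neg_neg] at h1
    exact h1
  apply le_antisymm hle
  intro g hg
  obtain ⟨u, hu, hug⟩ := uu_levi hg
  have huT : Ls u ∈ TT := hlevi hu
  have hA' : bA (g * (Ls u)⁻¹) = 1 := by
    rw [Ls_inv, A_mul, Ls_A, ← hug, show bC (Ls u⁻¹) = 0 from Lg_C _, mul_zero, add_zero]
    exact congrArg Subtype.val (mul_inv_cancel u)
  have hC' : bC (g * (Ls u)⁻¹) = 0 := by
    rw [Ls_inv, C_mul, hg.1.1, show bC (Ls u⁻¹) = 0 from Lg_C _]; simp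
  obtain ⟨hb', hN'⟩ := eq_N hC' hA'
  have e : g = (g * (Ls u)⁻¹) * Ls u := by group
  rw [e, hN']
  exact mul_mem (hall _ _) huT

end Cfsg.Agent.H1.PG
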