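import Mathlib
import Cfsg.Agent.H1.PG3

set_option autoImplicit false
set_option linter.style.haveILetI false
set_option linter.unusedVariables false
set_option linter.unusedSectionVars false
set_option linter.unusedSimpArgs false

/-! `PSp(2m,K)` in defining characteristic: generation of the normalizer. -/

namespace Cfsg.Agent.H1.PG

open Matrix Subgroup Cfsg.Agent.H1 Cfsg.Agent.H1.UT

universe u v
variable {m : ℕ} {K : Type u} [Field K]

/-- radical for a short simple root -/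
def R1 (i i' : Fin m) (hi : i.val + 1 = i'.val) (K : Type u) [Field K] : Subgroup (symplecticGroup (Fin m) K) where
  carrier := {g | g ∈ UUs m K ∧ bA g i i' = 0}
  mul_mem' := by
    rintro g h ⟨hg, hg'⟩ ⟨hh, hh'⟩
    refine ⟨mul_mem hg hh, ?_⟩
    obtain ⟨u, hu, hug⟩ := uu_levi hg
    obtain ⟨w, hw, hwh⟩ := uu_levi hh
    have h1 := UU_off hu hi hw
    rw [bbA_mul hh.1, ← hug, ← hwh]
    have e : (u * w).1 i i' = (u.1 * w.1) i i' := rfl
    rw [← e, h1, hug, hwh, hg', hh', add_zero]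
  one_mem' := ⟨one_mem _, by rw [A_one]; exact one_apply_ne (fun h => by rw [h] at hi; omega)⟩
  inv_mem' := by
    rintro g ⟨hg, hg'⟩
    refine ⟨inv_mem hg, ?_⟩
    obtain ⟨u, hu, hug⟩ := uu_levi hg
    obtain ⟨w, hw, hwh⟩ := uu_levi (inv_mem hg)
    have h1 := UU_off hu hi hw
    have e : (u * w).1 i i' = (u.1 * w.1) i i' := rfl
    rw [e, hug, hwh, ← bbA_mul (inv_mem hg.1), mul_inv_cancel, A_one, hg', zero_add] at h1
    rw [← h1]
    exact one_apply_ne (fun h => by rw [h] at hi; omega)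

/-- elements whose Levi part normalizes `RR` normalize `R1` -/
theorem R1_conj {i i' : Fin m} {hi : i.val + 1 = i'.val} {v : symplecticGroup (Fin m) K} (hv : bC v = 0) {t : SpecialLinearGroup (Fin m) K} (ht : t.1 = bA v)
    (hRR : ∀ r ∈ RR i i' hi K, t * r * t⁻¹ ∈ RR i i' hi K) {g : symplecticGroup (Fin m) K} (hg : g ∈ R1 i i' hi K) : v * g * v⁻¹ ∈ R1 i i' hi K := by
  obtain ⟨u, hu, hug⟩ := uu_levi hg.1
  have hu' : u ∈ RR i i' hi K := ⟨hu, by rw [hug]; exact hg.2⟩
  have h1 := hRR u hu'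
  have hC : bC (v * g * v⁻¹) = 0 := by
    rw [C_mul, C_mul, C_inv, hv, hg.1.1.1]; simp
  have hDv : (bD v)ᵀ = (t⁻¹).1 := by
    have e1 := DA hv
    rw [← ht] at e1
    have e2 : t.1 * (t⁻¹).1 = 1 := congrArg Subtype.val (mul_inv_cancel t)
    calc (bD v)ᵀ = (bD v)ᵀ * (t.1 * (t⁻¹).1) := by rw [e2, mul_one]
      _ = (t⁻¹).1 := by rw [← Matrix.mul_assoc, e1, one_mul]
  have hA : bA (v * g * v⁻¹) = (t * u * t⁻¹).1 := by
    rw [A_mul, A_mul, C_inv, hv, hg.1.1.1, A_inv, hDv, ← ht, ← hug]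
    simp only [mul_zero, add_zero, transpose_zero, neg_zero]
    rfl
  refine ⟨⟨⟨hC, fun a b hab => ?_⟩, fun a => ?_⟩, ?_⟩
  · rw [hA]; exact h1.1.1 a b hab
  · rw [hA]; exact h1.1.2 a
  · rw [hA]; exact h1.2

theorem uu_row {l : Fin m} (hl : ∀ k, k ≤ l) {g : symplecticGroup (Fin m) K} (hg : g ∈ UUs m K) (k : Fin m) : bA g l k = if k = l then 1 else 0 := by
  by_cases h : k = l
  · subst h; rw [if_pos rfl, hg.2]
  · rw [if_neg h]; exact hg.1.2 l k (lt_of_le_of_ne (hl k) h)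

theorem uu_col {l : Fin m} (hl : ∀ k, k ≤ l) {g : symplecticGroup (Fin m) K} (hg : g ∈ UUs m K) (k : Fin m) : bD g k l = if k = l then 1 else 0 := by
  have h1 := uu_row hl (inv_mem hg) k
  rw [A_inv, transpose_apply] at h1
  exact h1

theorem uuB_off {l : Fin m} (hl : ∀ k, k ≤ l) {g h : symplecticGroup (Fin m) K} (hg : g ∈ UUs m K) (hh : h ∈ UUs m K) : bB (g * h) l l = bB g l l + bB h l l := by
  rw [B_mul, Matrix.add_apply, Matrix.mul_apply, Matrix.mul_apply, Finset.sum_eq_single l, Finset.sum_eq_single l]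
  · rw [uu_row hl hg, uu_col hl hh, if_pos rfl, one_mul, mul_one, add_comm]
  · intro k _ hk; rw [uu_col hl hh, if_neg hk, mul_zero]
  · intro h; exact absurd (Finset.mem_univ _) h
  · intro k _ hk; rw [uu_row hl hg, if_neg hk, zero_mul]
  · intro h; exact absurd (Finset.mem_univ _) h

/-- radical for the long simple root -/
def R2 (l : Fin m) (hl : ∀ k, k ≤ l) (K : Type u) [Field K] : Subgroup (symplecticGroup (Fin m) K) where
  carrier := {g | g ∈ UUs m K ∧ bB g l l = 0}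
  mul_mem' := by
    rintro g h ⟨hg, hg'⟩ ⟨hh, hh'⟩
    exact ⟨mul_mem hg hh, by rw [uuB_off hl hg hh, hg', hh', add_zero]⟩
  one_mem' := ⟨one_mem _, by rw [B_one]; rfl⟩
  inv_mem' := by
    rintro g ⟨hg, hg'⟩
    refine ⟨inv_mem hg, ?_⟩
    rw [B_inv, Matrix.neg_apply, transpose_apply, hg', neg_zero]

theorem R2_uu {l : Fin m} {hl : ∀ k, k ≤ l} {u g : symplecticGroup (Fin m) K} (hu : u ∈ UUs m K) (hg : g ∈ R2 l hl K) : u * g * u⁻¹ ∈ R2 l hl K := by
  refine ⟨mul_mem (mul_mem hu hg.1) (inv_mem hu), ?_⟩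
  rw [uuB_off hl (mul_mem hu hg.1) (inv_mem hu), uuB_off hl hu hg.1, hg.2, add_zero, ← uuB_off hl hu (inv_mem hu), mul_inv_cancel, B_one]
  rfl

theorem R2_low {l : Fin m} {hl : ∀ k, k ≤ l} (y : K) {g : symplecticGroup (Fin m) K} (hg : g ∈ R2 l hl K) : Np (single l l y) (sgl_symm l y) * g * (Np (single l l y) (sgl_symm l y))⁻¹ ∈ R2 l hl K := by
  have e1 : single l l y * bA g = single l l y := by
    ext i j
    by_cases hi : i = l
    · subst hi
      rw [Matrix.single_mul_apply_same, uu_row hl hg.1, Matrix.single_apply]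
      by_cases hj : j = i
      · subst hj; simp
      · rw [if_neg hj, if_neg (fun h => hj h.2.symm), mul_zero]
    · rw [Matrix.single_mul_apply_of_ne (h := hi), Matrix.single_apply, if_neg (fun h => hi h.1.symm)]
  have e2 : bD g * single l l y = single l l y := by
    ext i j
    by_cases hj : j = l
    · subst hj
      rw [Matrix.mul_single_apply_same, uu_col hl hg.1, Matrix.single_apply]
      by_cases hi : i = j
      · subst hi; simp
      · rw [if_neg hi, if_neg (fun h => hi h.1.symm), zero_mul]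
    · rw [Matrix.mul_single_apply_of_ne (hbj := hj), Matrix.single_apply, if_neg (fun h => hj h.2.symm)]
  have e3 : single l l y * bB g * single l l y = 0 := by
    ext i j
    by_cases hj : j = l
    · subst hj
      rw [Matrix.mul_single_apply_same]
      by_cases hi : i = j
      · subst hi; rw [Matrix.single_mul_apply_same, hg.2, mul_zero, zero_mul]; rfl
      · rw [Matrix.single_mul_apply_of_ne (h := hi), zero_mul]; rfl
    · rw [Matrix.mul_single_apply_of_ne (hbj := hj)]; rfl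
  have hA : bA (Np (single l l y) (sgl_symm l y) * g * (Np (single l l y) (sgl_symm l y))⁻¹) = bA g - bB g * single l l y := by
    rw [A_mul, A_mul, B_mul, A_inv, C_inv, Np_A, Np_B, Np_C, Np_D, transpose_one, sgl_symm, one_mul, zero_mul, add_zero, mul_one, one_mul, zero_mul, add_zero, mul_neg, sub_eq_add_neg]
  have hB : bB (Np (single l l y) (sgl_symm l y) * g * (Np (single l l y) (sgl_symm l y))⁻¹) = bB g := by
    rw [B_mul, A_mul, B_mul, B_inv, D_inv, Np_A, Np_B, transpose_zero, neg_zero, mul_zero, zero_add, transpose_one, mul_one, one_mul, zero_mul, add_zero]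
  have hC : bC (Np (single l l y) (sgl_symm l y) * g * (Np (single l l y) (sgl_symm l y))⁻¹) = 0 := by
    rw [C_mul, C_mul, D_mul, A_inv, C_inv, Np_C, Np_D, hg.1.1.1, transpose_one, sgl_symm, mul_one, mul_zero, add_zero, e1, one_mul, mul_neg, add_mul, e3, e2, zero_add, add_neg_cancel]
  refine ⟨⟨⟨hC, fun i j hij => ?_⟩, fun i => ?_⟩, ?_⟩
  · rw [hA, Matrix.sub_apply, hg.1.1.2 i j hij, Matrix.mul_single_apply_of_ne (hbj := (lt_of_lt_of_le hij (hl i)).ne), sub_zero]
  · rw [hA, Matrix.sub_apply, hg.1.2]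
    by_cases hi : i = l
    · subst hi; rw [Matrix.mul_single_apply_same, hg.2, zero_mul, sub_zero]
    · rw [Matrix.mul_single_apply_of_ne (hbj := hi), sub_zero]
  · rw [hB, hg.2]

theorem Np_mul (b c : Matrix (Fin m) (Fin m) K) (hb : bᵀ = b) (hc : cᵀ = c) : Np b hb * Np c hc = Np (b + c) (by rw [transpose_add, hb, hc]) := by
  apply blk_ext
  · rw [A_mul, Np_A, Np_A, Np_A, Np_B]; simp
  · rw [B_mul, Np_B, Np_B, Np_B]; simp
  · rw [C_mul, Np_A, Np_C, Np_C, Np_C, Np_D]; simp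
  · rw [D_mul, Np_B, Np_D, Np_D, Np_D]; simp

theorem Np_pow (l : Fin m) (y : K) (k : ℕ) : (Np (single l l y) (sgl_symm l y)) ^ k = Np (single l l (k * y)) (sgl_symm l _) := by
  induction k with
  | zero =>
    rw [pow_zero]
    apply blk_ext
    · rw [A_one, Np_A]
    · rw [B_one, Np_B]
    · rw [C_one, Np_C]; simp
    · rw [D_one, Np_D]
  | succ k ih =>
    rw [pow_succ, ih, Np_mul]
    apply blk_ext
    · rw [Np_A, Np_A]
    · rw [Np_B, Np_B]
    · rw [Np_C, Np_C, ← single_sum]; congr 1; push_cast; ring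
    · rw [Np_D, Np_D]

theorem Np_pow_p {p : ℕ} [CharP K p] (l : Fin m) (y : K) : (Np (single l l y) (sgl_symm l y)) ^ p = 1 := by
  rw [Np_pow, CharP.cast_eq_zero, zero_mul]
  apply blk_ext
  · rw [A_one, Np_A]
  · rw [B_one, Np_B]
  · rw [C_one, Np_C]; simp
  · rw [D_one, Np_D]

section
variable {p : ℕ} [Fact p.Prime] {G : Type v} [Group G] {π : symplecticGroup (Fin m) K →* G}

theorem norm_map {X : Type*} {Y : Type*} [Group X] [Group Y] (π : X →* Y) {R : Subgroup X} {t : X} (ht : t ∈ normalizer (R : Set X)) : π t ∈ normalizer ((R.map π : Subgroup Y) : Set Y) := by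
  rw [mem_normalizer_iff]
  intro x
  constructor
  · rintro ⟨u, hu, rfl⟩
    exact ⟨t * u * t⁻¹, (mem_normalizer_iff.mp ht u).mp hu, by rw [map_mul, map_mul, map_inv]⟩
  · rintro ⟨u, hu, hx⟩
    refine ⟨t⁻¹ * u * t⁻¹⁻¹, (mem_normalizer_iff.mp (inv_mem ht) u).mp hu, ?_⟩
    rw [map_mul, map_mul, hx, map_inv, map_inv, map_inv, inv_inv]
    group

theorem gen_mem [Fintype K] [CharP K p] (hk : ∀ x, π x = 1 → x ∈ center (symplecticGroup (Fin m) K)) (S : Subgroup G) (hS : S = (UUs m K).map π)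
    (R : Subgroup (symplecticGroup (Fin m) K)) (h1 : R ≤ UUs m K) (h2 : ∀ u ∈ UUs m K, ∀ r ∈ R, u * r * u⁻¹ ∈ R) (h3 : ∀ s ∈ UUs m K, (∀ r ∈ R, r * s = s * r) → s ∈ R)
    {t : symplecticGroup (Fin m) K} (ht : t ∈ BBs m K) (h4 : t ∈ closure {g | (∀ r ∈ R, g * r * g⁻¹ ∈ R) ∧ ∃ k : ℕ, g ^ p ^ k = 1}) : π t ∈ genSet p S := by
  subst hS
  refine ⟨norm_map π (mem_normalizer_of_conj_mem (fun r hr => uu_conj ht hr)), R.map π, map_mono h1, ?_, ?_, ?_⟩
  · rintro _ ⟨s, hs, rfl⟩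
    exact norm_map π (mem_normalizer_of_conj_mem (fun r hr => h2 s hs r hr))
  · rintro _ ⟨s, hs, rfl⟩ hcm
    exact ⟨s, h3 s hs (fun r hr => comm_of_pi hk (h1 hr) hs (hcm _ ⟨r, hr, rfl⟩)), rfl⟩
  · have h5 : closure {g | (∀ r ∈ R, g * r * g⁻¹ ∈ R) ∧ ∃ k : ℕ, g ^ p ^ k = 1} ≤ (closure {g : G | g ∈ normalizer ((R.map π : Subgroup G) : Set G) ∧ ∃ k : ℕ, g ^ p ^ k = 1}).comap π := by
      rw [closure_le]
      rintro g ⟨hg, k, hgk⟩
      apply Subgroup.subset_closure
      exact ⟨norm_map π (mem_normalizer_of_conj_mem hg), k, by rw [← map_pow, hgk, map_one]⟩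
    exact h5 h4

/-- the short torus elements -/
theorem tor1 [Fintype K] [CharP K p] (hk : ∀ x, π x = 1 → x ∈ center (symplecticGroup (Fin m) K)) (S : Subgroup G) (hS : S = (UUs m K).map π)
    {i i' : Fin m} (hi : i.val + 1 = i'.val) (hne : i' ≠ i) {a : K} (ha : a ≠ 0) :
    π (Ls (tv i' i hne (a⁻¹ - 1) * (tv i i' hne.symm 1 * tv i' i hne (a - 1)))) ∈ genSet p S := by
  have hlt : i < i' := Fin.lt_def.mpr (by omega)
  refine gen_mem hk S hS (R1 i i' hi K) (fun g hg => hg.1) ?_ ?_ (Ls_BB (exists_tor hi hne ha).1) ?_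
  · intro u hu r hr
    obtain ⟨w, hw, hwu⟩ := uu_levi hu
    exact R1_conj hu.1.1 hwu (fun r hr => RR_UU hw hr) hr
  · intro s hs hcm
    refine ⟨hs, ?_⟩
    have hmem : Nn (single i' i' 1) (sgl_symm i' 1) ∈ R1 i i' hi K := ⟨N_mem _ _, by rw [Nn_A]; exact one_apply_ne hlt.ne⟩
    have h1 := hcm _ hmem
    have h2 : s * Nn (single i' i' 1) (sgl_symm i' 1) * s⁻¹ = Nn (single i' i' 1) (sgl_symm i' 1) := by rw [← h1]; group
    rw [conj_N hs.1.1] at h2
    have h3 := congrFun (congrFun (congrArg bB h2) i) i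
    rw [Nn_B, Nn_B, sgl_conj, Matrix.single_apply, if_neg (fun h => hne h.1)] at h3
    simpa using h3
  · have hlow : ∀ c : K, Ls (tv i' i hne c) ∈ closure {g | (∀ r ∈ R1 i i' hi K, g * r * g⁻¹ ∈ R1 i i' hi K) ∧ ∃ k : ℕ, g ^ p ^ k = 1} := by
      intro c
      apply Subgroup.subset_closure
      refine ⟨fun r hr => R1_conj (Lg_C _) (Ls_A _).symm (fun r hr => RR_low hne c hr) hr, 1, ?_⟩
      rw [pow_one]
      have : (Ls (tv i' i hne c)) ^ p = Ls ((tv i' i hne c) ^ p) := (map_pow (LsH m K) _ _).symm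
      rw [this, tv_pow_p, Ls_one]
    have hup : ∀ c : K, Ls (tv i i' hne.symm c) ∈ closure {g | (∀ r ∈ R1 i i' hi K, g * r * g⁻¹ ∈ R1 i i' hi K) ∧ ∃ k : ℕ, g ^ p ^ k = 1} := by
      intro c
      apply Subgroup.subset_closure
      refine ⟨fun r hr => R1_conj (Lg_C _) (Ls_A _).symm (fun r hr => RR_UU (tv_mem_UU hlt c) hr) hr, 1, ?_⟩
      rw [pow_one]
      have : (Ls (tv i i' hne.symm c)) ^ p = Ls ((tv i i' hne.symm c) ^ p) := (map_pow (LsH m K) _ _).symm
      rw [this, tv_pow_p, Ls_one]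
    rw [← Ls_mul, ← Ls_mul]
    exact mul_mem (hlow _) (mul_mem (hup _) (hlow _))

/-- the long torus elements -/
theorem tor2 [Fintype K] [CharP K p] (hm : 2 ≤ m) (hk : ∀ x, π x = 1 → x ∈ center (symplecticGroup (Fin m) K)) (S : Subgroup G) (hS : S = (UUs m K).map π)
    {l : Fin m} (hl : ∀ k, k ≤ l) {a : K} (ha : a ≠ 0) :
    ∃ t ∈ BBs m K, bA t l l = a ∧ (∀ i < l, bA t i i = 1) ∧ π t ∈ genSet p S := by
  have hE : ∀ x y : K, (single l l x : Matrix (Fin m) (Fin m) K) * single l l y = single l l (x * y) := fun x y => by rw [ss_same]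
  have hA1 : bA (Np (single l l (a⁻¹ - 1)) (sgl_symm l _) * (Nn (single l l 1) (sgl_symm l 1) * Np (single l l (a - 1)) (sgl_symm l _))) = 1 + single l l (a - 1) := by
    rw [A_mul, A_mul, Np_A, Np_A, Np_B, Np_C, Nn_A, Nn_B, zero_mul, add_zero, one_mul, mul_one, hE, one_mul]
  have hC1 : bC (Np (single l l (a⁻¹ - 1)) (sgl_symm l _) * (Nn (single l l 1) (sgl_symm l 1) * Np (single l l (a - 1)) (sgl_symm l _))) = 0 := by
    rw [C_mul, A_mul, C_mul, Np_A, Np_C, Np_C, Np_D, Nn_A, Nn_B, Nn_C, Nn_D]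
    simp only [one_mul, mul_one, zero_mul, zero_add, mul_add, hE]
    rw [← single_sum, ← single_sum]
    have : a⁻¹ - 1 + (a⁻¹ - 1) * (a - 1) + (a - 1) = 0 := by field_simp; ring
    rw [this, Matrix.single_zero]
  have hB : Np (single l l (a⁻¹ - 1)) (sgl_symm l _) * (Nn (single l l 1) (sgl_symm l 1) * Np (single l l (a - 1)) (sgl_symm l _)) ∈ BBs m K := by
    refine ⟨hC1, fun i j hij => ?_⟩
    rw [hA1, Matrix.add_apply, one_apply_ne hij.ne', Matrix.single_apply, if_neg, add_zero]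
    rintro ⟨h1, h2⟩
    rw [← h1, ← h2] at hij
    exact lt_irrefl _ hij
  refine ⟨_, hB, ?_, ?_, ?_⟩
  · rw [hA1, Matrix.add_apply, one_apply_eq, Matrix.single_apply, if_pos ⟨rfl, rfl⟩]; ring
  · intro i hi
    rw [hA1, Matrix.add_apply, one_apply_eq, Matrix.single_apply, if_neg (fun h => hi.ne h.1.symm), add_zero]
  · refine gen_mem hk S hS (R2 l hl K) (fun g hg => hg.1) (fun u hu r hr => R2_uu hu hr) ?_ hB ?_
    · intro s hs hcm
      refine ⟨hs, ?_⟩
      have h0l : (⟨0, by omega⟩ : Fin m) < l := by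
        refine lt_of_lt_of_le (Fin.lt_def.mpr ?_) (hl ⟨1, by omega⟩)
        show 0 < 1
        norm_num
      have hmem : Ls (tv _ _ h0l.ne (1 : K)) ∈ R2 l hl K := ⟨Ls_UU (tv_mem_UU h0l 1), by
        have : bB (Ls (tv _ _ h0l.ne (1 : K))) = 0 := Lg_B _
        rw [this]; rfl⟩
      have h1 := congrFun (congrFun (congrArg bB (hcm _ hmem)) l) ⟨0, by omega⟩
      rw [B_mul, B_mul, Ls_A, Ls_D, show bB (Ls (tv _ _ h0l.ne (1 : K))) = 0 from Lg_B _, zero_mul, add_zero, mul_zero, zero_add, tv_val, add_mul, one_mul, Matrix.add_apply, Matrix.single_mul_apply_of_ne (h := h0l.ne'), add_zero, mul_sub, mul_one, Matrix.sub_apply, Matrix.mul_single_apply_same, mul_one] at h1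
      have h2 : bB s l l = bB s l ⟨0, by omega⟩ - (bB s l ⟨0, by omega⟩ - bB s l l) := by ring
      rw [h2, ← h1, sub_self]
    · have hlow : ∀ c : K, Np (single l l c) (sgl_symm l c) ∈ closure {g | (∀ r ∈ R2 l hl K, g * r * g⁻¹ ∈ R2 l hl K) ∧ ∃ k : ℕ, g ^ p ^ k = 1} := by
        intro c
        apply Subgroup.subset_closure
        exact ⟨fun r hr => R2_low c hr, 1, by rw [pow_one, Np_pow_p]⟩
      have hup : Nn (single l l (1 : K)) (sgl_symm l 1) ∈ closure {g | (∀ r ∈ R2 l hl K, g * r * g⁻¹ ∈ R2 l hl K) ∧ ∃ k : ℕ, g ^ p ^ k = 1} := by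
        apply Subgroup.subset_closure
        exact ⟨fun r hr => R2_uu (N_mem _ _) hr, m + 1, uu_pgroup (N_mem _ _)⟩
      exact mul_mem (hlow _) (mul_mem hup (hlow _))

theorem norm_gen [Fintype K] [CharP K p] (hm : 2 ≤ m) (hk : ∀ x, π x = 1 → x ∈ center (symplecticGroup (Fin m) K)) (S : Subgroup G) (hSp : IsPGroup p S) (hS : S = (UUs m K).map π) :
    ∀ (d : ℕ) (v : symplecticGroup (Fin m) K), v ∈ BBs m K → (∀ i : Fin m, i.val + d < m → bA v i i = 1) → d ≤ m → π v ∈ closure (genSet p S) := by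
  intro d
  induction d with
  | zero =>
    intro v hv hd _
    have hvU : v ∈ UUs m K := ⟨hv, fun i => hd i (by have := i.2; omega)⟩
    apply Subgroup.subset_closure
    have hmem : π v ∈ S := by rw [hS]; exact ⟨v, hvU, rfl⟩
    refine ⟨le_normalizer hmem, S, le_rfl, fun s hs => le_normalizer hs, fun s hs _ => hs, ?_⟩
    apply Subgroup.subset_closure
    refine ⟨le_normalizer hmem, ?_⟩
    obtain ⟨k, hk⟩ := hSp ⟨π v, hmem⟩
    exact ⟨k, congrArg Subtype.val hk⟩
  | succ d ih =>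
    intro v hv hd hdm
    have hlt : m - (d + 1) < m := by omega
    have ha : bA v ⟨m - (d + 1), hlt⟩ ⟨m - (d + 1), hlt⟩ ≠ 0 := left_ne_zero_of_mul_eq_one (bb_diag_inv hv _)
    have hex : ∃ t ∈ BBs m K, bA t ⟨m - (d + 1), hlt⟩ ⟨m - (d + 1), hlt⟩ = bA v ⟨m - (d + 1), hlt⟩ ⟨m - (d + 1), hlt⟩ ∧ (∀ i < (⟨m - (d + 1), hlt⟩ : Fin m), bA t i i = 1) ∧ π t ∈ genSet p S := by
      by_cases hd0 : d = 0
      · apply tor2 hm hk S hS _ ha
        intro k
        exact Fin.le_def.mpr (show k.val ≤ m - (d + 1) by have := k.2; omega)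
      · have hlt' : m - (d + 1) + 1 < m := by omega
        have hne : (⟨m - (d + 1) + 1, hlt'⟩ : Fin m) ≠ ⟨m - (d + 1), hlt⟩ := fun h => by
          have := congrArg Fin.val h
          simp at this
        obtain ⟨h1, h2, h3⟩ := exists_tor (m := ⟨m - (d + 1), hlt⟩) (m' := ⟨m - (d + 1) + 1, hlt'⟩) rfl hne ha
        refine ⟨_, Ls_BB h1, by rw [Ls_A]; exact h2, fun i hi => by rw [Ls_A]; exact h3 i hi, tor1 hk S hS rfl hne ha⟩
    obtain ⟨t, h1, h2, h3, h4⟩ := hex
    have h5 : π (v * t⁻¹) ∈ closure (genSet p S) := by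
      apply ih (v * t⁻¹) (mul_mem hv (inv_mem h1))
      · intro i hi
        rw [bb_diag hv (inv_mem h1)]
        by_cases him : i.val = m - (d + 1)
        · have : i = ⟨m - (d + 1), hlt⟩ := Fin.ext him
          rw [this]
          have h6 := bb_diag_inv h1 ⟨m - (d + 1), hlt⟩
          rw [h2] at h6
          exact h6
        · have h7 : i < ⟨m - (d + 1), hlt⟩ := Fin.lt_def.mpr (show i.val < m - (d + 1) by omega)
          rw [hd i (by omega), one_mul]
          have h6 := bb_diag_inv h1 i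
          rw [h3 i h7, one_mul] at h6
          exact h6
      · omega
    have e : π v = π (v * t⁻¹) * π t := by rw [← map_mul, inv_mul_cancel_right]
    rw [e]
    exact mul_mem h5 (Subgroup.subset_closure h4)

end

theorem psp_aux {K : Type u} [Field K] [Fintype K] (p : ℕ) [Fact p.Prime] [CharP K p] (m : ℕ) (hm : 2 ≤ m) (hex : m = 2 → 3 ≤ Fintype.card K) (S : Sylow p (Cfsg.PSp m K)) :
    (Cfsg.groupFusionSystem (S : Subgroup (Cfsg.PSp m K))).IsSimple p := by
  classical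
  obtain ⟨π, hsurj, hk, hc, hS⟩ := exists_pi (p := p) (G := Cfsg.PSp m K) inferInstance (π := QuotientGroup.mk' (center (symplecticGroup (Fin m) K))) (by omega)
    (QuotientGroup.mk'_surjective _) (fun x hx => (QuotientGroup.eq_one_iff _).mp hx) (fun x hx => (QuotientGroup.eq_one_iff _).mpr hx) S
  have h1ne : ∀ u ∈ UUs m K, π u = 1 → u = 1 := fun u hu h => uu_center (hk u h) hu
  apply simple_of_gen S
  · intro h
    have h1 : π (Nn (1 : Matrix (Fin m) (Fin m) K) transpose_one) ∈ (S : Subgroup (Cfsg.PSp m K)) := by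
      rw [hS]; exact ⟨_, N_mem _ _, rfl⟩
    rw [h, mem_bot] at h1
    have h2 := congrArg bB (h1ne _ (N_mem _ _) h1)
    rw [Nn_B, B_one] at h2
    have h3 := congrFun (congrFun h2 ⟨0, by omega⟩) ⟨0, by omega⟩
    rw [one_apply_eq] at h3
    exact one_ne_zero h3
  · intro T hT hT1 hcl
    haveI : Group.IsNilpotent (S : Subgroup (Cfsg.PSp m K)) := S.2.isNilpotent
    haveI hnorm : (T.subgroupOf (S : Subgroup (Cfsg.PSp m K))).Normal := by
      constructor
      intro t ht s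
      rw [mem_subgroupOf] at ht ⊢
      exact hcl _ ht s (mul_mem (mul_mem s.2 t.2) (inv_mem s.2))
    have hne : T.subgroupOf (S : Subgroup (Cfsg.PSp m K)) ≠ ⊥ := by
      intro h
      rw [subgroupOf_eq_bot] at h
      apply hT1
      rw [eq_bot_iff]
      intro t ht
      exact h.le_bot ⟨ht, hT ht⟩
    have h1 := inf_center_ne_bot _ hne
    obtain ⟨⟨s, hsT, hsc⟩, hs1⟩ := Subgroup.ne_bot_iff_exists_ne_one.mp h1
    have hs1' : (s : Cfsg.PSp m K) ≠ 1 := fun h => hs1 (Subtype.ext (Subtype.ext h))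
    have hsS : (s : Cfsg.PSp m K) ∈ (UUs m K).map π := hS.le s.2
    obtain ⟨z, hz, hzs⟩ := hsS
    have hz1 : z ≠ 1 := by
      rintro rfl
      rw [map_one] at hzs
      exact hs1' hzs.symm
    have hcore := closed_core hm hex (UUs m K ⊓ T.comap π) inf_le_left (by
      rintro t ⟨ht, htT⟩ v hv
      refine ⟨hv, ?_⟩
      have htT' : π t ∈ T := htT
      show π (v * t * v⁻¹) ∈ T
      rw [map_mul, map_mul, map_inv]
      apply hcl _ htT'
      rw [← map_inv, ← map_mul, ← map_mul]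
      exact hS.ge ⟨_, hv, rfl⟩) (z := z) ⟨hz, (show π z ∈ T by rw [hzs]; exact hsT)⟩ hz1 (by
      intro w hw
      apply comm_of_pi hk hw hz
      have h2 := mem_center_iff.mp hsc ⟨π w, hS.ge ⟨w, hw, rfl⟩⟩
      have h3 := congrArg Subtype.val h2
      change π w * (s : Cfsg.PSp m K) = (s : Cfsg.PSp m K) * π w at h3
      rw [← hzs] at h3
      exact h3)
    apply le_antisymm hT
    rw [hS]
    rintro _ ⟨w, hw, rfl⟩
    have hw' : w ∈ UUs m K ⊓ T.comap π := hcore.ge hw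
    exact hw'.2
  · intro x hx
    obtain ⟨v, rfl⟩ := hsurj x
    rw [hS] at hx
    have hvB := BB_of_pi hk (inferInstance : CharP K p) hx
    exact norm_gen hm hk _ S.2 hS m v hvB (fun i hi => absurd hi (by omega)) le_rfl

end Cfsg.Agent.H1.PG
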