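import Mathlib
import Cfsg.Prelude.Def_Classical
import Cfsg.Agent.H1.GL2b
import Cfsg.Agent.H1.UT2
import Cfsg.Agent.S0246

set_option autoImplicit false
set_option linter.style.haveILetI false
set_option linter.unusedVariables false
set_option linter.unusedSectionVars false
set_option linter.unusedSimpArgs false

/-! `Sp(4,F)` through 2x2 blocks. -/

namespace Cfsg.Agent.H1.P4

open Matrix Subgroup Cfsg.Agent.H1 Cfsg.Agent.H7.KF

universe u
variable {F : Type u} [Field F]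

/-- 4x4 matrix from blocks -/
def m4 (A B C D : Matrix (Fin 2) (Fin 2) F) : Matrix (Fin 2 ⊕ Fin 2) (Fin 2 ⊕ Fin 2) F :=
  fromBlocks !![A 0 0, B 0 0; C 0 0, D 0 0] !![A 0 1, B 0 1; C 0 1, D 0 1] !![A 1 0, B 1 0; C 1 0, D 1 0] !![A 1 1, B 1 1; C 1 1, D 1 1]

theorem m4_mul (A B C D A' B' C' D' : Matrix (Fin 2) (Fin 2) F) :
    m4 A B C D * m4 A' B' C' D' = m4 (A * A' + B * C') (A * B' + B * D') (C * A' + D * C') (C * B' + D * D') := by
  unfold m4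
  rw [fromBlocks_multiply]
  congr 1 <;>
  · ext i j
    fin_cases i <;> fin_cases j <;> simp [Matrix.mul_apply, Fin.sum_univ_two] <;> ring

theorem m4_one : m4 (1 : Matrix (Fin 2) (Fin 2) F) 0 0 1 = 1 := by
  unfold m4
  rw [← fromBlocks_one]
  congr 1 <;>
  · ext i j
    fin_cases i <;> fin_cases j <;> simp

theorem m4_inj {A B C D A' B' C' D' : Matrix (Fin 2) (Fin 2) F} (h : m4 A B C D = m4 A' B' C' D') : A = A' ∧ B = B' ∧ C = C' ∧ D = D' := by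
  unfold m4 at h
  rw [fromBlocks_inj] at h
  obtain ⟨h1, h2, h3, h4⟩ := h
  have e := fun i j => congrFun (congrFun h1 i) j
  have f := fun i j => congrFun (congrFun h2 i) j
  have g := fun i j => congrFun (congrFun h3 i) j
  have k := fun i j => congrFun (congrFun h4 i) j
  have e00 := e 0 0; have e01 := e 0 1; have e10 := e 1 0; have e11 := e 1 1
  have f00 := f 0 0; have f01 := f 0 1; have f10 := f 1 0; have f11 := f 1 1
  have g00 := g 0 0; have g01 := g 0 1; have g10 := g 1 0; have g11 := g 1 1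
  have k00 := k 0 0; have k01 := k 0 1; have k10 := k 1 0; have k11 := k 1 1
  simp at e00 e01 e10 e11 f00 f01 f10 f11 g00 g01 g10 g11 k00 k01 k10 k11
  refine ⟨?_, ?_, ?_, ?_⟩ <;>
  · ext i j
    fin_cases i <;> fin_cases j <;> simp [*]

theorem m4_surj (X : Matrix (Fin 2 ⊕ Fin 2) (Fin 2 ⊕ Fin 2) F) : ∃ A B C D, X = m4 A B C D := by
  refine ⟨!![X (Sum.inl 0) (Sum.inl 0), X (Sum.inl 0) (Sum.inr 0); X (Sum.inr 0) (Sum.inl 0), X (Sum.inr 0) (Sum.inr 0)],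
    !![X (Sum.inl 0) (Sum.inl 1), X (Sum.inl 0) (Sum.inr 1); X (Sum.inr 0) (Sum.inl 1), X (Sum.inr 0) (Sum.inr 1)],
    !![X (Sum.inl 1) (Sum.inl 0), X (Sum.inl 1) (Sum.inr 0); X (Sum.inr 1) (Sum.inl 0), X (Sum.inr 1) (Sum.inr 0)],
    !![X (Sum.inl 1) (Sum.inl 1), X (Sum.inl 1) (Sum.inr 1); X (Sum.inr 1) (Sum.inl 1), X (Sum.inr 1) (Sum.inr 1)], ?_⟩
  unfold m4
  rw [← fromBlocks_toBlocks X]
  congr 1 <;>
  · ext i j
    fin_cases i <;> fin_cases j <;> simp [toBlocks₁₁, toBlocks₁₂, toBlocks₂₁, toBlocks₂₂]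

theorem m4_transpose (A B C D : Matrix (Fin 2) (Fin 2) F) : (m4 A B C D)ᵀ = m4 Aᵀ Cᵀ Bᵀ Dᵀ := by
  unfold m4
  rw [fromBlocks_transpose]
  congr 1 <;>
  · ext i j
    fin_cases i <;> fin_cases j <;> simp

/-- the 2x2 form -/
def jj (F : Type u) [Field F] : Matrix (Fin 2) (Fin 2) F := !![0, -1; 1, 0]

theorem J_eq : (Matrix.J (Fin 2) F) = m4 (jj F) 0 0 (jj F) := by
  unfold m4 Matrix.J jj
  congr 1 <;>
  · ext i j
    fin_cases i <;> fin_cases j <;> simp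

theorem jj_transpose (C : Matrix (Fin 2) (Fin 2) F) : jj F * Cᵀ = adjugate C * jj F := by
  rw [Matrix.adjugate_fin_two]
  unfold jj
  ext i j
  fin_cases i <;> fin_cases j <;> simp [Matrix.mul_apply, Fin.sum_univ_two]

theorem m4_form (A B C D : Matrix (Fin 2) (Fin 2) F) : m4 A B C D * Matrix.J (Fin 2) F * (m4 A B C D)ᵀ =
    m4 ((A * adjugate A + B * adjugate B) * jj F) ((A * adjugate C + B * adjugate D) * jj F) ((C * adjugate A + D * adjugate B) * jj F) ((C * adjugate C + D * adjugate D) * jj F) := by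
  rw [J_eq, m4_transpose, m4_mul, m4_mul]
  simp only [mul_zero, add_zero, zero_add, Matrix.mul_assoc, jj_transpose, Matrix.add_mul]

theorem m4_mem {A B C D : Matrix (Fin 2) (Fin 2) F} (h1 : A * adjugate A + B * adjugate B = 1) (h2 : C * adjugate C + D * adjugate D = 1)
    (h3 : A * adjugate C + B * adjugate D = 0) (h4 : C * adjugate A + D * adjugate B = 0) : m4 A B C D ∈ symplecticGroup (Fin 2) F := by
  rw [SymplecticGroup.mem_iff, m4_form, h1, h2, h3, h4, zero_mul, one_mul, J_eq]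

theorem m4_det {A D : Matrix (Fin 2) (Fin 2) F} (h : m4 A 0 0 D ∈ symplecticGroup (Fin 2) F) : A.det = 1 ∧ D.det = 1 := by
  rw [SymplecticGroup.mem_iff, m4_form, J_eq] at h
  obtain ⟨h1, -, -, h2⟩ := m4_inj h
  rw [zero_mul, add_zero, Matrix.mul_adjugate] at h1
  rw [zero_mul, zero_add, Matrix.mul_adjugate] at h2
  have e1 := congrFun (congrFun h1 1) 0
  have e2 := congrFun (congrFun h2 1) 0
  simp [jj] at e1 e2
  exact ⟨e1, e2⟩

theorem sl_adj (a : SL F) : a.1 * adjugate a.1 = 1 := by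
  rw [Matrix.mul_adjugate, a.2, one_smul]

/-- block diagonal elements -/
def D4 (a b : SL F) : symplecticGroup (Fin 2) F := ⟨m4 a.1 0 0 b.1, m4_mem (by simp [sl_adj a]) (by simp [sl_adj b]) (by simp) (by simp)⟩

/-- block off-diagonal elements -/
def O4 (a b : SL F) : symplecticGroup (Fin 2) F := ⟨m4 0 a.1 b.1 0, m4_mem (by simp [sl_adj a]) (by simp [sl_adj b]) (by simp) (by simp)⟩

theorem DD_mul (a b c d : SL F) : D4 a b * D4 c d = D4 (a * c) (b * d) := by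
  apply Subtype.ext
  change m4 a.1 0 0 b.1 * m4 c.1 0 0 d.1 = m4 (a.1 * c.1) 0 0 (b.1 * d.1)
  rw [m4_mul]; simp

theorem DO_mul (a b c d : SL F) : D4 a b * O4 c d = O4 (a * c) (b * d) := by
  apply Subtype.ext
  change m4 a.1 0 0 b.1 * m4 0 c.1 d.1 0 = m4 0 (a.1 * c.1) (b.1 * d.1) 0
  rw [m4_mul]; simp

theorem OD_mul (a b c d : SL F) : O4 a b * D4 c d = O4 (a * d) (b * c) := by
  apply Subtype.ext
  change m4 0 a.1 b.1 0 * m4 c.1 0 0 d.1 = m4 0 (a.1 * d.1) (b.1 * c.1) 0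
  rw [m4_mul]; simp

theorem OO_mul (a b c d : SL F) : O4 a b * O4 c d = D4 (a * d) (b * c) := by
  apply Subtype.ext
  change m4 0 a.1 b.1 0 * m4 0 c.1 d.1 0 = m4 (a.1 * d.1) 0 0 (b.1 * c.1)
  rw [m4_mul]; simp

theorem D_one : D4 (1 : SL F) 1 = 1 := by
  apply Subtype.ext
  exact m4_one

theorem D_inv (a b : SL F) : (D4 a b)⁻¹ = D4 a⁻¹ b⁻¹ := by
  apply inv_eq_of_mul_eq_one_right
  rw [DD_mul, mul_inv_cancel, mul_inv_cancel, D_one]

theorem O_inv (a b : SL F) : (O4 a b)⁻¹ = O4 b⁻¹ a⁻¹ := by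
  apply inv_eq_of_mul_eq_one_right
  rw [OO_mul, mul_inv_cancel, mul_inv_cancel, D_one]

theorem D_inj {a b c d : SL F} (h : D4 a b = D4 c d) : a = c ∧ b = d := by
  obtain ⟨h1, -, -, h2⟩ := m4_inj (congrArg Subtype.val h)
  exact ⟨Subtype.ext h1, Subtype.ext h2⟩

theorem O_inj {a b c d : SL F} (h : O4 a b = O4 c d) : a = c ∧ b = d := by
  obtain ⟨-, h1, h2, -⟩ := m4_inj (congrArg Subtype.val h)
  exact ⟨Subtype.ext h1, Subtype.ext h2⟩

theorem sl_ne_zero (a : SL F) : a.1 ≠ 0 := by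
  intro h
  have := a.2
  rw [h, Matrix.det_zero] at this
  exact zero_ne_one this

theorem D_ne_O {a b c d : SL F} : D4 a b ≠ O4 c d := by
  intro h
  obtain ⟨h1, -, -, -⟩ := m4_inj (congrArg Subtype.val h)
  exact sl_ne_zero a h1

/-- minus one -/
theorem D_neg (a b : SL F) : D4 (-1) (-1) * D4 a b = D4 (-a) (-b) := by rw [DD_mul]; simp

/-- the candidate Sylow subgroup -/
def SS (Q : Subgroup (SL F)) : Subgroup (symplecticGroup (Fin 2) F) where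
  carrier := {g | ∃ a ∈ Q, ∃ b ∈ Q, g = D4 a b ∨ g = O4 a b}
  mul_mem' := by
    rintro _ _ ⟨a, ha, b, hb, rfl | rfl⟩ ⟨c, hc, d, hd, rfl | rfl⟩
    · exact ⟨_, mul_mem ha hc, _, mul_mem hb hd, Or.inl (DD_mul _ _ _ _)⟩
    · exact ⟨_, mul_mem ha hc, _, mul_mem hb hd, Or.inr (DO_mul _ _ _ _)⟩
    · exact ⟨_, mul_mem ha hd, _, mul_mem hb hc, Or.inr (OD_mul _ _ _ _)⟩
    · exact ⟨_, mul_mem ha hd, _, mul_mem hb hc, Or.inl (OO_mul _ _ _ _)⟩
  one_mem' := ⟨1, one_mem _, 1, one_mem _, Or.inl D_one.symm⟩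
  inv_mem' := by
    rintro _ ⟨a, ha, b, hb, rfl | rfl⟩
    · exact ⟨_, inv_mem ha, _, inv_mem hb, Or.inl (D_inv _ _)⟩
    · exact ⟨_, inv_mem hb, _, inv_mem ha, Or.inr (O_inv _ _)⟩

theorem D_mem {Q : Subgroup (SL F)} {a b : SL F} : D4 a b ∈ SS Q ↔ a ∈ Q ∧ b ∈ Q := by
  constructor
  · rintro ⟨c, hc, d, hd, h | h⟩
    · obtain ⟨rfl, rfl⟩ := D_inj h; exact ⟨hc, hd⟩
    · exact absurd h D_ne_O
  · rintro ⟨ha, hb⟩; exact ⟨a, ha, b, hb, Or.inl rfl⟩

theorem O_mem {Q : Subgroup (SL F)} {a b : SL F} : O4 a b ∈ SS Q ↔ a ∈ Q ∧ b ∈ Q := by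
  constructor
  · rintro ⟨c, hc, d, hd, h | h⟩
    · exact absurd h.symm D_ne_O
    · obtain ⟨rfl, rfl⟩ := O_inj h; exact ⟨hc, hd⟩
  · rintro ⟨ha, hb⟩; exact ⟨a, ha, b, hb, Or.inr rfl⟩

/-- elements commuting with `D4 (-1) 1` -/
theorem comm_U (h2 : (2 : F) ≠ 0) {v : symplecticGroup (Fin 2) F} (h : v * D4 (-1) 1 = D4 (-1) 1 * v) : ∃ a b : SL F, v = D4 a b := by
  obtain ⟨A, B, C, D, hv⟩ := m4_surj v.1
  have h1 : v.1 * m4 (-1) 0 0 1 = m4 (-1) 0 0 1 * v.1 := congrArg Subtype.val h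
  rw [hv, m4_mul, m4_mul] at h1
  obtain ⟨-, h3, h4, -⟩ := m4_inj h1
  simp at h3 h4
  have self_neg : ∀ X : Matrix (Fin 2) (Fin 2) F, X = -X → X = 0 := by
    intro X hX
    have h5 : (2 : F) • X = 0 := by
      rw [two_smul]; nth_rewrite 1 [hX]; exact neg_add_cancel X
    exact (smul_eq_zero.mp h5).resolve_left h2
  have hB : B = 0 := self_neg B h3
  have hC : C = 0 := self_neg C h4.symm
  rw [hB, hC] at hv
  have hm := v.2
  rw [hv] at hm
  obtain ⟨hA, hD⟩ := m4_det hm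
  exact ⟨⟨A, hA⟩, ⟨D, hD⟩, Subtype.ext hv⟩

end Cfsg.Agent.H1.P4
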