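import Mathlib
import Cfsg.Agent.H1.PS1

set_option autoImplicit false
set_option linter.style.haveILetI false
set_option linter.unusedVariables false
set_option linter.unusedSectionVars false
set_option linter.unusedSimpArgs false

/-! `Sp(4,F)`: the normalizer of the Sylow 2-subgroup. -/

namespace Cfsg.Agent.H1.P4

open Matrix Subgroup Cfsg.Agent.H1 Cfsg.Agent.H7.KF

universe u v
variable {F : Type u} [Field F]

/-- quaternion data -/
structure QQ (Q : Subgroup (SL F)) (m : ℕ) (g y : SL F) : Prop where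
  hm : 1 ≤ m
  hg : g ∈ Q
  hy : y ∈ Q
  hord : orderOf g = 2 ^ (m + 1)
  hyg : y * g = g⁻¹ * y
  hyy : y * y = -1
  hgm : g ^ 2 ^ m = -1
  hcov : ∀ w ∈ Q, ∃ i : ℤ, w = g ^ i ∨ w = g ^ i * y

namespace QQ
variable {Q : Subgroup (SL F)} {m : ℕ} {g y : SL F} (h : QQ Q m g y)
include h

theorem neg_mem : (-1 : SL F) ∈ Q := by rw [← h.hyy]; exact mul_mem h.hy h.hy

theorem neg_mem' {a : SL F} (ha : a ∈ Q) : -a ∈ Q := by
  rw [← neg_one_mul]; exact mul_mem h.neg_mem ha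

theorem y_zpow (i : ℤ) : y * g ^ i = g ^ (-i) * y := by
  have h1 : y * g * y⁻¹ = g⁻¹ := by rw [h.hyg]; group
  have h2 : y * g ^ i * y⁻¹ = g ^ (-i) := by rw [← conj_zpow, h1, _root_.inv_zpow, _root_.zpow_neg]
  rw [← h2]; group

theorem gy_sq (i : ℤ) : (g ^ i * y) * (g ^ i * y) = -1 := by
  have e : (g ^ i * y) * (g ^ i * y) = g ^ i * (y * g ^ i) * y := by group
  rw [e, h.y_zpow]
  have e2 : g ^ i * (g ^ (-i) * y) * y = y * y := by group
  rw [e2, h.hyy]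

/-- a square root of `-1` in the cyclic part -/
theorem exists_root : ∃ i : ℤ, g ^ i * g ^ i = -1 := by
  obtain ⟨k, hk⟩ : ∃ k, m = k + 1 := ⟨m - 1, by have := h.hm; omega⟩
  refine ⟨((2 ^ k : ℕ) : ℤ), ?_⟩
  rw [← _root_.zpow_add, ← h.hgm, hk, ← zpow_natCast g (2 ^ (k + 1))]
  congr 1
  push_cast
  ring

theorem center_pm (h2 : (2 : F) ≠ 0) {a : SL F} (ha : a ∈ Q) (hc : ∀ x ∈ Q, a * x = x * a) : a = 1 ∨ a = -1 := by
  obtain ⟨i, hi | hi⟩ := h.hcov a ha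
  · apply pm_of_sq h2
    have h1 := hc y h.hy
    rw [hi, h.y_zpow] at h1
    have h3 := mul_right_cancel h1
    rw [hi]
    nth_rewrite 2 [h3]
    group
  · exfalso
    obtain ⟨j, hj⟩ := h.exists_root
    have h1 := hc (g ^ j) (zpow_mem h.hg j)
    rw [hi] at h1
    have e1 : g ^ i * y * g ^ j = g ^ (-j) * (g ^ i * y) := by
      rw [mul_assoc, h.y_zpow]; group
    rw [e1] at h1
    have h3 := mul_right_cancel h1
    have h4 : g ^ j * g ^ j = 1 := by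
      nth_rewrite 1 [← h3]; group
    rw [hj] at h4
    exact neg_one_ne h2 h4

end QQ

/-- the central element -/
theorem M_comm (v : symplecticGroup (Fin 2) F) : v * D4 (-1) (-1) = D4 (-1) (-1) * v := by
  obtain ⟨A, B, C, D, hv⟩ := m4_surj v.1
  apply Subtype.ext
  change v.1 * m4 (-1) 0 0 (-1) = m4 (-1) 0 0 (-1) * v.1
  rw [hv, m4_mul, m4_mul]; simp

theorem Zc {Q : Subgroup (SL F)} {m : ℕ} {g y : SL F} (h : QQ Q m g y) (h2 : (2 : F) ≠ 0) {z : symplecticGroup (Fin 2) F} (hz : z ∈ SS Q)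
    (hc : ∀ s ∈ SS Q, z * s = s * z ∨ z * s = D4 (-1) (-1) * (s * z)) : ∃ a b : SL F, (a = 1 ∨ a = -1) ∧ (b = 1 ∨ b = -1) ∧ z = D4 a b := by
  obtain ⟨a, ha, b, hb, hz | hz⟩ := hz
  · refine ⟨a, b, ?_, ?_, hz⟩
    · apply h.center_pm h2 ha
      intro x hx
      rcases hc (D4 x 1) (D_mem.mpr ⟨hx, one_mem _⟩) with h1 | h1
      · rw [hz, DD_mul, DD_mul] at h1
        exact (D_inj h1).1
      · rw [hz, DD_mul, DD_mul, D_neg, mul_one, one_mul] at h1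
        exact absurd (D_inj h1).2 (ne_neg h2 b)
    · apply h.center_pm h2 hb
      intro x hx
      rcases hc (D4 1 x) (D_mem.mpr ⟨one_mem _, hx⟩) with h1 | h1
      · rw [hz, DD_mul, DD_mul] at h1
        exact (D_inj h1).2
      · rw [hz, DD_mul, DD_mul, D_neg, mul_one, one_mul] at h1
        exact absurd (D_inj h1).1 (ne_neg h2 a)
  · exfalso
    have hy1 : y ≠ 1 := by
      intro h1
      have := h.hyy
      rw [h1, one_mul] at this
      exact neg_one_ne h2 this.symm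
    have hy2 : -y ≠ 1 := by
      intro h1
      have := h.hyy
      rw [← neg_mul_neg, h1, one_mul] at this
      exact neg_one_ne h2 this.symm
    rcases hc (D4 y 1) (D_mem.mpr ⟨h.hy, one_mem _⟩) with h1 | h1
    · rw [hz, OD_mul, DO_mul, mul_one, one_mul] at h1
      have h3 := (O_inj h1).1
      exact hy1 (mul_eq_right.mp h3.symm)
    · rw [hz, OD_mul, DO_mul, DO_mul, mul_one, one_mul] at h1
      have h3 := (O_inj h1).1
      rw [← mul_assoc, neg_one_mul] at h3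
      exact hy2 (mul_eq_right.mp h3.symm)

/-- commutation of `U` -/
theorem U_comm {Q : Subgroup (SL F)} {s : symplecticGroup (Fin 2) F} (hs : s ∈ SS Q) : D4 (-1) 1 * s = s * D4 (-1) 1 ∨ D4 (-1) 1 * s = D4 (-1) (-1) * (s * D4 (-1) 1) := by
  obtain ⟨a, ha, b, hb, rfl | rfl⟩ := hs
  · left; rw [DD_mul, DD_mul]; simp
  · right; rw [DO_mul, OD_mul, DO_mul]; simp

theorem norm_form {Q : Subgroup (SL F)} {m : ℕ} {g y : SL F} (h : QQ Q m g y) (h2 : (2 : F) ≠ 0) {v : symplecticGroup (Fin 2) F}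
    (hv : v ∈ normalizer ((SS Q : Subgroup (symplecticGroup (Fin 2) F)) : Set (symplecticGroup (Fin 2) F))) :
    ∃ s ∈ SS Q, ∃ b : SL F, (∀ x ∈ Q, b * x * b⁻¹ ∈ Q) ∧ v = s * D4 b b := by
  have fin : ∀ v : symplecticGroup (Fin 2) F, v ∈ normalizer ((SS Q : Subgroup (symplecticGroup (Fin 2) F)) : Set (symplecticGroup (Fin 2) F)) → v * D4 (-1) 1 = D4 (-1) 1 * v →
      ∃ s ∈ SS Q, ∃ b : SL F, (∀ x ∈ Q, b * x * b⁻¹ ∈ Q) ∧ v = s * D4 b b := by
    intro v hv hc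
    obtain ⟨a, b, rfl⟩ := comm_U h2 hc
    refine ⟨D4 (a * b⁻¹) 1, D_mem.mpr ⟨?_, one_mem _⟩, b, ?_, ?_⟩
    · have h1 := (mem_normalizer_iff.mp hv (O4 1 1)).mp (O_mem.mpr ⟨one_mem _, one_mem _⟩)
      rw [D_inv, DO_mul, OD_mul, mul_one, mul_one] at h1
      exact (O_mem.mp h1).1
    · intro x hx
      have h1 := (mem_normalizer_iff.mp hv (D4 1 x)).mp (D_mem.mpr ⟨one_mem _, hx⟩)
      rw [D_inv, DD_mul, DD_mul] at h1
      exact (D_mem.mp h1).2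
    · rw [DD_mul, one_mul, inv_mul_cancel_right]
  have hU : D4 (-1) 1 ∈ SS Q := D_mem.mpr ⟨h.neg_mem, one_mem _⟩
  have hz : v * D4 (-1) 1 * v⁻¹ ∈ SS Q := (mem_normalizer_iff.mp hv _).mp hU
  obtain ⟨a, b, ha, hb, hab⟩ := Zc h h2 hz (by
    intro s hs
    have hs' : v⁻¹ * s * v⁻¹⁻¹ ∈ SS Q := (mem_normalizer_iff.mp (inv_mem hv) _).mp hs
    rcases U_comm hs' with h1 | h1
    · left
      calc v * D4 (-1) 1 * v⁻¹ * s = v * (D4 (-1) 1 * (v⁻¹ * s * v⁻¹⁻¹)) * v⁻¹ := by group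
        _ = v * ((v⁻¹ * s * v⁻¹⁻¹) * D4 (-1) 1) * v⁻¹ := by rw [h1]
        _ = s * (v * D4 (-1) 1 * v⁻¹) := by group
    · right
      calc v * D4 (-1) 1 * v⁻¹ * s = v * (D4 (-1) 1 * (v⁻¹ * s * v⁻¹⁻¹)) * v⁻¹ := by group
        _ = v * (D4 (-1) (-1) * ((v⁻¹ * s * v⁻¹⁻¹) * D4 (-1) 1)) * v⁻¹ := by rw [h1]
        _ = (v * D4 (-1) (-1)) * ((v⁻¹ * s * v⁻¹⁻¹) * D4 (-1) 1) * v⁻¹ := by group
        _ = (D4 (-1) (-1) * v) * ((v⁻¹ * s * v⁻¹⁻¹) * D4 (-1) 1) * v⁻¹ := by rw [M_comm]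
        _ = D4 (-1) (-1) * (s * (v * D4 (-1) 1 * v⁻¹)) := by group)
  have hn1 : (-1 : SL F) ≠ 1 := neg_one_ne h2
  have key : v * D4 (-1) 1 * v⁻¹ = D4 (-1) 1 ∨ v * D4 (-1) 1 * v⁻¹ = D4 1 (-1) := by
    rcases ha with rfl | rfl <;> rcases hb with rfl | rfl
    · exfalso
      rw [D_one] at hab
      have h1 : D4 (-1 : SL F) 1 = D4 1 1 := by
        rw [D_one]
        have : D4 (-1 : SL F) 1 = v⁻¹ * (v * D4 (-1) 1 * v⁻¹) * v := by group
        rw [this, hab]; group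
      exact hn1 (D_inj h1).1
    · exact Or.inr hab
    · exact Or.inl hab
    · exfalso
      have h1 : D4 (-1 : SL F) 1 = D4 (-1) (-1) := by
        have : D4 (-1 : SL F) 1 = v⁻¹ * (v * D4 (-1) 1 * v⁻¹) * v := by group
        rw [this, hab, mul_assoc, ← M_comm]; group
      exact hn1 (D_inj h1).2.symm
  rcases key with hk | hk
  · exact fin v hv (mul_inv_eq_iff_eq_mul.mp hk)
  · have hW : O4 1 1 ∈ SS Q := O_mem.mpr ⟨one_mem _, one_mem _⟩
    have h1 : (O4 1 1 * v) * D4 (-1) 1 * (O4 1 1 * v)⁻¹ = D4 (-1) 1 := by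
      calc (O4 1 1 * v) * D4 (-1) 1 * (O4 1 1 * v)⁻¹ = O4 1 1 * (v * D4 (-1) 1 * v⁻¹) * (O4 1 1)⁻¹ := by group
        _ = D4 (-1) 1 := by rw [hk, O_inv, OD_mul, OO_mul]; simp
    obtain ⟨s, hs, b, hb, hvb⟩ := fin (O4 1 1 * v) (mul_mem (le_normalizer hW) hv) (mul_inv_eq_iff_eq_mul.mp h1)
    refine ⟨(O4 1 1)⁻¹ * s, mul_mem (inv_mem hW) hs, b, hb, ?_⟩
    rw [mul_assoc, ← hvb]; group

end Cfsg.Agent.H1.P4
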