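import Mathlib
import Cfsg.Agent.H1.PS2
import Cfsg.Agent.H1.FC2
import Cfsg.Agent.H1.UT2
import Cfsg.Agent.H1.OddAut

set_option autoImplicit false
set_option linter.style.haveILetI false
set_option linter.unusedVariables false
set_option linter.unusedSectionVars false
set_option linter.unusedSimpArgs false

/-! `PSp(4,F)`: Sylow 2-subgroups and strongly closed subgroups. -/

namespace Cfsg.Agent.H1.P4

open Matrix Subgroup Cfsg.Agent.H1 Cfsg.Agent.H7.KF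

universe u v
variable {F : Type u} [Field F]

section
variable {Q : Subgroup (SL F)} {m : ℕ} {g y : SL F} {G : Type v} [Group G] {π : symplecticGroup (Fin 2) F →* G}

theorem pi_mem (hQ : (-1 : SL F) ∈ Q) (hk : ∀ x, π x = 1 → x = 1 ∨ x = D4 (-1) (-1)) {v : symplecticGroup (Fin 2) F} (hv : π v ∈ (SS Q).map π) : v ∈ SS Q := by
  obtain ⟨s, hs, hsv⟩ := hv
  have h1 : π (v * s⁻¹) = 1 := by rw [map_mul, map_inv, ← hsv, mul_inv_cancel]
  have h2 : v = (v * s⁻¹) * s := by group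
  rw [h2]
  rcases hk _ h1 with h3 | h3
  · rw [h3, one_mul]; exact hs
  · rw [h3]; exact mul_mem (D_mem.mpr ⟨hQ, hQ⟩) hs

theorem pi_norm1 (hQ : (-1 : SL F) ∈ Q) (hk : ∀ x, π x = 1 → x = 1 ∨ x = D4 (-1) (-1)) {v : symplecticGroup (Fin 2) F} (hv : π v ∈ normalizer (((SS Q).map π : Subgroup G) : Set G)) :
    v ∈ normalizer ((SS Q : Subgroup (symplecticGroup (Fin 2) F)) : Set (symplecticGroup (Fin 2) F)) := by
  rw [mem_normalizer_iff]
  intro s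
  constructor
  · intro hs
    apply pi_mem hQ hk
    rw [map_mul, map_mul, map_inv]
    exact (mem_normalizer_iff.mp hv _).mp ⟨s, hs, rfl⟩
  · intro hs
    apply pi_mem hQ hk
    apply (mem_normalizer_iff.mp hv _).mpr
    rw [← map_inv, ← map_mul, ← map_mul]
    exact ⟨_, hs, rfl⟩

theorem SS_pow {N : ℕ} (hN : ∀ a ∈ Q, a ^ 2 ^ N = 1) {s : symplecticGroup (Fin 2) F} (hs : s ∈ SS Q) : s ^ 2 ^ (N + 1) = 1 := by
  have hD : ∀ a b : SL F, ∀ k : ℕ, (D4 a b) ^ k = D4 (a ^ k) (b ^ k) := by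
    intro a b k
    induction k with
    | zero => rw [pow_zero, pow_zero, pow_zero, D_one]
    | succ k ih => rw [pow_succ, ih, DD_mul, ← pow_succ, ← pow_succ]
  obtain ⟨a, ha, b, hb, rfl | rfl⟩ := hs
  · rw [pow_succ, pow_mul, hD, hN a ha, hN b hb, D_one, one_pow]
  · rw [pow_succ', pow_mul, pow_two, OO_mul, hD, hN _ (mul_mem ha hb), hN _ (mul_mem hb ha), D_one]

theorem D_pow (a b : SL F) (k : ℕ) : (D4 a b) ^ k = D4 (a ^ k) (b ^ k) := by
  induction k with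
  | zero => rw [pow_zero, pow_zero, pow_zero, D_one]
  | succ k ih => rw [pow_succ, ih, DD_mul, ← pow_succ, ← pow_succ]

theorem two_elt_mem [Finite F] (Q : Sylow 2 (SL F)) {b : SL F} (hb : ∀ x ∈ (Q : Subgroup (SL F)), b * x * b⁻¹ ∈ (Q : Subgroup (SL F))) {k : ℕ} (hk : b ^ 2 ^ k = 1) : b ∈ (Q : Subgroup (SL F)) := by
  haveI : Fact (Nat.Prime 2) := ⟨Nat.prime_two⟩
  have h1 : b ∈ normalizer ((Q : Subgroup (SL F)) : Set (SL F)) := mem_normalizer_of_conj_mem hb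
  have h3 := IsPGroup.inf_normalizer_sylow (zpowers_isPGroup hk) Q
  have h4 := h3.le (Subgroup.mem_inf.mpr ⟨Subgroup.mem_zpowers b, h1⟩)
  exact (Subgroup.mem_inf.mp h4).2

theorem p_elt4 [Finite F] (h2 : (2 : F) ≠ 0) (Q : Sylow 2 (SL F)) (h : QQ (Q : Subgroup (SL F)) m g y) (hsurj : Function.Surjective π) (hk : ∀ x, π x = 1 → x = 1 ∨ x = D4 (-1) (-1)) {N : ℕ} (hN : ∀ a ∈ (Q : Subgroup (SL F)), a ^ 2 ^ N = 1)
    {x : G} (hx : x ∈ normalizer (((SS (Q : Subgroup (SL F))).map π : Subgroup G) : Set G)) {k : ℕ} (hxk : x ^ 2 ^ k = 1) : x ∈ (SS (Q : Subgroup (SL F))).map π := by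
  obtain ⟨v, rfl⟩ := hsurj x
  have hv := pi_norm1 h.neg_mem hk hx
  obtain ⟨s, hs, b, hb, hvb⟩ := norm_form h h2 hv
  have hD : D4 b b ∈ normalizer ((SS (Q : Subgroup (SL F)) : Subgroup (symplecticGroup (Fin 2) F)) : Set (symplecticGroup (Fin 2) F)) := by
    have e : D4 b b = s⁻¹ * v := by rw [hvb]; group
    rw [e]; exact mul_mem (inv_mem (le_normalizer hs)) hv
  have hpow : ∀ n : ℕ, ∃ t ∈ SS (Q : Subgroup (SL F)), v ^ n = t * (D4 b b) ^ n := by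
    intro n
    induction n with
    | zero => exact ⟨1, one_mem _, by simp⟩
    | succ n ih =>
      obtain ⟨t, ht, htn⟩ := ih
      refine ⟨t * ((D4 b b) ^ n * s * ((D4 b b) ^ n)⁻¹), mul_mem ht ((mem_normalizer_iff.mp (pow_mem hD n) _).mp hs), ?_⟩
      rw [pow_succ, htn, hvb, pow_succ (D4 b b)]
      group
  obtain ⟨t, ht, htn⟩ := hpow (2 ^ k)
  have h1 : v ^ 2 ^ k ∈ SS (Q : Subgroup (SL F)) := by
    apply pi_mem h.neg_mem hk
    rw [map_pow, hxk]; exact one_mem _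
  have h3 : (D4 b b) ^ 2 ^ k ∈ SS (Q : Subgroup (SL F)) := by
    have e : (D4 b b) ^ 2 ^ k = t⁻¹ * v ^ 2 ^ k := by rw [htn]; group
    rw [e]; exact mul_mem (inv_mem ht) h1
  rw [D_pow] at h3
  have h4 := (D_mem.mp h3).1
  have h5 : b ^ 2 ^ (k + N) = 1 := by rw [pow_add, pow_mul]; exact hN _ h4
  have hbQ := two_elt_mem Q hb h5
  refine ⟨v, ?_, rfl⟩
  rw [hvb]; exact mul_mem hs (D_mem.mpr ⟨hbQ, hbQ⟩)

theorem exists_pi4 [Finite F] [Finite G] (h2 : (2 : F) ≠ 0) (Q : Sylow 2 (SL F)) (h : QQ (Q : Subgroup (SL F)) m g y) (hsurj : Function.Surjective π) (hk : ∀ x, π x = 1 → x = 1 ∨ x = D4 (-1) (-1)) (hM : π (D4 (-1) (-1)) = 1) {N : ℕ} (hN : ∀ a ∈ (Q : Subgroup (SL F)), a ^ 2 ^ N = 1)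
    (S : Sylow 2 G) : ∃ π' : symplecticGroup (Fin 2) F →* G, Function.Surjective π' ∧ (∀ x, π' x = 1 → x = 1 ∨ x = D4 (-1) (-1)) ∧ π' (D4 (-1) (-1)) = 1 ∧ (S : Subgroup G) = (SS (Q : Subgroup (SL F))).map π' := by
  haveI : Fact (Nat.Prime 2) := ⟨Nat.prime_two⟩
  have hP : IsPGroup 2 ((SS (Q : Subgroup (SL F))).map π) := by
    rintro ⟨_, u, hu, rfl⟩
    refine ⟨N + 1, Subtype.ext ?_⟩
    change (π u) ^ 2 ^ (N + 1) = 1
    rw [← map_pow, SS_pow hN hu, map_one]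
  obtain ⟨P, hPP⟩ := Cfsg.Agent.H1.UT.sylow_of_normalizer ((SS (Q : Subgroup (SL F))).map π) hP (fun x hx ⟨k, hxk⟩ => p_elt4 h2 Q h hsurj hk hN hx hxk)
  obtain ⟨g, hg⟩ := MulAction.exists_smul_eq G P S
  refine ⟨(MulAut.conj g).toMonoidHom.comp π, ?_, ?_, ?_, ?_⟩
  · exact (MulAut.conj g).surjective.comp hsurj
  · intro x hx
    apply hk
    exact (MulAut.conj g).injective (hx.trans (map_one (MulAut.conj g)).symm)
  · change MulAut.conj g (π (D4 (-1) (-1))) = 1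
    rw [hM, map_one]
  · rw [← Subgroup.map_map, ← hPP, ← hg]
    rfl

/-- the matrix conjugating `U` to `O4 1 1` -/
theorem U_conj_W (h2 : (2 : F) ≠ 0) : ∃ c : symplecticGroup (Fin 2) F, c * D4 (-1) 1 * c⁻¹ = O4 1 1 := by
  let Mx : Matrix (Fin 2) (Fin 2) F := !![2⁻¹, 0; 0, 1]
  have hM : Mx * adjugate Mx = (2⁻¹ : F) • 1 := by
    rw [Matrix.mul_adjugate]
    congr 1
    simp [Mx, Matrix.det_fin_two]
  have hneg : adjugate (-Mx) = -adjugate Mx := by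
    rw [Matrix.adjugate_fin_two, Matrix.adjugate_fin_two]
    ext i j
    fin_cases i <;> fin_cases j <;> simp
  have hhalf : (2⁻¹ : F) • (1 : Matrix (Fin 2) (Fin 2) F) + (2⁻¹ : F) • 1 = 1 := by
    rw [← add_smul]
    have : (2⁻¹ : F) + 2⁻¹ = 1 := by field_simp; norm_num
    rw [this, one_smul]
  let c : symplecticGroup (Fin 2) F := ⟨m4 Mx Mx (-Mx) Mx, m4_mem (by rw [hM, hhalf]) (by rw [hneg, neg_mul_neg, hM, hhalf])
    (by rw [hneg, mul_neg, hM, neg_add_cancel]) (by rw [neg_mul, hM, neg_add_cancel])⟩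
  refine ⟨c, ?_⟩
  rw [mul_inv_eq_iff_eq_mul]
  apply Subtype.ext
  change m4 Mx Mx (-Mx) Mx * m4 (-1) 0 0 1 = m4 0 1 1 0 * m4 Mx Mx (-Mx) Mx
  rw [m4_mul, m4_mul]; simp

theorem closed4 [Fintype F] [Finite G] (h2 : (2 : F) ≠ 0) (Q : Sylow 2 (SL F)) (h : QQ (Q : Subgroup (SL F)) m g y) (hk : ∀ x, π x = 1 → x = 1 ∨ x = D4 (-1) (-1)) (hM : π (D4 (-1) (-1)) = 1)
    (S : Sylow 2 G) (hS : (S : Subgroup G) = (SS (Q : Subgroup (SL F))).map π)
    (T : Subgroup G) (hT : T ≤ (S : Subgroup G)) (hT1 : T ≠ ⊥) (hcl : ∀ t ∈ T, ∀ g : G, g * t * g⁻¹ ∈ (S : Subgroup G) → g * t * g⁻¹ ∈ T) : T = (S : Subgroup G) := by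
  haveI : Fact (Nat.Prime 2) := ⟨Nat.prime_two⟩
  haveI : Group.IsNilpotent (S : Subgroup G) := S.2.isNilpotent
  haveI hnorm : (T.subgroupOf (S : Subgroup G)).Normal := by
    constructor
    intro t ht s
    rw [mem_subgroupOf] at ht ⊢
    exact hcl _ ht s (mul_mem (mul_mem s.2 t.2) (inv_mem s.2))
  have hne : T.subgroupOf (S : Subgroup G) ≠ ⊥ := by
    intro h
    rw [subgroupOf_eq_bot] at h
    apply hT1
    rw [eq_bot_iff]
    intro t ht
    exact h.le_bot ⟨ht, hT ht⟩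
  have h1 := inf_center_ne_bot _ hne
  obtain ⟨⟨s, hsT, hsc⟩, hs1⟩ := Subgroup.ne_bot_iff_exists_ne_one.mp h1
  have hs1' : (s : G) ≠ 1 := fun h => hs1 (Subtype.ext (Subtype.ext h))
  have hsS : (s : G) ∈ (SS (Q : Subgroup (SL F))).map π := hS.le s.2
  obtain ⟨z, hz, hzs⟩ := hsS
  obtain ⟨a, b, ha, hb, hab⟩ := Zc h h2 hz (by
    intro w hw
    have h3 := mem_center_iff.mp hsc ⟨π w, hS.ge ⟨w, hw, rfl⟩⟩
    have h4 := congrArg Subtype.val h3
    change π w * (s : G) = (s : G) * π w at h4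
    rw [← hzs] at h4
    have h5 : π (z * w * (w * z)⁻¹) = 1 := by
      rw [map_mul, map_inv, map_mul, map_mul, h4, mul_inv_cancel]
    rcases hk _ h5 with h6 | h6
    · left; exact mul_inv_eq_one.mp h6
    · right; exact mul_inv_eq_iff_eq_mul.mp h6)
  -- the class of U is in T
  have hpw : π (D4 1 (-1)) = π (D4 (-1) 1) := by
    have e : D4 (1 : SL F) (-1) = D4 (-1) (-1) * D4 (-1) 1 := by rw [D_neg, neg_neg]
    rw [e, map_mul, hM, one_mul]
  have hU : π (D4 (-1) 1) ∈ T := by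
    have hsT' : (s : G) ∈ T := hsT
    rw [← hzs, hab] at hsT'
    rw [← hzs, hab] at hs1'
    rcases ha with rfl | rfl <;> rcases hb with rfl | rfl
    · rw [D_one, map_one] at hs1'; exact absurd rfl hs1'
    · rw [hpw] at hsT'; exact hsT'
    · exact hsT'
    · exact absurd hM hs1'
  have mv : ∀ a c : symplecticGroup (Fin 2) F, π a ∈ T → c * a * c⁻¹ ∈ SS (Q : Subgroup (SL F)) → π (c * a * c⁻¹) ∈ T := by
    intro a c ha hc
    rw [map_mul, map_mul, map_inv]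
    apply hcl _ ha
    rw [← map_inv, ← map_mul, ← map_mul]
    exact hS.ge ⟨_, hc, rfl⟩
  have hW : π (O4 1 1) ∈ T := by
    obtain ⟨c, hc⟩ := U_conj_W h2
    have := mv _ c hU (by rw [hc]; exact O_mem.mpr ⟨one_mem _, one_mem _⟩)
    rwa [hc] at this
  have h3 : ∀ a ∈ (Q : Subgroup (SL F)), π (D4 a a⁻¹) ∈ T := by
    intro a ha
    have h4 := mv _ (D4 a 1) hW (by
      rw [D_inv, DO_mul, OD_mul]
      exact O_mem.mpr ⟨by simpa using ha, by simpa using ha⟩)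
    have e : D4 a a⁻¹ = (D4 a 1 * O4 1 1 * (D4 a 1)⁻¹) * O4 1 1 := by
      rw [D_inv, DO_mul, OD_mul, OO_mul]; simp
    rw [e, map_mul]
    exact mul_mem h4 hW
  have h4 : ∀ a ∈ (Q : Subgroup (SL F)), ∀ b ∈ (Q : Subgroup (SL F)), a * a = -1 → b * b = -1 → π (D4 a b) ∈ T := by
    intro a ha b hb haa hbb
    have haa' : a⁻¹ * a⁻¹ = -1 := by
      have e : a⁻¹ * a⁻¹ = (a * a)⁻¹ := by group
      rw [e, haa, inv_neg, inv_one]
    obtain ⟨x, hx⟩ := conj_T h2 a⁻¹ b haa' hbb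
    have e : D4 1 x * D4 a a⁻¹ * (D4 1 x)⁻¹ = D4 a b := by
      rw [D_inv, DD_mul, DD_mul, hx]; simp
    have h5 := mv _ (D4 1 x) (h3 a ha) (by rw [e]; exact D_mem.mpr ⟨ha, hb⟩)
    rwa [e] at h5
  have hyi : y⁻¹ = -y := by
    apply inv_eq_of_mul_eq_one_right
    rw [mul_neg, h.hyy, neg_neg]
  have h5 : ∀ i : ℤ, π (D4 (g ^ i) 1) ∈ T := by
    intro i
    have e : D4 (g ^ i) 1 = D4 (g ^ i * y) y * (D4 y y)⁻¹ := by
      rw [D_inv, DD_mul, mul_inv_cancel, mul_inv_cancel_right]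
    rw [e, map_mul, map_inv]
    exact mul_mem (h4 _ (mul_mem (zpow_mem h.hg i) h.hy) _ h.hy (h.gy_sq i) h.hyy) (inv_mem (h4 _ h.hy _ h.hy h.hyy h.hyy))
  have h6 : π (D4 y 1) ∈ T := by
    obtain ⟨i, hi⟩ := h.exists_root
    have e : D4 y 1 = D4 (g ^ i * y) y * (D4 (g ^ i) y)⁻¹ * D4 (g ^ (-(2 * i))) 1 := by
      rw [D_inv, DD_mul, DD_mul, mul_inv_cancel, mul_one]
      congr 1
      have e1 : g ^ i * y * (g ^ i)⁻¹ = g ^ (2 * i) * y := by
        have : g ^ i * y * (g ^ i)⁻¹ = g ^ i * (y * g ^ (-i)) := by group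
        rw [this, h.y_zpow]; group
      have e2 : y * g ^ (-(2 * i)) = g ^ (2 * i) * y := by rw [h.y_zpow]; group
      have e3 : g ^ (2 * i) = -1 := by rw [two_mul, _root_.zpow_add, hi]
      have e4 : g ^ (-(2 * i)) = -1 := by rw [_root_.zpow_neg, e3, inv_neg, inv_one]
      rw [e1, e3, e4]; simp
    rw [e, map_mul, map_mul, map_inv]
    exact mul_mem (mul_mem (h4 _ (mul_mem (zpow_mem h.hg i) h.hy) _ h.hy (h.gy_sq i) h.hyy) (inv_mem (h4 _ (zpow_mem h.hg i) _ h.hy hi h.hyy))) (h5 _)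
  have h7 : ∀ a ∈ (Q : Subgroup (SL F)), π (D4 a 1) ∈ T := by
    intro a ha
    obtain ⟨i, rfl | rfl⟩ := h.hcov a ha
    · exact h5 i
    · have e : D4 (g ^ i * y) 1 = D4 (g ^ i) 1 * D4 y 1 := by rw [DD_mul, one_mul]
      rw [e, map_mul]; exact mul_mem (h5 i) h6
  have h8 : ∀ a ∈ (Q : Subgroup (SL F)), π (D4 1 a) ∈ T := by
    intro a ha
    have e : D4 1 a = O4 1 1 * D4 a 1 * O4 1 1 := by rw [OD_mul, OO_mul]; simp
    rw [e, map_mul, map_mul]; exact mul_mem (mul_mem hW (h7 a ha)) hW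
  have h9 : ∀ a ∈ (Q : Subgroup (SL F)), ∀ b ∈ (Q : Subgroup (SL F)), π (D4 a b) ∈ T := by
    intro a ha b hb
    have e : D4 a b = D4 a 1 * D4 1 b := by rw [DD_mul, one_mul, mul_one]
    rw [e, map_mul]; exact mul_mem (h7 a ha) (h8 b hb)
  apply le_antisymm hT
  rw [hS]
  rintro _ ⟨_, ⟨a, ha, b, hb, rfl | rfl⟩, rfl⟩
  · exact h9 a ha b hb
  · have e : O4 a b = D4 a b * O4 1 1 := by rw [DO_mul]; simp
    rw [e, map_mul]; exact mul_mem (h9 a ha b hb) hW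

end

end Cfsg.Agent.H1.P4
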