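import Mathlib
import Cfsg.Agent.H1.PS3

set_option autoImplicit false
set_option linter.style.haveILetI false
set_option linter.unusedVariables false
set_option linter.unusedSectionVars false
set_option linter.unusedSimpArgs false

/-! `PSp(4,F)`: elements of odd order normalizing the Sylow 2-subgroup. -/

namespace Cfsg.Agent.H1.P4

open Matrix Subgroup Cfsg.Agent.H1 Cfsg.Agent.H7.KF

universe u v
variable {F : Type u} [Field F]

/-- iterated conjugation -/
theorem conj_iter {X : Type*} [Group X] {b t d : X} (h1 : b * t * b⁻¹ = d * t) (h2 : b * d = d * b) (n : ℕ) : b ^ n * t * (b ^ n)⁻¹ = d ^ n * t := by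
  induction n with
  | zero => simp
  | succ n ih =>
    have e : b ^ (n + 1) * t * (b ^ (n + 1))⁻¹ = b * (b ^ n * t * (b ^ n)⁻¹) * b⁻¹ := by rw [pow_succ']; group
    have hbd : b * d ^ n = d ^ n * b := (Commute.pow_right (show Commute b d from h2) n).eq
    rw [e, ih]
    calc b * (d ^ n * t) * b⁻¹ = (b * d ^ n) * t * b⁻¹ := by group
      _ = d ^ n * (b * t * b⁻¹) := by rw [hbd]; group
      _ = d ^ (n + 1) * t := by rw [h1, pow_succ, mul_assoc]

theorem odd_comm_of {X : Type*} [Group X] {b t d : X} {k : ℕ} (hk : Odd k) (hb : b ^ k = 1) (h1 : b * t * b⁻¹ = d * t) (h2 : b * d = d * b) {n : ℕ} (hd : d ^ 2 ^ n = 1) : b * t = t * b := by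
  have h3 := conj_iter h1 h2 k
  rw [hb] at h3
  have h5 : d ^ k = 1 := by
    have h4 : t = d ^ k * t := by simpa using h3
    exact right_eq_mul.mp h4
  have h6 : orderOf d ∣ Nat.gcd k (2 ^ n) := Nat.dvd_gcd (orderOf_dvd_of_pow_eq_one h5) (orderOf_dvd_of_pow_eq_one hd)
  have h7 : Nat.gcd k (2 ^ n) = 1 := Nat.Coprime.pow_right _ (Nat.coprime_two_right.mpr hk)
  rw [h7] at h6
  have h8 : d = 1 := orderOf_eq_one_iff.mp (Nat.dvd_one.mp h6)
  rw [h8, one_mul] at h1
  exact mul_inv_eq_iff_eq_mul.mp h1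

/-- an odd order element normalizing a cyclic `2`-group centralizes it -/
theorem odd_comm_cyclic {X : Type*} [Group X] {b x : X} {k n : ℕ} (hk : Odd k) (hb : b ^ k = 1) (hx : x ^ 2 ^ n = 1) {i : ℤ} (h : b * x * b⁻¹ = x ^ i) : b * x = x * b := by
  -- induct: b commutes with x ^ 2^j for j downto 0
  have hall : ∀ j : ℕ, j ≤ n → b * x ^ 2 ^ (n - j) = x ^ 2 ^ (n - j) * b := by
    intro j
    induction j with
    | zero => intro _; rw [Nat.sub_zero, hx, mul_one, one_mul]
    | succ j ih =>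
      intro hj
      have h1 := ih (by omega)
      have e0 : n - j = (n - (j + 1)) + 1 := by omega
      rw [e0] at h1
      generalize n - (j + 1) = r at h1 ⊢
      -- i is odd or x = 1
      by_cases hi : Odd i
      · obtain ⟨c, hc⟩ := hi
        have h2 : b * x ^ 2 ^ r * b⁻¹ = (x ^ 2 ^ (r + 1)) ^ c * x ^ 2 ^ r := by
          have e1 : b * x ^ 2 ^ r * b⁻¹ = (b * x * b⁻¹) ^ 2 ^ r := by rw [conj_pow]
          rw [e1, h, ← zpow_natCast, ← zpow_natCast, ← zpow_natCast, ← _root_.zpow_mul, ← _root_.zpow_mul, ← _root_.zpow_add]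
          congr 1
          rw [hc]; push_cast; ring
        have h3 : b * (x ^ 2 ^ (r + 1)) ^ c = (x ^ 2 ^ (r + 1)) ^ c * b := (Commute.zpow_right (show Commute b (x ^ 2 ^ (r + 1)) from h1) c).eq
        refine odd_comm_of hk hb h2 h3 (n := n) ?_
        rw [← zpow_natCast, ← zpow_natCast, ← _root_.zpow_mul, ← _root_.zpow_mul]
        have e2 : ((2 ^ (r + 1) : ℕ) : ℤ) * c * ((2 ^ n : ℕ) : ℤ) = ((2 ^ n : ℕ) : ℤ) * (((2 ^ (r + 1) : ℕ) : ℤ) * c) := by ring
        rw [mul_assoc] at e2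
        rw [show ((2 ^ (r + 1) : ℕ) : ℤ) * (c * ((2 ^ n : ℕ) : ℤ)) = ((2 ^ n : ℕ) : ℤ) * (((2 ^ (r + 1) : ℕ) : ℤ) * c) by ring, _root_.zpow_mul, zpow_natCast, hx, _root_.one_zpow]
      · -- then x is trivial
        have hie : Even i := Int.not_odd_iff_even.mp hi
        obtain ⟨c, hc⟩ := hie
        have hone : ∀ s : ℕ, s ≤ n → x ^ 2 ^ (n - s) = 1 := by
          intro s
          induction s with
          | zero => intro _; rw [Nat.sub_zero]; exact hx
          | succ s ihs =>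
            intro hs
            have h4 := ihs (by omega)
            have e5 : n - s = (n - (s + 1)) + 1 := by omega
            rw [e5] at h4
            generalize n - (s + 1) = q at h4 ⊢
            have h6 : b * x ^ 2 ^ q * b⁻¹ = 1 := by
              rw [← conj_pow, h, ← zpow_natCast, ← _root_.zpow_mul, hc]
              rw [show (c + c) * ((2 ^ q : ℕ) : ℤ) = ((2 ^ (q + 1) : ℕ) : ℤ) * c by push_cast; ring, _root_.zpow_mul, zpow_natCast, h4, _root_.one_zpow]
            have h7 : x ^ 2 ^ q = b⁻¹ * (b * x ^ 2 ^ q * b⁻¹) * b := by group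
            rw [h7, h6]; group
        have hx1 : x = 1 := by simpa using hone n le_rfl
        rw [hx1]; simp
  simpa using hall n le_rfl

section
variable {Q : Subgroup (SL F)} {m : ℕ} {g y : SL F}

theorem zpow_of_sq {g : SL F} (hg : g * g = -1) (k : ℤ) : (Even k ∧ (g ^ k = 1 ∨ g ^ k = -1)) ∨ (Odd k ∧ (g ^ k = g ∨ g ^ k = -g)) := by
  have hev : ∀ c : ℤ, g ^ (c + c) = 1 ∨ g ^ (c + c) = -1 := by
    intro c
    have e : g ^ (c + c) = (-1 : SL F) ^ c := by
      rw [← hg, ← two_mul, _root_.zpow_mul, zpow_two]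
    rw [e]
    rcases Int.even_or_odd c with ⟨d, hd⟩ | ⟨d, hd⟩
    · left; rw [hd, ← two_mul, _root_.zpow_mul, zpow_two, neg_mul_neg, one_mul, _root_.one_zpow]
    · right; rw [hd, _root_.zpow_add, _root_.zpow_mul, zpow_two, neg_mul_neg, one_mul, _root_.one_zpow, one_mul, zpow_one]
  rcases Int.even_or_odd k with ⟨c, hc⟩ | ⟨c, hc⟩
  · left; exact ⟨⟨c, hc⟩, by rw [hc]; exact hev c⟩
  · right
    refine ⟨⟨c, hc⟩, ?_⟩
    rw [hc, _root_.zpow_add, two_mul, zpow_one]
    rcases hev c with h | h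
    · left; rw [h, one_mul]
    · right; rw [h, neg_one_mul]

/-- **elements of odd order normalizing a quaternion group** -/
theorem odd_norm (h : QQ Q m g y) (h2 : (2 : F) ≠ 0) {b : SL F} (hbQ : ∀ x ∈ Q, b * x * b⁻¹ ∈ Q) {k : ℕ} (hk : Odd k) (hb : b ^ k = 1) :
    (∀ x ∈ Q, b * x = x * b) ∨ (g * g = -1 ∧ ∃ y' ∈ Q, y' * g = g⁻¹ * y' ∧ y' * y' = -1 ∧ (∀ w ∈ Q, ∃ i : ℤ, w = g ^ i ∨ w = g ^ i * y') ∧ b * g * b⁻¹ = y' ∧ (b * y' * b⁻¹ = g * y' ∨ b * y' * b⁻¹ = -(g * y'))) := by
  have hg2 : g ^ 2 ^ (m + 1) = 1 := by rw [← h.hord]; exact pow_orderOf_eq_one g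
  have hn1 := neg_one_ne (F := F) h2
  have hyg' : y * g ≠ g * y := by
    intro hc
    rw [h.hyg] at hc
    have h1 := mul_right_cancel hc
    have h3 : g * g = 1 := by nth_rewrite 1 [← h1]; group
    have h4 : orderOf g ∣ 2 := orderOf_dvd_of_pow_eq_one (by rw [pow_two]; exact h3)
    rw [h.hord] at h4
    have := Nat.le_of_dvd (by norm_num) h4
    obtain ⟨r, hr⟩ : ∃ r, m = r + 1 := ⟨m - 1, by have := h.hm; omega⟩
    rw [hr] at this
    have h5 : 4 ≤ 2 ^ (r + 1 + 1) := by
      calc 4 = 2 ^ 2 := rfl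
        _ ≤ 2 ^ (r + 1 + 1) := Nat.pow_le_pow_right (by norm_num) (by omega)
    omega
  -- if b commutes with g then b centralizes Q
  have hcent : b * g = g * b → ∀ x ∈ Q, b * x = x * b := by
    intro hbg
    have hbgi : ∀ i : ℤ, b * g ^ i = g ^ i * b := fun i => (Commute.zpow_right (show Commute b g from hbg) i).eq
    have hby : b * y = y * b := by
      obtain ⟨j, hj | hj⟩ := h.hcov _ (hbQ y h.hy)
      · exfalso
        have h3 : y = g ^ j := by
          have : y = b⁻¹ * (b * y * b⁻¹) * b := by group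
          rw [this, hj, mul_assoc, ← hbgi]; group
        exact hyg' (by rw [h3]; group)
      · refine odd_comm_of hk hb hj (hbgi j) (n := m + 1) ?_
        rw [← zpow_natCast, ← _root_.zpow_mul, mul_comm, _root_.zpow_mul, zpow_natCast, hg2, _root_.one_zpow]
    intro x hx
    obtain ⟨i, rfl | rfl⟩ := h.hcov x hx
    · exact hbgi i
    · rw [← mul_assoc, hbgi, mul_assoc, hby, mul_assoc]
  by_cases hbg : b * g = g * b
  · exact Or.inl (hcent hbg)
  right
  -- b g b⁻¹ is not a power of g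
  obtain ⟨i, hi | hi⟩ := h.hcov _ (hbQ g h.hg)
  · exact absurd (odd_comm_cyclic hk hb hg2 hi) hbg
  -- so g has order four
  have hgg : g * g = -1 := by
    have h3 : (b * g * b⁻¹) * (b * g * b⁻¹) = -1 := by rw [hi]; exact h.gy_sq i
    have h4 : g * g = b⁻¹ * ((b * g * b⁻¹) * (b * g * b⁻¹)) * b := by group
    rw [h4, h3]; simp
  have hgi : g⁻¹ = -g := by
    apply inv_eq_of_mul_eq_one_right
    rw [mul_neg, hgg, neg_neg]
  obtain ⟨y', hy'⟩ : ∃ y', y' = g ^ i * y := ⟨_, rfl⟩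
  have hy'Q : y' ∈ Q := by rw [hy']; exact mul_mem (zpow_mem h.hg i) h.hy
  have hy'g : y' * g = g⁻¹ * y' := by rw [hy', mul_assoc, h.hyg]; group
  have hy'y : y' * y' = -1 := by rw [hy']; exact h.gy_sq i
  have hcov' : ∀ w ∈ Q, ∃ j : ℤ, w = g ^ j ∨ w = g ^ j * y' := by
    intro w hw
    obtain ⟨j, hj | hj⟩ := h.hcov w hw
    · exact ⟨j, Or.inl hj⟩
    · refine ⟨j - i, Or.inr ?_⟩
      rw [hj, hy', ← mul_assoc, ← _root_.zpow_add]; congr 2; ring
  rw [← hy'] at hi
  have hnc : y' * g ≠ g * y' := by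
    intro hc
    rw [hy'g] at hc
    have h1 := mul_right_cancel hc
    rw [hgi] at h1
    exact ne_neg h2 g h1.symm
  refine ⟨hgg, y', hy'Q, hy'g, hy'y, hcov', hi, ?_⟩
  have hb4 : ∀ r : ℕ, b ^ 2 ^ r * g = g * b ^ 2 ^ r → b * g = g * b := by
    intro r hr
    have hc : Nat.Coprime (2 ^ r) k := Nat.Coprime.pow_left _ (Nat.coprime_two_left.mpr hk)
    have h5 : IsCoprime ((2 ^ r : ℕ) : ℤ) (k : ℤ) := Nat.isCoprime_iff_coprime.mpr hc
    obtain ⟨s, t, hst⟩ := h5
    have e : b = (b ^ 2 ^ r) ^ s := by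
      have e1 : b = b ^ (s * ((2 ^ r : ℕ) : ℤ) + t * (k : ℤ)) := by rw [hst, zpow_one]
      nth_rewrite 1 [e1]
      rw [_root_.zpow_add, mul_comm t, _root_.zpow_mul b (k : ℤ), zpow_natCast, hb, _root_.one_zpow, mul_one, mul_comm s, _root_.zpow_mul, zpow_natCast]
    rw [e]
    exact (Commute.zpow_left (show Commute (b ^ 2 ^ r) g from hr) s).eq
  obtain ⟨j, hj | hj⟩ := hcov' _ (hbQ y' hy'Q)
  · exfalso
    rcases zpow_of_sq hgg j with ⟨-, h3 | h3⟩ | ⟨-, h3 | h3⟩
    · have h4 : y' = 1 := by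
        have e : y' = b⁻¹ * (b * y' * b⁻¹) * b := by group
        rw [e, hj, h3]; simp
      exact hnc (by rw [h4]; simp)
    · have h4 : y' = -1 := by
        have e : y' = b⁻¹ * (b * y' * b⁻¹) * b := by group
        rw [e, hj, h3]; simp
      exact hnc (by rw [h4]; simp)
    · apply hbg
      apply hb4 1
      have e : b ^ 2 ^ 1 * g * (b ^ 2 ^ 1)⁻¹ = b * (b * g * b⁻¹) * b⁻¹ := by rw [pow_one, pow_two]; group
      exact mul_inv_eq_iff_eq_mul.mp (e.trans (by rw [hi, hj, h3]))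
    · apply hbg
      apply hb4 2
      have e : b ^ 2 ^ 2 * g * (b ^ 2 ^ 2)⁻¹ = b * (b * (b * (b * g * b⁻¹) * b⁻¹) * b⁻¹) * b⁻¹ := by
        rw [show (2 ^ 2 : ℕ) = 4 from rfl, pow_succ, pow_succ, pow_two]; group
      have e2 : b * (-g) * b⁻¹ = -y' := by rw [mul_neg, neg_mul, hi]
      have e3 : b * (-y') * b⁻¹ = g := by rw [mul_neg, neg_mul, hj, h3, neg_neg]
      exact mul_inv_eq_iff_eq_mul.mp (e.trans (by rw [hi, hj, h3, e2, e3]))
  · rcases zpow_of_sq hgg j with ⟨-, h3⟩ | ⟨-, h3⟩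
    · exfalso
      have h4 : b * y' * b⁻¹ = y' ∨ b * y' * b⁻¹ = -y' := by
        rcases h3 with h3 | h3
        · left; rw [hj, h3, one_mul]
        · right; rw [hj, h3, neg_one_mul]
      have h5 : y' = g ∨ y' = -g := by
        rcases h4 with h4 | h4
        · left
          rw [← hi] at h4
          have := mul_right_cancel h4
          have h6 := mul_left_cancel this
          rw [hi] at h6; exact h6
        · right
          have e : b * (-y') * b⁻¹ = y' := by rw [mul_neg, neg_mul, h4, neg_neg]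
          rw [← hi] at e
          have := mul_right_cancel e
          have h6 := mul_left_cancel this
          rw [hi] at h6
          rw [← h6, neg_neg]
      rcases h5 with h5 | h5
      · exact hnc (by rw [h5])
      · exact hnc (by rw [h5]; simp)
    · rcases h3 with h3 | h3
      · left; rw [hj, h3]
      · right; rw [hj, h3, neg_mul]

end

end Cfsg.Agent.H1.P4
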