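import Mathlib
import Cfsg.Agent.H1.PS4

set_option autoImplicit false
set_option linter.style.haveILetI false
set_option linter.unusedVariables false
set_option linter.unusedSectionVars false
set_option linter.unusedSimpArgs false

/-! `PSp(4,F)`: the subgroup `2^{1+4}` and the final assembly. -/

namespace Cfsg.Agent.H1.P4

open Matrix Subgroup Cfsg.Agent.H1 Cfsg.Agent.H7.KF

universe u v
variable {F : Type u} [Field F]

/-- commuting up to sign -/
def cp (a b : SL F) : Prop := a * b = b * a ∨ a * b = -(b * a)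

theorem cp_symm {a b : SL F} (h : cp a b) : cp b a := by
  rcases h with h | h
  · exact Or.inl h.symm
  · right; rw [h, neg_neg]

/-- elements commuting up to sign with `a` -/
def cpS (a : SL F) : Subgroup (SL F) where
  carrier := {b | cp a b}
  mul_mem' := by
    intro b c hb hc
    rcases hb with hb | hb <;> rcases hc with hc | hc
    · left; rw [← mul_assoc, hb, mul_assoc, hc, mul_assoc]
    · right; rw [← mul_assoc, hb, mul_assoc, hc, mul_neg, mul_assoc]
    · right; rw [← mul_assoc, hb, neg_mul, mul_assoc, hc, mul_assoc]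
    · left; rw [← mul_assoc, hb, neg_mul, mul_assoc, hc, mul_neg, neg_neg, mul_assoc]
  one_mem' := Or.inl (by simp)
  inv_mem' := by
    intro b hb
    rcases hb with hb | hb
    · left
      calc a * b⁻¹ = b⁻¹ * (b * a) * b⁻¹ := by group
        _ = b⁻¹ * a := by rw [← hb]; group
    · right
      have h1 : b * a = -(a * b) := by rw [hb, neg_neg]
      calc a * b⁻¹ = b⁻¹ * (b * a) * b⁻¹ := by group
        _ = -(b⁻¹ * a) := by rw [h1, mul_neg, neg_mul]; congr 1; group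

theorem mem_cpS {a b : SL F} : b ∈ cpS a ↔ cp a b := Iff.rfl

/-- quaternion data for `Q_8` -/
structure Q8D (Q : Subgroup (SL F)) (g y : SL F) : Prop where
  hg : g ∈ Q
  hy : y ∈ Q
  hyg : y * g = g⁻¹ * y
  hyy : y * y = -1
  hgg : g * g = -1
  hcov : ∀ w ∈ Q, ∃ i : ℤ, w = g ^ i ∨ w = g ^ i * y

namespace Q8D
variable {Q : Subgroup (SL F)} {g y : SL F} (h : Q8D Q g y)
include h

theorem ginv : g⁻¹ = -g := by
  apply inv_eq_of_mul_eq_one_right
  rw [mul_neg, h.hgg, neg_neg]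

theorem anti : y * g = -(g * y) := by rw [h.hyg, h.ginv, neg_mul]

theorem neg_mem : (-1 : SL F) ∈ Q := by rw [← h.hyy]; exact mul_mem h.hy h.hy

theorem neg_mem' {a : SL F} (ha : a ∈ Q) : -a ∈ Q := by
  rw [← neg_one_mul]; exact mul_mem h.neg_mem ha

theorem cpQ {a b : SL F} (ha : a ∈ Q) (hb : b ∈ Q) : cp a b := by
  have hgg : cp g g := Or.inl rfl
  have hyy : cp y y := Or.inl rfl
  have hyg : cp y g := Or.inr h.anti
  have hQ : ∀ t : SL F, cp t g → cp t y → ∀ b ∈ Q, cp t b := by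
    intro t h1 h2 b hb
    obtain ⟨i, rfl | rfl⟩ := h.hcov b hb
    · exact mem_cpS.mp (zpow_mem (mem_cpS.mpr h1) i)
    · exact mem_cpS.mp (mul_mem (zpow_mem (mem_cpS.mpr h1) i) (mem_cpS.mpr h2))
  exact hQ a (cp_symm (hQ g hgg (cp_symm hyg) a ha)) (cp_symm (hQ y hyg hyy a ha)) b hb

theorem sqQ {a : SL F} (ha : a ∈ Q) : a * a = 1 ∨ a * a = -1 := by
  obtain ⟨i, rfl | rfl⟩ := h.hcov a ha
  · rcases zpow_of_sq h.hgg i with ⟨-, h1 | h1⟩ | ⟨-, h1 | h1⟩ <;> rw [h1]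
    · left; simp
    · left; simp
    · right; exact h.hgg
    · right; rw [neg_mul_neg]; exact h.hgg
  · right
    have h1 : y * g ^ i = g ^ (-i) * y := by
      have h1 : y * g * y⁻¹ = g⁻¹ := by rw [h.hyg]; group
      have h2 : y * g ^ i * y⁻¹ = g ^ (-i) := by rw [← conj_zpow, h1, _root_.inv_zpow, _root_.zpow_neg]
      rw [← h2]; group
    have e : (g ^ i * y) * (g ^ i * y) = g ^ i * (y * g ^ i) * y := by group
    rw [e, h1]
    have e2 : g ^ i * (g ^ (-i) * y) * y = y * y := by group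
    rw [e2, h.hyy]

end Q8D

theorem pm_mul {e f : SL F} (he : e = 1 ∨ e = -1) (hf : f = 1 ∨ f = -1) : e * f = 1 ∨ e * f = -1 := by
  rcases he with rfl | rfl <;> rcases hf with rfl | rfl <;> simp

/-- the preimage of the elementary abelian group of order 16 -/
def RR4 (Q : Subgroup (SL F)) (hQ : (-1 : SL F) ∈ Q) : Subgroup (symplecticGroup (Fin 2) F) where
  carrier := {r | ∃ a ∈ Q, ∃ e : SL F, (e = 1 ∨ e = -1) ∧ (r = D4 a (e * a) ∨ r = O4 a (e * a))}
  mul_mem' := by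
    have hm : ∀ e : SL F, (e = 1 ∨ e = -1) → e ∈ Q := by
      rintro e (rfl | rfl)
      · exact one_mem _
      · exact hQ
    rintro _ _ ⟨a, ha, e, he, rfl | rfl⟩ ⟨c, hc, f, hf, rfl | rfl⟩
    · refine ⟨a * c, mul_mem ha hc, e * f, pm_mul he hf, Or.inl ?_⟩
      rw [DD_mul]; rcases he with rfl | rfl <;> rcases hf with rfl | rfl <;> simp
    · refine ⟨a * c, mul_mem ha hc, e * f, pm_mul he hf, Or.inr ?_⟩
      rw [DO_mul]; rcases he with rfl | rfl <;> rcases hf with rfl | rfl <;> simp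
    · refine ⟨f * (a * c), mul_mem (hm f hf) (mul_mem ha hc), e * f, pm_mul he hf, Or.inr ?_⟩
      rw [OD_mul]; rcases he with rfl | rfl <;> rcases hf with rfl | rfl <;> simp
    · refine ⟨f * (a * c), mul_mem (hm f hf) (mul_mem ha hc), e * f, pm_mul he hf, Or.inl ?_⟩
      rw [OO_mul]; rcases he with rfl | rfl <;> rcases hf with rfl | rfl <;> simp
  one_mem' := ⟨1, one_mem _, 1, Or.inl rfl, Or.inl (by rw [mul_one, D_one])⟩
  inv_mem' := by
    have hm : ∀ e : SL F, (e = 1 ∨ e = -1) → e ∈ Q := by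
      rintro e (rfl | rfl)
      · exact one_mem _
      · exact hQ
    rintro _ ⟨a, ha, e, he, rfl | rfl⟩
    · refine ⟨a⁻¹, inv_mem ha, e, he, Or.inl ?_⟩
      rw [D_inv]; rcases he with rfl | rfl <;> simp [inv_neg]
    · refine ⟨e * a⁻¹, mul_mem (hm e he) (inv_mem ha), e, he, Or.inr ?_⟩
      rw [O_inv]; rcases he with rfl | rfl <;> simp [inv_neg]

theorem RR_le {Q : Subgroup (SL F)} {hQ : (-1 : SL F) ∈ Q} : RR4 Q hQ ≤ SS Q := by
  have hm : ∀ e : SL F, (e = 1 ∨ e = -1) → e ∈ Q := by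
    rintro e (rfl | rfl)
    · exact one_mem _
    · exact hQ
  rintro _ ⟨a, ha, e, he, rfl | rfl⟩
  · exact D_mem.mpr ⟨ha, mul_mem (hm e he) ha⟩
  · exact O_mem.mpr ⟨ha, mul_mem (hm e he) ha⟩

theorem normal_of_conj {X : Type*} [Group X] [Finite X] {R : Subgroup X} {t : X} (h : ∀ r ∈ R, t * r * t⁻¹ ∈ R) : t ∈ normalizer (R : Set X) :=
  mem_normalizer_of_conj_mem h

/-- `S` normalizes `R` -/
theorem SS_norm_RR [Finite F] {Q : Subgroup (SL F)} {g y : SL F} (h : Q8D Q g y) {s : symplecticGroup (Fin 2) F} (hs : s ∈ SS Q) :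
    s ∈ normalizer ((RR4 Q h.neg_mem : Subgroup (symplecticGroup (Fin 2) F)) : Set (symplecticGroup (Fin 2) F)) := by
  have hO : O4 1 1 ∈ normalizer ((RR4 Q h.neg_mem : Subgroup (symplecticGroup (Fin 2) F)) : Set (symplecticGroup (Fin 2) F)) :=
    le_normalizer ⟨1, one_mem _, 1, Or.inl rfl, Or.inr (by rw [mul_one])⟩
  have hDx : ∀ x ∈ Q, D4 x x ∈ normalizer ((RR4 Q h.neg_mem : Subgroup (symplecticGroup (Fin 2) F)) : Set (symplecticGroup (Fin 2) F)) := by
    intro x hx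
    exact le_normalizer ⟨x, hx, 1, Or.inl rfl, Or.inl (by rw [one_mul])⟩
  have hz : ∀ z ∈ Q, D4 1 z ∈ normalizer ((RR4 Q h.neg_mem : Subgroup (symplecticGroup (Fin 2) F)) : Set (symplecticGroup (Fin 2) F)) := by
    intro z hz
    apply normal_of_conj
    rintro _ ⟨a, ha, e, he, rfl | rfl⟩
    · rcases h.cpQ hz ha with h1 | h1
      · refine ⟨a, ha, e, he, Or.inl ?_⟩
        have h3 : z * a * z⁻¹ = a := by rw [h1]; group
        rw [D_inv, DD_mul, DD_mul]
        rcases he with rfl | rfl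
        · simp only [one_mul, inv_one, mul_one]; rw [h3]
        · simp only [one_mul, inv_one, mul_one, neg_mul, mul_neg]; rw [h3]
      · refine ⟨a, ha, -e, by rcases he with rfl | rfl <;> simp, Or.inl ?_⟩
        have h3 : z * a * z⁻¹ = -a := by rw [h1, neg_mul]; congr 1; group
        rw [D_inv, DD_mul, DD_mul]
        rcases he with rfl | rfl
        · simp only [one_mul, inv_one, mul_one, neg_mul]; rw [h3]
        · simp only [one_mul, inv_one, mul_one, neg_mul, mul_neg, neg_neg]; rw [h3, neg_neg]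
    · -- off-diagonal
      have hzi : z = z⁻¹ ∨ z = -z⁻¹ := by
        rcases h.sqQ hz with h1 | h1
        · left; exact eq_inv_of_mul_eq_one_left h1
        · right
          have : z * (-z) = 1 := by rw [mul_neg, h1, neg_neg]
          have h3 := eq_inv_of_mul_eq_one_right this
          rw [← h3, neg_neg]
      have h4 : z * a = a * z⁻¹ ∨ z * a = -(a * z⁻¹) := by
        rcases h.cpQ hz ha with h1 | h1 <;> rcases hzi with h3 | h3
        · left; rw [h1]; nth_rewrite 1 [h3]; rfl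
        · right; rw [h1]; nth_rewrite 1 [h3]; rw [mul_neg]
        · right; rw [h1]; nth_rewrite 1 [h3]; rfl
        · left; rw [h1]; nth_rewrite 1 [h3]; rw [mul_neg, neg_neg]
      have hin : a * z⁻¹ ∈ Q := mul_mem ha (inv_mem hz)
      rcases h4 with h4 | h4
      · refine ⟨a * z⁻¹, hin, e, he, Or.inr ?_⟩
        rw [D_inv, DO_mul, OD_mul]
        rcases he with rfl | rfl
        · simp only [one_mul, inv_one, mul_one]; rw [h4]
        · simp only [one_mul, inv_one, mul_one, neg_mul, mul_neg]; rw [h4]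
      · refine ⟨a * z⁻¹, hin, -e, by rcases he with rfl | rfl <;> simp, Or.inr ?_⟩
        rw [D_inv, DO_mul, OD_mul]
        rcases he with rfl | rfl
        · simp only [one_mul, inv_one, mul_one, neg_mul]; rw [h4]
        · simp only [one_mul, inv_one, mul_one, neg_mul, mul_neg, neg_neg]; rw [h4, neg_neg]
  have hD : ∀ x ∈ Q, ∀ z ∈ Q, D4 x z ∈ normalizer ((RR4 Q h.neg_mem : Subgroup (symplecticGroup (Fin 2) F)) : Set (symplecticGroup (Fin 2) F)) := by
    intro x hx z hz'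
    have e : D4 x z = D4 x x * D4 1 (x⁻¹ * z) := by rw [DD_mul, mul_one, mul_inv_cancel_left]
    rw [e]; exact mul_mem (hDx x hx) (hz _ (mul_mem (inv_mem hx) hz'))
  obtain ⟨a, ha, b, hb, rfl | rfl⟩ := hs
  · exact hD a ha b hb
  · have e : O4 a b = D4 a b * O4 1 1 := by rw [DO_mul, mul_one, mul_one]
    rw [e]; exact mul_mem (hD a ha b hb) hO

/-- half of `1 + g` -/
def NN (g : SL F) : Matrix (Fin 2) (Fin 2) F := (2⁻¹ : F) • (1 + g.1)

theorem NN_adj (h2 : (2 : F) ≠ 0) {g : SL F} (hg : g * g = -1) : NN g * adjugate (NN g) = (2⁻¹ : F) • 1 := by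
  rw [Matrix.mul_adjugate]
  congr 1
  have ht : g.1 0 0 + g.1 1 1 = 0 := (sq_iff h2 g).mp hg
  have hd : g.1 0 0 * g.1 1 1 - g.1 0 1 * g.1 1 0 = 1 := by rw [← det_fin_two]; exact g.2
  unfold NN
  rw [det_fin_two]
  simp only [Matrix.smul_apply, Matrix.add_apply, Matrix.one_apply, smul_eq_mul]
  simp
  field_simp
  linear_combination ht + hd

theorem adj_neg (A : Matrix (Fin 2) (Fin 2) F) : adjugate (-A) = -adjugate A := by
  rw [Matrix.adjugate_fin_two, Matrix.adjugate_fin_two]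
  ext i j
  fin_cases i <;> fin_cases j <;> simp

theorem half_add (h2 : (2 : F) ≠ 0) : (2⁻¹ : F) • (1 : Matrix (Fin 2) (Fin 2) F) + (2⁻¹ : F) • 1 = 1 := by
  rw [← add_smul]
  have : (2⁻¹ : F) + 2⁻¹ = 1 := by field_simp; norm_num
  rw [this, one_smul]

/-- the 2-element `(1+I)(1+W)/2` -/
def XX (h2 : (2 : F) ≠ 0) (g : SL F) (hg : g * g = -1) : symplecticGroup (Fin 2) F :=
  ⟨m4 (NN g) (NN g) (-NN g) (NN g), m4_mem (by rw [NN_adj h2 hg, half_add h2]) (by rw [adj_neg, neg_mul_neg, NN_adj h2 hg, half_add h2])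
    (by rw [adj_neg, mul_neg, NN_adj h2 hg, neg_add_cancel]) (by rw [neg_mul, NN_adj h2 hg, neg_add_cancel])⟩

theorem NN_sq (h2 : (2 : F) ≠ 0) {g : SL F} (hg : g * g = -1) : NN g * NN g + NN g * NN g = g.1 := by
  have hg' : g.1 * g.1 = -1 := by
    have := congrArg Subtype.val hg
    exact this
  unfold NN
  rw [Matrix.smul_mul, Matrix.mul_smul, smul_smul, ← add_smul, add_mul, mul_add, mul_add, hg', one_mul, mul_one, one_mul]
  have e : (1 : Matrix (Fin 2) (Fin 2) F) + g.1 + (g.1 + -1) = (2 : F) • g.1 := by rw [two_smul]; abel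
  rw [e, smul_smul]
  have e2 : (2⁻¹ * 2⁻¹ + 2⁻¹ * 2⁻¹) * 2 = (1 : F) := by field_simp; norm_num
  rw [e2, one_smul]

theorem XX_sq (h2 : (2 : F) ≠ 0) (g : SL F) (hg : g * g = -1) : XX h2 g hg * XX h2 g hg = O4 g (-g) := by
  apply Subtype.ext
  change m4 (NN g) (NN g) (-NN g) (NN g) * m4 (NN g) (NN g) (-NN g) (NN g) = m4 0 g.1 (-g.1) 0
  rw [m4_mul]
  have h1 := NN_sq h2 hg
  have h3 : -NN g * NN g + NN g * -NN g = -g.1 := by rw [neg_mul, mul_neg, ← h1]; abel
  rw [h1, h3]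
  simp

theorem XX_pow (h2 : (2 : F) ≠ 0) (g : SL F) (hg : g * g = -1) : (XX h2 g hg) ^ 2 ^ 2 = 1 := by
  rw [show (2 ^ 2 : ℕ) = 2 * 2 from rfl, pow_mul, pow_two, pow_two, XX_sq, OO_mul, ← D_one]
  congr 1
  · rw [mul_neg, hg, neg_neg]
  · rw [neg_mul, hg, neg_neg]

theorem NN_comm (h2 : (2 : F) ≠ 0) {Q : Subgroup (SL F)} {g y : SL F} (h : Q8D Q g y) {t : SL F} (ht : t ∈ Q) (htt : t * t = -1) {a : SL F} (ha : a ∈ Q) : ∃ c ∈ Q, NN t * a.1 = c.1 * NN t := by
  rcases h.cpQ ht ha with h1 | h1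
  · refine ⟨a, ha, ?_⟩
    have h1' : t.1 * a.1 = a.1 * t.1 := congrArg Subtype.val h1
    unfold NN
    rw [Matrix.smul_mul, Matrix.mul_smul, add_mul, mul_add, h1', one_mul, mul_one]
  · refine ⟨t * a, mul_mem ht ha, ?_⟩
    have h1' : t.1 * a.1 = -(a.1 * t.1) := congrArg Subtype.val h1
    have h3 : t.1 * t.1 = -1 := congrArg Subtype.val htt
    change NN t * a.1 = (t.1 * a.1) * NN t
    unfold NN
    rw [Matrix.smul_mul, Matrix.mul_smul, add_mul, mul_add, one_mul, mul_one]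
    have h4 : t.1 * a.1 * t.1 = a.1 := by rw [h1', neg_mul, Matrix.mul_assoc, h3]; simp
    rw [h4, add_comm]

theorem XX_norm [Finite F] (h2 : (2 : F) ≠ 0) {Q : Subgroup (SL F)} {g y : SL F} (h : Q8D Q g y) {t : SL F} (ht : t ∈ Q) (htt : t * t = -1) :
    XX h2 t htt ∈ normalizer ((RR4 Q h.neg_mem : Subgroup (symplecticGroup (Fin 2) F)) : Set (symplecticGroup (Fin 2) F)) := by
  apply normal_of_conj
  rintro _ ⟨a, ha, e, he, rfl | rfl⟩
  · obtain ⟨c, hc, hac⟩ := NN_comm h2 h ht htt ha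
    rcases he with rfl | rfl
    · have e1 : XX h2 t htt * D4 a (1 * a) * (XX h2 t htt)⁻¹ = D4 c (1 * c) := by
        rw [mul_inv_eq_iff_eq_mul, one_mul, one_mul]
        apply Subtype.ext
        change m4 (NN t) (NN t) (-NN t) (NN t) * m4 a.1 0 0 a.1 = m4 c.1 0 0 c.1 * m4 (NN t) (NN t) (-NN t) (NN t)
        rw [m4_mul, m4_mul]
        simp [hac]
      rw [e1]; exact ⟨c, hc, 1, Or.inl rfl, Or.inl rfl⟩
    · have e1 : XX h2 t htt * D4 a (-1 * a) * (XX h2 t htt)⁻¹ = O4 (-c) (1 * (-c)) := by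
        rw [mul_inv_eq_iff_eq_mul, neg_one_mul, one_mul]
        apply Subtype.ext
        change m4 (NN t) (NN t) (-NN t) (NN t) * m4 a.1 0 0 (-a.1) = m4 0 (-c.1) (-c.1) 0 * m4 (NN t) (NN t) (-NN t) (NN t)
        rw [m4_mul, m4_mul]
        simp [hac]
      rw [e1]; exact ⟨-c, h.neg_mem' hc, 1, Or.inl rfl, Or.inr rfl⟩
  · obtain ⟨c, hc, hac⟩ := NN_comm h2 h ht htt ha
    rcases he with rfl | rfl
    · have e1 : XX h2 t htt * O4 a (1 * a) * (XX h2 t htt)⁻¹ = D4 c (-1 * c) := by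
        rw [mul_inv_eq_iff_eq_mul, one_mul, neg_one_mul]
        apply Subtype.ext
        change m4 (NN t) (NN t) (-NN t) (NN t) * m4 0 a.1 a.1 0 = m4 c.1 0 0 (-c.1) * m4 (NN t) (NN t) (-NN t) (NN t)
        rw [m4_mul, m4_mul]
        simp [hac]
      rw [e1]; exact ⟨c, hc, -1, Or.inr rfl, Or.inl rfl⟩
    · have e1 : XX h2 t htt * O4 a (-1 * a) * (XX h2 t htt)⁻¹ = O4 c (-1 * c) := by
        rw [mul_inv_eq_iff_eq_mul, neg_one_mul, neg_one_mul]
        apply Subtype.ext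
        change m4 (NN t) (NN t) (-NN t) (NN t) * m4 0 a.1 (-a.1) 0 = m4 0 c.1 (-c.1) 0 * m4 (NN t) (NN t) (-NN t) (NN t)
        rw [m4_mul, m4_mul]
        simp [hac]
      rw [e1]; exact ⟨c, hc, -1, Or.inr rfl, Or.inr rfl⟩

/-- the Hurwitz element -/
theorem exists_H (h2 : (2 : F) ≠ 0) {Q : Subgroup (SL F)} {g y : SL F} (h : Q8D Q g y) :
    ∃ H : SL F, D4 H H = XX h2 g h.hgg * (O4 1 1 * XX h2 y h.hyy * O4 1 1) ∧ H * g = y * H ∧ H * y = (g * y) * H := by
  have hZ : (XX h2 g h.hgg * (O4 1 1 * XX h2 y h.hyy * O4 1 1)).1 = m4 (NN g * NN y + NN g * NN y) 0 0 (NN g * NN y + NN g * NN y) := by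
    change m4 (NN g) (NN g) (-NN g) (NN g) * (m4 0 1 1 0 * m4 (NN y) (NN y) (-NN y) (NN y) * m4 0 1 1 0) = _
    rw [m4_mul, m4_mul, m4_mul]
    congr 1 <;> simp
  have hmem := (XX h2 g h.hgg * (O4 1 1 * XX h2 y h.hyy * O4 1 1)).2
  rw [hZ] at hmem
  have hdet := (m4_det hmem).1
  have hK : NN g * NN y + NN g * NN y = (2⁻¹ : F) • ((1 + g.1) * (1 + y.1)) := by
    unfold NN
    rw [Matrix.smul_mul, Matrix.mul_smul, smul_smul, ← add_smul]
    congr 1
    field_simp; norm_num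
  have hgg : g.1 * g.1 = -1 := congrArg Subtype.val h.hgg
  have hyy : y.1 * y.1 = -1 := congrArg Subtype.val h.hyy
  have han : y.1 * g.1 = -(g.1 * y.1) := congrArg Subtype.val h.anti
  refine ⟨⟨_, hdet⟩, Subtype.ext hZ.symm, ?_, ?_⟩
  · apply Subtype.ext
    change (NN g * NN y + NN g * NN y) * g.1 = y.1 * (NN g * NN y + NN g * NN y)
    rw [hK, Matrix.smul_mul, Matrix.mul_smul]
    congr 1
    have e1 : (1 + g.1) * (1 + y.1) * g.1 = g.1 + y.1 * g.1 + g.1 * g.1 + g.1 * (y.1 * g.1) := by noncomm_ring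
    have e2 : y.1 * ((1 + g.1) * (1 + y.1)) = y.1 + y.1 * y.1 + y.1 * g.1 + (y.1 * g.1) * y.1 := by noncomm_ring
    have e3 : g.1 * (y.1 * g.1) = y.1 := by rw [han, mul_neg, ← Matrix.mul_assoc, hgg]; simp
    have e4 : (y.1 * g.1) * y.1 = g.1 := by rw [han, neg_mul, Matrix.mul_assoc, hyy]; simp
    rw [e1, e2, e3, e4, hgg, hyy]; abel
  · apply Subtype.ext
    change (NN g * NN y + NN g * NN y) * y.1 = (g.1 * y.1) * (NN g * NN y + NN g * NN y)
    rw [hK, Matrix.smul_mul, Matrix.mul_smul]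
    congr 1
    have e1 : (1 + g.1) * (1 + y.1) * y.1 = y.1 + y.1 * y.1 + g.1 * y.1 + g.1 * (y.1 * y.1) := by noncomm_ring
    have e2 : g.1 * y.1 * ((1 + g.1) * (1 + y.1)) = g.1 * y.1 + g.1 * (y.1 * y.1) + g.1 * (y.1 * g.1) + g.1 * ((y.1 * g.1) * y.1) := by noncomm_ring
    have e3 : g.1 * (y.1 * g.1) = y.1 := by rw [han, mul_neg, ← Matrix.mul_assoc, hgg]; simp
    have e4 : (y.1 * g.1) * y.1 = g.1 := by rw [han, neg_mul, Matrix.mul_assoc, hyy]; simp
    rw [e1, e2, e3, e4, hgg, hyy]; abel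

end Cfsg.Agent.H1.P4
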