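import Mathlib
import Cfsg.Agent.H1.PS5

set_option autoImplicit false
set_option linter.style.haveILetI false
set_option linter.unusedVariables false
set_option linter.unusedSectionVars false
set_option linter.unusedSimpArgs false

/-! `PSp(4,F)`: the 2-fusion system is simple. -/

namespace Cfsg.Agent.H1.P4

open Matrix Subgroup Cfsg.Agent.H1 Cfsg.Agent.H7.KF

universe u v
variable {F : Type u} [Field F]

theorem norm_map {X : Type*} {Y : Type*} [Group X] [Group Y] (π : X →* Y) {R : Subgroup X} {t : X} (ht : t ∈ normalizer (R : Set X)) : π t ∈ normalizer ((R.map π : Subgroup Y) : Set Y) := by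
  rw [mem_normalizer_iff]
  intro x
  constructor
  · rintro ⟨u, hu, rfl⟩
    exact ⟨t * u * t⁻¹, (mem_normalizer_iff.mp ht u).mp hu, by rw [map_mul, map_mul, map_inv]⟩
  · rintro ⟨u, hu, hx⟩
    refine ⟨t⁻¹ * u * t⁻¹⁻¹, (mem_normalizer_iff.mp (inv_mem ht) u).mp hu, ?_⟩
    rw [map_mul, map_mul, hx, map_inv, map_inv, map_inv, inv_inv]
    group

theorem D_norm [Finite F] {Q : Subgroup (SL F)} {b : SL F} (hb : ∀ x ∈ Q, b * x * b⁻¹ ∈ Q) : D4 b b ∈ normalizer ((SS Q : Subgroup (symplecticGroup (Fin 2) F)) : Set (symplecticGroup (Fin 2) F)) := by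
  apply normal_of_conj
  rintro _ ⟨x, hx, y, hy, rfl | rfl⟩
  · rw [D_inv, DD_mul, DD_mul]; exact D_mem.mpr ⟨hb x hx, hb y hy⟩
  · rw [D_inv, DO_mul, OD_mul]; exact O_mem.mpr ⟨hb x hx, hb y hy⟩

section
variable {m : ℕ} {g y : SL F} {G : Type v} [Group G] {π : symplecticGroup (Fin 2) F →* G}

theorem SS_gen {Q : Subgroup (SL F)} {N : ℕ} (hN : ∀ a ∈ Q, a ^ 2 ^ N = 1) (S : Subgroup G) (hS : S = (SS Q).map π) {s : symplecticGroup (Fin 2) F} (hs : s ∈ SS Q) : π s ∈ genSet 2 S := by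
  have hmem : π s ∈ S := by rw [hS]; exact ⟨s, hs, rfl⟩
  refine ⟨le_normalizer hmem, S, le_rfl, fun s hs => le_normalizer hs, fun s hs _ => hs, ?_⟩
  apply Subgroup.subset_closure
  exact ⟨le_normalizer hmem, N + 1, by rw [← map_pow, SS_pow hN hs, map_one]⟩

theorem cent_gen {Q : Subgroup (SL F)} (S : Subgroup G) (hS : S = (SS Q).map π) {c : SL F} (hc : ∀ x ∈ Q, c * x = x * c) : ∀ s ∈ S, π (D4 c c) * s = s * π (D4 c c) := by
  intro s hs
  rw [hS] at hs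
  obtain ⟨_, ⟨x, hx, y, hy, rfl | rfl⟩, rfl⟩ := hs
  · rw [← map_mul, ← map_mul, DD_mul, DD_mul, hc x hx, hc y hy]
  · rw [← map_mul, ← map_mul, DO_mul, OD_mul, hc x hx, hc y hy]

theorem H_gen [Finite F] (h2 : (2 : F) ≠ 0) {Q : Subgroup (SL F)} (h : Q8D Q g y) (hk : ∀ x, π x = 1 → x = 1 ∨ x = D4 (-1) (-1)) (S : Subgroup G) (hS : S = (SS Q).map π)
    {H : SL F} (hH : D4 H H = XX h2 g h.hgg * (O4 1 1 * XX h2 y h.hyy * O4 1 1)) (hHQ : ∀ x ∈ Q, H * x * H⁻¹ ∈ Q) : π (D4 H H) ∈ genSet 2 S := by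
  subst hS
  refine ⟨norm_map π (D_norm hHQ), (RR4 Q h.neg_mem).map π, map_mono RR_le, ?_, ?_, ?_⟩
  · rintro _ ⟨s, hs, rfl⟩
    exact norm_map π (SS_norm_RR h hs)
  · rintro _ ⟨s, hs, rfl⟩ hcm
    refine ⟨s, ?_, rfl⟩
    have h1 := hcm (π (O4 1 1)) ⟨O4 1 1, ⟨1, one_mem _, 1, Or.inl rfl, Or.inr (by rw [mul_one])⟩, rfl⟩
    have h5 : π (O4 1 1 * s * (s * O4 1 1)⁻¹) = 1 := by
      rw [map_mul, map_inv, map_mul, map_mul, h1, mul_inv_cancel]
    have h6 : O4 1 1 * s = s * O4 1 1 ∨ O4 1 1 * s = D4 (-1) (-1) * (s * O4 1 1) := by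
      rcases hk _ h5 with h6 | h6
      · left; exact mul_inv_eq_one.mp h6
      · right; exact mul_inv_eq_iff_eq_mul.mp h6
    obtain ⟨a, ha, b, hb, rfl | rfl⟩ := hs
    · rcases h6 with h6 | h6
      · rw [OD_mul, DO_mul] at h6
        have h7 := (O_inj h6).1
        simp only [one_mul, mul_one] at h7
        exact ⟨a, ha, 1, Or.inl rfl, Or.inl (by rw [one_mul, h7])⟩
      · rw [OD_mul, DO_mul, DO_mul] at h6
        have h7 := (O_inj h6).1
        simp only [one_mul, mul_one, neg_mul] at h7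
        exact ⟨a, ha, -1, Or.inr rfl, Or.inl (by rw [neg_mul, one_mul, h7])⟩
    · rcases h6 with h6 | h6
      · rw [OO_mul, OO_mul] at h6
        have h7 := (D_inj h6).1
        simp only [one_mul, mul_one] at h7
        exact ⟨a, ha, 1, Or.inl rfl, Or.inr (by rw [one_mul, h7])⟩
      · rw [OO_mul, OO_mul, DD_mul] at h6
        have h7 := (D_inj h6).1
        simp only [one_mul, mul_one, neg_mul] at h7
        exact ⟨a, ha, -1, Or.inr rfl, Or.inr (by rw [neg_mul, one_mul, h7])⟩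
  · have hOn : O4 1 1 ∈ normalizer ((RR4 Q h.neg_mem : Subgroup (symplecticGroup (Fin 2) F)) : Set (symplecticGroup (Fin 2) F)) :=
      le_normalizer ⟨1, one_mem _, 1, Or.inl rfl, Or.inr (by rw [mul_one])⟩
    have hOO : O4 (1 : SL F) 1 * O4 1 1 = 1 := by rw [OO_mul, mul_one, D_one]
    rw [hH, map_mul]
    apply mul_mem
    · apply Subgroup.subset_closure
      exact ⟨norm_map π (XX_norm h2 h h.hg h.hgg), 2, by rw [← map_pow, XX_pow, map_one]⟩
    · apply Subgroup.subset_closure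
      refine ⟨norm_map π (mul_mem (mul_mem hOn (XX_norm h2 h h.hy h.hyy)) hOn), 2, ?_⟩
      have hOi : O4 (1 : SL F) 1 = (O4 1 1)⁻¹ := eq_inv_of_mul_eq_one_left hOO
      have e : O4 1 1 * XX h2 y h.hyy * O4 1 1 = O4 1 1 * XX h2 y h.hyy * (O4 1 1)⁻¹ := by rw [← hOi]
      rw [e, ← map_pow, conj_pow, XX_pow, mul_one, mul_inv_cancel, map_one]

theorem norm_gen4 [Finite F] (h2 : (2 : F) ≠ 0) (Q : Sylow 2 (SL F)) (h : QQ (Q : Subgroup (SL F)) m g y) (hk : ∀ x, π x = 1 → x = 1 ∨ x = D4 (-1) (-1)) {N : ℕ} (hN : ∀ a ∈ (Q : Subgroup (SL F)), a ^ 2 ^ N = 1)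
    (S : Subgroup G) (hS : S = (SS (Q : Subgroup (SL F))).map π) {v : symplecticGroup (Fin 2) F} (hv : π v ∈ normalizer (S : Set G)) : π v ∈ closure (genSet 2 S ∪ {x | ∀ s ∈ S, x * s = s * x}) := by
  rw [hS] at hv
  have hv' := pi_norm1 h.neg_mem hk hv
  obtain ⟨s, hs, b, hb, hvb⟩ := norm_form h h2 hv'
  have hS1 : ∀ s ∈ SS (Q : Subgroup (SL F)), π s ∈ closure (genSet 2 S ∪ {x | ∀ s ∈ S, x * s = s * x}) := fun s hs =>
    Subgroup.subset_closure (Or.inl (SS_gen hN S hS hs))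
  rw [hvb, map_mul]
  refine mul_mem (hS1 s hs) ?_
  have hbN : b ∈ normalizer ((Q : Subgroup (SL F)) : Set (SL F)) := mem_normalizer_of_conj_mem hb
  obtain ⟨i, j, hij, ⟨r, hr⟩, hodd⟩ := two_odd_parts b
  have h1 : b ^ i ∈ (Q : Subgroup (SL F)) := two_elt_mem Q (fun x hx => (mem_normalizer_iff.mp (zpow_mem hbN i) x).mp hx) hr
  have e : D4 b b = D4 (b ^ i) (b ^ i) * D4 (b ^ j) (b ^ j) := by rw [DD_mul, ← hij]
  rw [e, map_mul]
  refine mul_mem (hS1 _ (D_mem.mpr ⟨h1, h1⟩)) ?_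
  have hoQ : ∀ x ∈ (Q : Subgroup (SL F)), b ^ j * x * (b ^ j)⁻¹ ∈ (Q : Subgroup (SL F)) := fun x hx => (mem_normalizer_iff.mp (zpow_mem hbN j) x).mp hx
  generalize b ^ j = o at hodd hoQ ⊢
  rcases odd_norm h h2 hoQ hodd (pow_orderOf_eq_one o) with hc | ⟨hgg, y', hy'Q, hy'g, hy'y, hcov', hi', hj'⟩
  · exact Subgroup.subset_closure (Or.inr (cent_gen S hS hc))
  · have h8 : Q8D (Q : Subgroup (SL F)) g y' := ⟨h.hg, hy'Q, hy'g, hy'y, hgg, hcov'⟩
    obtain ⟨H, hH, hHg, hHy⟩ := exists_H h2 h8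
    have f1 : H * g * H⁻¹ = y' := mul_inv_eq_iff_eq_mul.mpr hHg
    have f2 : H * y' * H⁻¹ = g * y' := mul_inv_eq_iff_eq_mul.mpr hHy
    have hHQ : ∀ x ∈ (Q : Subgroup (SL F)), H * x * H⁻¹ ∈ (Q : Subgroup (SL F)) := by
      intro x hx
      obtain ⟨k, rfl | rfl⟩ := hcov' x hx
      · rw [← conj_zpow, f1]; exact zpow_mem hy'Q k
      · have e3 : H * (g ^ k * y') * H⁻¹ = (H * g ^ k * H⁻¹) * (H * y' * H⁻¹) := by group
        rw [e3, ← conj_zpow, f1, f2]; exact mul_mem (zpow_mem hy'Q k) (mul_mem h.hg hy'Q)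
    have hHgen : π (D4 H H) ∈ closure (genSet 2 S ∪ {x | ∀ s ∈ S, x * s = s * x}) := Subgroup.subset_closure (Or.inl (H_gen h2 h8 hk S hS hH hHQ))
    have hog : o * g = y' * o := mul_inv_eq_iff_eq_mul.mp hi'
    have g1 : H⁻¹ * y' = g * H⁻¹ := by rw [← f1]; group
    have g2 : H⁻¹ * (g * y') = y' * H⁻¹ := by rw [← f2]; group
    have hcg : (H⁻¹ * o) * g = g * (H⁻¹ * o) := by
      rw [mul_assoc, hog, ← mul_assoc, g1, mul_assoc]
    have hfin : ∀ c : SL F, c * g = g * c → c * y' = y' * c → ∀ x ∈ (Q : Subgroup (SL F)), c * x = x * c := by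
      intro c h1 h3 x hx
      obtain ⟨k, rfl | rfl⟩ := hcov' x hx
      · exact (Commute.zpow_right (show Commute c g from h1) k).eq
      · exact ((Commute.zpow_right (show Commute c g from h1) k).mul_right (show Commute c y' from h3)).eq
    rcases hj' with hj' | hj'
    · have hoy : o * y' = (g * y') * o := mul_inv_eq_iff_eq_mul.mp hj'
      have hcy : (H⁻¹ * o) * y' = y' * (H⁻¹ * o) := by
        rw [mul_assoc, hoy, ← mul_assoc, g2, mul_assoc]
      have e4 : D4 o o = D4 H H * D4 (H⁻¹ * o) (H⁻¹ * o) := by rw [DD_mul, mul_inv_cancel_left]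
      rw [e4, map_mul]
      exact mul_mem hHgen (Subgroup.subset_closure (Or.inr (cent_gen S hS (hfin _ hcg hcy))))
    · have hoy : o * y' = -(g * y') * o := mul_inv_eq_iff_eq_mul.mp hj'
      have hcy : (H⁻¹ * o) * y' = -(y' * (H⁻¹ * o)) := by
        rw [mul_assoc, hoy, neg_mul, mul_neg, ← mul_assoc, g2, mul_assoc]
      have hgy : g * y' = -(y' * g) := by rw [h8.anti, neg_neg]
      have hcg' : (H⁻¹ * o * g) * g = g * (H⁻¹ * o * g) := by rw [hcg, mul_assoc, hcg]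
      have hcy' : (H⁻¹ * o * g) * y' = y' * (H⁻¹ * o * g) := by
        rw [mul_assoc, hgy, mul_neg, ← mul_assoc, hcy, neg_mul, neg_neg, mul_assoc]
      have e4 : D4 o o = D4 H H * (D4 (H⁻¹ * o * g) (H⁻¹ * o * g) * D4 g⁻¹ g⁻¹) := by
        rw [DD_mul, DD_mul]
        have : H * (H⁻¹ * o * g * g⁻¹) = o := by group
        rw [this]
      rw [e4, map_mul, map_mul]
      exact mul_mem hHgen (mul_mem (Subgroup.subset_closure (Or.inr (cent_gen S hS (hfin _ hcg' hcy')))) (hS1 _ (D_mem.mpr ⟨inv_mem h.hg, inv_mem h.hg⟩)))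

end

theorem psp4_aux {F : Type u} [Field F] [Fintype F] (hodd : Fintype.card F % 2 = 1) (S : Sylow 2 (Cfsg.PSp 2 F)) :
    (Cfsg.groupFusionSystem (S : Subgroup (Cfsg.PSp 2 F))).IsSimple 2 := by
  classical
  haveI : Fact (Nat.Prime 2) := ⟨Nat.prime_two⟩
  have h2 := two_ne_zero_of_card hodd
  have hn1 := neg_one_ne (F := F) h2
  obtain ⟨Q⟩ : Nonempty (Sylow 2 (SL F)) := inferInstance
  have hq1 := Fintype.one_lt_card (α := F)
  -- card of Q
  have h4 : 2 ^ 2 ∣ Nat.card (SL F) := by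
    rw [sl2_card hodd]
    apply Dvd.dvd.mul_left
    obtain ⟨k, hk⟩ : ∃ k, Fintype.card F = 2 * k + 1 := ⟨Fintype.card F / 2, by omega⟩
    refine ⟨k * (k + 1), ?_⟩
    have e : Fintype.card F ^ 2 = 2 ^ 2 * (k * (k + 1)) + 1 := by rw [hk]; ring
    omega
  have h4' := Q.pow_dvd_card_of_pow_dvd_card h4
  obtain ⟨N, hN⟩ := IsPGroup.iff_card.mp Q.2
  have hN2 : 2 ≤ N := by
    rw [hN] at h4'
    exact (Nat.pow_dvd_pow_iff_le_right (by norm_num)).mp h4'
  obtain ⟨m', rfl⟩ : ∃ m', N = m' + 2 := ⟨N - 2, by omega⟩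
  obtain ⟨hm, g, y, hg, hy, hord, hyg, hyy, hgm, hcov⟩ := quat_data hodd Q hN
  have h : QQ (Q : Subgroup (SL F)) m' g y := ⟨hm, hg, hy, hord, hyg, hyy, hgm, hcov⟩
  have hNN : ∀ a ∈ (Q : Subgroup (SL F)), a ^ 2 ^ (m' + 2) = 1 := by
    intro a ha
    have h1 := pow_card_eq_one' (G := (Q : Subgroup (SL F))) (x := ⟨a, ha⟩)
    rw [hN] at h1
    exact congrArg Subtype.val h1
  -- centre
  have hMc : D4 (-1 : SL F) (-1) ∈ center (symplecticGroup (Fin 2) F) := mem_center_iff.mpr (fun v => M_comm v)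
  have hM1 : D4 (-1 : SL F) (-1) ≠ 1 := by
    intro h1
    rw [← D_one] at h1
    exact hn1 (D_inj h1).1
  have hcc : Nat.card (center (symplecticGroup (Fin 2) F)) = 2 := by
    rw [S0246.result (F := F) rfl 2 (by norm_num)]
    apply Nat.gcd_eq_left
    omega
  have hcen : ∀ x ∈ center (symplecticGroup (Fin 2) F), x = 1 ∨ x = D4 (-1) (-1) := by
    intro x hx
    obtain ⟨z, hz, huniq⟩ := (Nat.card_eq_two_iff' (1 : center (symplecticGroup (Fin 2) F))).mp hcc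
    by_cases hx1 : x = 1
    · exact Or.inl hx1
    · right
      have e1 := huniq ⟨x, hx⟩ (fun h => hx1 (congrArg Subtype.val h))
      have e2 := huniq ⟨D4 (-1) (-1), hMc⟩ (fun h => hM1 (congrArg Subtype.val h))
      exact congrArg Subtype.val (e1.trans e2.symm)
  obtain ⟨π, hsurj, hk, hM, hS⟩ := exists_pi4 (G := Cfsg.PSp 2 F) (π := QuotientGroup.mk' (center (symplecticGroup (Fin 2) F))) h2 Q h
    (QuotientGroup.mk'_surjective _) (fun x hx => hcen x ((QuotientGroup.eq_one_iff _).mp hx)) ((QuotientGroup.eq_one_iff _).mpr hMc) hNN S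
  apply simple_of_gen' S
  · intro hb
    have h1 : π (D4 1 (-1)) ∈ (S : Subgroup (Cfsg.PSp 2 F)) := by
      rw [hS]; exact ⟨_, D_mem.mpr ⟨one_mem _, h.neg_mem⟩, rfl⟩
    rw [hb, mem_bot] at h1
    rcases hk _ h1 with h3 | h3
    · rw [← D_one] at h3; exact hn1 (D_inj h3).2
    · exact hn1 (D_inj h3).1.symm
  · intro T hT hT1 hcl
    exact closed4 h2 Q h hk hM S hS T hT hT1 hcl
  · intro x hx
    obtain ⟨v, rfl⟩ := hsurj x
    exact norm_gen4 h2 Q h hk hNN _ hS hx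

end Cfsg.Agent.H1.P4
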