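import Mathlib
import Cfsg.Agent.H1.PSL3
import Cfsg.Agent.H1.GU2
import Cfsg.Agent.S0283
import Cfsg.Agent.S0280

set_option autoImplicit false
set_option linter.style.haveILetI false
set_option linter.unusedVariables false
set_option linter.unusedSectionVars false
set_option linter.unusedSimpArgs false

/-! The 2-fusion system of `PSU(3,q)`. -/

namespace Cfsg.Agent.H1

open Cfsg Cfsg.FusionSystem Subgroup Matrix
open scoped Pointwise

universe u v

section
variable {F : Type u} [Field F] [Fintype F] {q : ℕ}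

theorem emb3_coe (A : GL (Fin 2) F) : (emb3 F A).1 = !![A.1 0 0, A.1 0 1, 0; A.1 1 0, A.1 1 1, 0; 0, 0, (A.1.det)⁻¹] := rfl

theorem emb3_su (hF : Fintype.card F = q ^ 2) {A : GL (Fin 2) F} (hA : A ∈ GU 2 F q) : emb3 F A ∈ SU 3 F q := by
  obtain ⟨σ, hσ, -, -⟩ := H7.Herm.exists_frob hF
  have h1 : A.1ᵀ * A.1.map σ = 1 := (H7.Herm.preserve_iff hσ).mp hA
  have hdet : A.1.det ^ (q + 1) = 1 := H7.Herm.det_pow hF hA
  have h3 : (A.1.det)⁻¹ * σ (A.1.det)⁻¹ = 1 := by
    rw [hσ, ← pow_succ', inv_pow, hdet, inv_one]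
  have e00 := congrFun (congrFun h1 0) 0
  have e01 := congrFun (congrFun h1 0) 1
  have e10 := congrFun (congrFun h1 1) 0
  have e11 := congrFun (congrFun h1 1) 1
  simp only [Matrix.mul_apply, Fin.sum_univ_two, Matrix.transpose_apply, Matrix.map_apply, Matrix.one_apply_eq, Matrix.one_apply_ne (show (0 : Fin 2) ≠ 1 by decide),
    Matrix.one_apply_ne (show (1 : Fin 2) ≠ 0 by decide)] at e00 e01 e10 e11
  have h4 : (emb3 F A).1ᵀ * (emb3 F A).1.map σ = 1 := by
    rw [emb3_coe]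
    ext i j
    rw [Matrix.mul_apply, Fin.sum_univ_three]
    simp only [Matrix.transpose_apply, Matrix.map_apply]
    fin_cases i <;> fin_cases j <;> simp [e00, e01, e10, e11]
    rw [map_inv₀] at h3
    exact h3
  exact (H7.Herm.preserve_iff hσ).mpr h4

/-- the embedding of `GU(2,q)` in `SU(3,q)` -/
def embU (hF : Fintype.card F = q ^ 2) : GU 2 F q →* SU 3 F q :=
  ((emb3 F).comp (GU 2 F q).subtype).codRestrict (SU 3 F q) (fun g => emb3_su hF g.2)

/-- a permutation matrix -/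
def pm3 (F : Type u) [Field F] : SpecialLinearGroup (Fin 3) F := ⟨!![0, 1, 0; 0, 0, 1; 1, 0, 0], by rw [det_fin_three]; simp⟩

theorem pm3_su {σ : F →+* F} (hσ : ∀ x, σ x = x ^ q) : pm3 F ∈ SU 3 F q := by
  have h4 : (!![0, 1, 0; 0, 0, 1; 1, 0, 0] : Matrix (Fin 3) (Fin 3) F)ᵀ * (!![0, 1, 0; 0, 0, 1; 1, 0, 0] : Matrix (Fin 3) (Fin 3) F).map σ = 1 := by
    ext i j
    rw [Matrix.mul_apply, Fin.sum_univ_three]
    simp only [Matrix.transpose_apply, Matrix.map_apply]
    fin_cases i <;> fin_cases j <;> simp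
  exact (H7.Herm.preserve_iff hσ).mpr h4

theorem emb3_central {A : GL (Fin 2) F} (h : emb3 F A * pm3 F = pm3 F * emb3 F A) (hA : A * A = 1) : A = 1 := by
  have h1 : (!![A.1 0 0, A.1 0 1, 0; A.1 1 0, A.1 1 1, 0; 0, 0, (A.1.det)⁻¹] : Matrix (Fin 3) (Fin 3) F) * !![0, 1, 0; 0, 0, 1; 1, 0, 0] =
      !![0, 1, 0; 0, 0, 1; 1, 0, 0] * !![A.1 0 0, A.1 0 1, 0; A.1 1 0, A.1 1 1, 0; 0, 0, (A.1.det)⁻¹] := congrArg Subtype.val h
  have a01 := congrFun (congrFun h1 0) 0
  have a02 := congrFun (congrFun h1 0) 1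
  have a03 := congrFun (congrFun h1 0) 2
  have a13 := congrFun (congrFun h1 1) 2
  simp [Matrix.mul_apply, Fin.sum_univ_three] at a01 a02 a03 a13
  have hAA : A.1 * A.1 = 1 := congrArg Units.val hA
  have b00 := congrFun (congrFun hAA 0) 0
  simp [Matrix.mul_apply, Fin.sum_univ_two] at b00
  have hd : A.1.det = A.1 0 0 * A.1 0 0 := by
    rw [det_fin_two]
    simp only [a03, ← a02]
    ring
  have e00 : A.1 0 0 * A.1 0 0 = 1 := by
    rw [a03, zero_mul, add_zero] at b00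
    exact b00
  have e1 : A.1 0 0 = 1 := by
    rw [hd, e00, inv_one, ← a02] at a13
    exact a13
  apply M2_ext
  have e : ((1 : GL (Fin 2) F)).1 = 1 := rfl
  rw [e]
  ext i j
  fin_cases i <;> fin_cases j
  · simpa using e1
  · simpa using a03
  · simpa using a01.symm
  · simp [← a02, e1]

theorem psu3_sylow (hF : Fintype.card F = q ^ 2) (hodd : q % 2 = 1) (P : Sylow 2 (GU 2 F q)) (S : Sylow 2 (PSU 3 F q)) :
    Nonempty ((P : Subgroup (GU 2 F q)) ≃* (S : Subgroup (PSU 3 F q))) := by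
  classical
  obtain ⟨σ, hσ, -, -⟩ := H7.Herm.exists_frob hF
  have hq1 := H7.Herm.one_lt_q hF
  apply sylow_equiv_of_hom ((QuotientGroup.mk' (center (SU 3 F q))).comp (embU hF))
  · intro g hg hgg
    have h1 : embU hF g ∈ center (SU 3 F q) := (QuotientGroup.eq_one_iff _).mp hg
    have h2 := mem_center_iff.mp h1 ⟨pm3 F, pm3_su hσ⟩
    have h3 : pm3 F * emb3 F (g : GL (Fin 2) F) = emb3 F (g : GL (Fin 2) F) * pm3 F := congrArg Subtype.val h2
    exact Subtype.ext (emb3_central h3.symm (congrArg Subtype.val hgg))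
  · have h1 := S0280.result hF 3 (by norm_num)
    rw [Finset.prod_range_succ, Finset.prod_range_succ, Finset.prod_range_succ, Finset.prod_range_zero] at h1
    simp [← Nat.card_eq_fintype_card] at h1
    obtain ⟨k, hk⟩ : ∃ k, q = 2 * k + 1 := ⟨q / 2, by omega⟩
    have hg : Nat.gcd 3 (q + 1) % 2 = 1 := by
      rcases (Nat.dvd_prime Nat.prime_three).mp (Nat.gcd_dvd_left 3 (q + 1)) with h | h <;> rw [h]
    refine sylow_card_eq P S (a := Nat.gcd 3 (q + 1)) (b := q ^ 2 * (4 * k ^ 2 + 2 * k + 1)) hg ?_ ?_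
    · rw [hk, Nat.mul_mod]
      have e1 : (2 * k + 1) ^ 2 % 2 = 1 := by rw [Nat.pow_mod]; simp [Nat.add_mod]
      have e2 : (4 * k ^ 2 + 2 * k + 1) % 2 = 1 := by omega
      rw [e1, e2]
    · rw [card_gu2 hF]
      have e1 : q ^ 3 + 1 = (q + 1) * (4 * k ^ 2 + 2 * k + 1) := by rw [hk]; ring
      rw [e1] at h1
      apply Nat.eq_of_mul_eq_mul_left (show 0 < q + 1 by omega)
      calc (q + 1) * (Nat.gcd 3 (q + 1) * Nat.card (PSU 3 F q)) = Nat.gcd 3 (q + 1) * ((q + 1) * Nat.card (PSU 3 F q)) := by ring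
        _ = q ^ 3 * ((q + 1) * (q ^ 2 - 1) * ((q + 1) * (4 * k ^ 2 + 2 * k + 1))) := h1
        _ = _ := by ring

theorem psu3_aux (hF : Fintype.card F = q ^ 2) (hodd : q % 2 = 1) (S : Sylow 2 (PSU 3 F q)) :
    (Cfsg.groupFusionSystem (S : Subgroup (PSU 3 F q))).IsSimple 2 := by
  classical
  obtain ⟨P⟩ : Nonempty (Sylow 2 (GU 2 F q)) := inferInstance
  obtain ⟨e⟩ := psu3_sylow hF hodd P S
  haveI : IsSimpleGroup (PSU 3 F q) := S0283.result hF 3 (by norm_num) (by omega)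
  have h4 : q % 4 = 1 ∨ q % 4 = 3 := by omega
  have hS : IsQuasiDihedral (S : Subgroup (PSU 3 F q)) ∨ IsWreathed (S : Subgroup (PSU 3 F q)) := by
    rcases h4 with h4 | h4
    · exact Or.inl (isQuasiDihedral_congr e (gu2_qd hF P h4))
    · exact Or.inr (isWreathed_congr e (gu2_wr hF P h4))
  have hcard : Nat.card (PSU 3 F q) ≠ 2 := by
    intro h2
    have h5 : Nat.card (S : Subgroup (PSU 3 F q)) ≤ 2 := (card_le_card_group _).trans h2.le
    rcases hS with ⟨n, hn, hc, -⟩ | ⟨n, hn, hc, -⟩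
    · rw [hc] at h5
      have : 2 ^ 2 ≤ 2 ^ (n + 1) := Nat.pow_le_pow_right (by norm_num) (by omega)
      omega
    · rw [hc] at h5
      have : 2 ^ 2 ≤ 2 ^ (2 * n + 1) := Nat.pow_le_pow_right (by norm_num) (by omega)
      omega
  rcases hS with hS | hS
  · exact fus_qd S hS (no_index_two hcard)
  · exact fus_wr S hS (no_index_two hcard)

end

end Cfsg.Agent.H1
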