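import Mathlib
import Cfsg.Agent.H1.SE

set_option autoImplicit false
set_option linter.style.haveILetI false
set_option linter.unusedVariables false
set_option linter.unusedSectionVars false
set_option linter.unusedSimpArgs false

/-! Strongly embedded subgroups: counting involutions. -/

namespace Cfsg.Agent.H1

open Cfsg Subgroup

universe u
variable {G : Type u} [Group G] [Finite G] {H : Subgroup G}

theorem SE.card_swap (hH : SE H) {x y : G ⧸ H} (hxy : x ≠ y) {v : G} (hv : orderOf v = 2) (hvx : v • x = x) :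
    Nat.card {i : G // orderOf i = 2 ∧ i • x = y} = Nat.card {t : G // orderOf t = 2 ∧ t • y = y} := by
  apply Nat.card_congr
  refine Equiv.ofBijective (fun w => ⟨w.1 * v * (w.1)⁻¹, ?_, ?_⟩) ⟨?_, ?_⟩
  · rw [orderOf_conj]; exact hv
  · have h1 : (w.1)⁻¹ • y = x := inv_smul_eq_iff.mpr w.2.2.symm
    rw [mul_smul, mul_smul, h1, hvx, w.2.2]
  · rintro ⟨w, hw, hwx⟩ ⟨w', hw', hwx'⟩ h
    have h1 : w * v * w⁻¹ = w' * v * w'⁻¹ := congrArg Subtype.val h
    apply Subtype.ext
    change w = w'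
    have hwi := invol_inv hw
    have hwi' := invol_inv hw'
    have hwy : w • y = x := by
      rw [← hwx, ← mul_smul, invol_sq hw, one_smul]
    have hwy' : w' • y = x := by
      rw [← hwx', ← mul_smul, invol_sq hw', one_smul]
    have hvc : v * (w' * w) = (w' * w) * v := by
      have h2 : w'⁻¹ * (w * v * w⁻¹) * w' = v := by rw [h1]; group
      rw [hwi', hwi] at h2
      have h3 : (w' * w) * v * (w' * w)⁻¹ = v := by
        rw [mul_inv_rev, hwi, hwi']
        calc w' * w * v * (w * w') = w' * (w * v * w) * w' := by group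
          _ = v := h2
      calc v * (w' * w) = (w' * w) * v * (w' * w)⁻¹ * (w' * w) := by rw [h3]
        _ = _ := by group
    have h4 := hH.no_commute (c := w' * w) hv hw hvx (by rw [hwx]; exact Ne.symm hxy) (by rw [mul_smul, hwx, hwy'])
      (by
        rw [mul_inv_rev, hwi, hwi']
        calc w * (w' * w) * w = w * w' * (w * w) := by group
          _ = w * w' := by rw [invol_sq hw, mul_one]) hvc
    have h5 : w = w'⁻¹ := (inv_eq_of_mul_eq_one_right h4).symm
    rw [h5, hwi']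
  · rintro ⟨t, ht, hty⟩
    obtain ⟨w, hw1, hw2, hw3, hw4⟩ := hH.swap hv ht hvx hty hxy
    exact ⟨⟨w, hw1, hw3⟩, Subtype.ext hw2⟩

theorem card_fix (g : G) : Nat.card {t : G // orderOf t = 2 ∧ t • (QuotientGroup.mk g : G ⧸ H) = QuotientGroup.mk g} =
    Nat.card {t : G // orderOf t = 2 ∧ t ∈ H} := by
  apply Nat.card_congr
  refine ⟨fun t => ⟨g⁻¹ * t.1 * g, ?_, mk_fix.mp t.2.2⟩, fun t => ⟨g * t.1 * g⁻¹, ?_, ?_⟩, ?_, ?_⟩
  · have := orderOf_conj g⁻¹ t.1
    rw [inv_inv] at this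
    rw [this]; exact t.2.1
  · rw [orderOf_conj]; exact t.2.1
  · rw [mk_fix]
    have e : g⁻¹ * (g * t.1 * g⁻¹) * g = t.1 := by group
    rw [e]; exact t.2.2
  · rintro ⟨t, -, -⟩
    apply Subtype.ext
    change g * (g⁻¹ * t * g) * g⁻¹ = t
    group
  · rintro ⟨t, -, -⟩
    apply Subtype.ext
    change g⁻¹ * (g * t * g⁻¹) * g = t
    group

theorem exists_fix (he : Even (Nat.card H)) (x : G ⧸ H) : ∃ v : G, orderOf v = 2 ∧ v • x = x := by
  obtain ⟨g, rfl⟩ := QuotientGroup.mk_surjective x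
  haveI : Fact (Nat.Prime 2) := ⟨Nat.prime_two⟩
  obtain ⟨t, ht⟩ : ∃ t : H, orderOf t = 2 := exists_prime_orderOf_dvd_card' 2 he.two_dvd
  refine ⟨g * t * g⁻¹, by rw [orderOf_conj, Subgroup.orderOf_coe]; exact ht, ?_⟩
  rw [mk_fix]
  have e : g⁻¹ * (g * (t : G) * g⁻¹) * g = t := by group
  rw [e]; exact t.2

theorem SE.card_inv (hH : SE H) (he : Even (Nat.card H)) {x y : G ⧸ H} (hxy : x ≠ y) :
    Nat.card {i : G // orderOf i = 2 ∧ i • x = y} = Nat.card {t : G // orderOf t = 2 ∧ t ∈ H} := by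
  obtain ⟨v, hv, hvx⟩ := exists_fix he x
  rw [hH.card_swap hxy hv hvx]
  obtain ⟨g, rfl⟩ := QuotientGroup.mk_surjective y
  exact card_fix g

theorem SE.trans (hH : SE H) {x y : G ⧸ H} (hxy : x ≠ y) {s t u : G} (hs : orderOf s = 2) (ht : orderOf t = 2) (hu : orderOf u = 2)
    (hsx : s • x = x) (htx : t • x = x) (hux : u • x = y) : ∃ d : G, d • x = x ∧ d • y = y ∧ d * s * d⁻¹ = t := by
  have hui := invol_inv hu
  have huy : u • y = x := by rw [← hux, ← mul_smul, invol_sq hu, one_smul]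
  obtain ⟨w, hw1, hw2, hw3, hw4⟩ := hH.swap hs (t := u * t * u⁻¹) (by rw [orderOf_conj]; exact ht) hsx
    (y := y) (by rw [mul_smul, mul_smul, hui, huy, htx, hux]) hxy
  refine ⟨u * w, by rw [mul_smul, hw3, huy], by rw [mul_smul, hw4, hux], ?_⟩
  calc u * w * s * (u * w)⁻¹ = u * (w * s * w⁻¹) * u⁻¹ := by group
    _ = (u * u) * t * (u * u)⁻¹ := by rw [hw2]; group
    _ = t := by rw [invol_sq hu]; group

theorem mem_map_conj {H : Subgroup G} {u d : G} : d ∈ H.map (MulAut.conj u).toMonoidHom ↔ d • (QuotientGroup.mk u : G ⧸ H) = QuotientGroup.mk u := by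
  rw [mk_fix]
  constructor
  · rintro ⟨x, hx, rfl⟩
    change u⁻¹ * (u * x * u⁻¹) * u ∈ H
    have e : u⁻¹ * (u * x * u⁻¹) * u = x := by group
    rw [e]; exact hx
  · intro h
    refine ⟨_, h, ?_⟩
    change u * (u⁻¹ * d * u) * u⁻¹ = d
    group

theorem mem_iff_fix {H : Subgroup G} {d : G} : d ∈ H ↔ d • (QuotientGroup.mk 1 : G ⧸ H) = QuotientGroup.mk 1 := by
  rw [mk_fix]; simp

theorem mk_ne {H : Subgroup G} {u : G} (hu : u ∉ H) : (QuotientGroup.mk 1 : G ⧸ H) ≠ QuotientGroup.mk u := by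
  intro h
  rw [QuotientGroup.eq] at h
  apply hu
  simpa using h

end Cfsg.Agent.H1
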