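import Mathlib
import Cfsg.Agent.H1.SE2
import Cfsg.Agent.S1226

set_option autoImplicit false
set_option linter.style.haveILetI false
set_option linter.unusedVariables false
set_option linter.unusedSectionVars false
set_option linter.unusedSimpArgs false

/-! Groups in which centralizers of involutions are elementary abelian. -/

namespace Cfsg.Agent.H1

open Cfsg Subgroup
open scoped Pointwise

universe u
variable {G : Type u} [Group G]

structure CIT (T H : Subgroup G) : Prop where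
  se : SE H
  even : Even (Nat.card H)
  TH : T ≤ H
  norm : ∀ h ∈ H, ∀ t ∈ T, h * t * h⁻¹ ∈ T
  comm : ∀ s ∈ T, ∀ t ∈ T, s * t = t * s
  sq : ∀ t ∈ T, t * t = 1
  cent : ∀ t ∈ T, t ≠ 1 → ∀ c, c * t = t * c → c ∈ T
  inv : ∀ s ∈ H, orderOf s = 2 → s ∈ T
  two : ∃ a ∈ T, ∃ b ∈ T, a ≠ 1 ∧ b ≠ 1 ∧ a ≠ b
  cexp : ∀ t c : G, orderOf t = 2 → c * t = t * c → c * c = 1

theorem CIT_of [Finite G] (T : Sylow 2 G) (hnc : ¬ IsCyclic (T : Subgroup G)) (hnn : ¬ (T : Subgroup G).Normal) (hC : ∀ t : G, orderOf t = 2 → IsMulCommutative (Subgroup.centralizer ({t} : Set G)) ∧ ∀ c ∈ Subgroup.centralizer ({t} : Set G), c ^ 2 = 1) :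
    CIT (T : Subgroup G) (Subgroup.normalizer ((T : Subgroup G) : Set G)) := by
  classical
  have h2 : ∃ z ∈ (T : Subgroup G), z ≠ 1 ∧ ∀ t ∈ (T : Subgroup G), z * t = t * z := by
    have hTb : (T : Subgroup G) ≠ ⊥ := by
      intro h
      apply hnn
      rw [h]; infer_instance
    haveI : Nontrivial T := (Subgroup.nontrivial_iff_ne_bot _).mpr hTb
    haveI := T.isPGroup'.isNilpotent
    haveI : Nontrivial (Subgroup.center T) := T.isPGroup'.center_nontrivial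
    obtain ⟨⟨z, hz⟩, hz1⟩ := exists_ne (1 : Subgroup.center T)
    refine ⟨z, z.2, fun h => hz1 (Subtype.ext (Subtype.ext h)), ?_⟩
    intro t ht
    exact congrArg Subtype.val (Subgroup.mem_center_iff.mp hz ⟨t, ht⟩).symm
  obtain ⟨z, hzT, hz1, hzc⟩ := h2
  -- a power of z is an involution
  obtain ⟨w, hwT, hw2, hwc⟩ : ∃ w ∈ (T : Subgroup G), orderOf w = 2 ∧ ∀ t ∈ (T : Subgroup G), w * t = t * w := by
    obtain ⟨k, hk⟩ := IsPGroup.iff_orderOf.mp T.isPGroup' ⟨z, hzT⟩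
    have hk' : orderOf z = 2 ^ k := by rw [← hk]; exact (Subgroup.orderOf_mk z hzT).symm
    have hk0 : k ≠ 0 := by
      rintro rfl
      rw [pow_zero, orderOf_eq_one_iff] at hk'
      exact hz1 hk'
    refine ⟨z ^ (2 ^ (k - 1)), (T : Subgroup G).pow_mem hzT _, ?_, ?_⟩
    · rw [orderOf_pow' z (by positivity), hk']
      have : Nat.gcd (2 ^ k) (2 ^ (k - 1)) = 2 ^ (k - 1) := Nat.gcd_eq_right (pow_dvd_pow 2 (by omega))
      rw [this, Nat.pow_div (by omega) (by norm_num)]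
      have : k - (k - 1) = 1 := by omega
      rw [this, pow_one]
    · intro t ht
      have : Commute z t := hzc t ht
      exact this.pow_left _
  have hTle : ∀ (S : Sylow 2 G) (w : G), orderOf w = 2 → (∀ t ∈ (S : Subgroup G), w * t = t * w) → Subgroup.centralizer ({w} : Set G) = S := by
    intro S w hw hc
    have h1 := hC w hw
    have hp : IsPGroup 2 ↥(Subgroup.centralizer ({w} : Set G)) := by
      intro x
      exact ⟨1, by rw [pow_one]; exact Subtype.ext (h1.2 x x.2)⟩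
    exact S.3 hp (fun t ht => Subgroup.mem_centralizer_singleton_iff.mpr (hc t ht).symm)
  have hCT := hTle T w hw2 hwc
  have hTc : ∀ x ∈ (T : Subgroup G), ∀ y ∈ (T : Subgroup G), x * y = y * x := by
    have h1 := (hC w hw2).1
    rw [hCT] at h1
    intro x hx y hy
    exact congrArg Subtype.val (h1.1.1 ⟨x, hx⟩ ⟨y, hy⟩)
  -- every Sylow subgroup is abelian and equals centralizers of its involutions
  have hSyl : ∀ (S : Sylow 2 G) (t : G), t ∈ (S : Subgroup G) → orderOf t = 2 → Subgroup.centralizer ({t} : Set G) = S := by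
    intro S t ht ht2
    apply hTle S t ht2
    obtain ⟨g, hg⟩ := MulAction.exists_smul_eq G S T
    intro y hy
    have h1 : g * t * g⁻¹ ∈ (T : Subgroup G) := by
      rw [← hg]; exact ⟨t, ht, rfl⟩
    have h2 : g * y * g⁻¹ ∈ (T : Subgroup G) := by
      rw [← hg]; exact ⟨y, hy, rfl⟩
    have h3 := hTc _ h1 _ h2
    have h4 : g * (t * y) * g⁻¹ = g * (y * t) * g⁻¹ := by
      calc g * (t * y) * g⁻¹ = g * t * g⁻¹ * (g * y * g⁻¹) := by group
        _ = g * y * g⁻¹ * (g * t * g⁻¹) := h3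
        _ = _ := by group
    exact mul_left_cancel (mul_right_cancel h4)
  have hse := Cfsg.Agent.S1226.result T hnc hnn hC
  have hTsq : ∀ t ∈ (T : Subgroup G), t * t = 1 := by
    intro t ht
    have h1 := (hC w hw2).2 t (by rw [hCT]; exact ht)
    rwa [pow_two] at h1
  refine ⟨SE_of_stronglyEmbedded hse, hse.2.1, Subgroup.le_normalizer, ?_, hTc, hTsq, ?_, ?_, ?_, ?_⟩
  · intro h hh t ht
    exact (Subgroup.mem_normalizer_iff.mp hh t).mp ht
  · intro t ht ht1 c hc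
    rw [← SetLike.mem_coe, ← hSyl T t ht (invol_of (hTsq t ht) ht1)]
    exact Subgroup.mem_centralizer_singleton_iff.mpr hc
  · intro s hs hs2
    have hzp : IsPGroup 2 (Subgroup.zpowers s) := by
      apply IsPGroup.of_card (n := 1)
      rw [Nat.card_zpowers, hs2, pow_one]
    have h1 : IsPGroup 2 ↥((T : Subgroup G) ⊔ Subgroup.zpowers s) :=
      IsPGroup.to_sup_of_normal_left' T.isPGroup' hzp (by rw [Subgroup.zpowers_le]; exact hs)
    have h2 := T.3 h1 le_sup_left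
    rw [← h2]
    exact (le_sup_right : Subgroup.zpowers s ≤ _) (Subgroup.mem_zpowers s)
  · by_contra hno
    push Not at hno
    apply hnc
    refine ⟨⟨⟨w, hwT⟩, ?_⟩⟩
    rintro ⟨t, ht⟩
    by_cases ht1 : t = 1
    · exact ⟨0, Subtype.ext (by simp [ht1])⟩
    · have h3 := hno w hwT t ht (invol_ne hw2) ht1
      exact ⟨1, Subtype.ext (by simp [h3])⟩
  · intro t c ht hc
    have h1 := (hC t ht).2 c (Subgroup.mem_centralizer_singleton_iff.mpr hc)
    rwa [pow_two] at h1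

theorem smul_swap {H : Subgroup G} {w : G} (hw : orderOf w = 2) {x y : G ⧸ H} (h : w • x = y) : w • y = x := by
  rw [← h, ← mul_smul, invol_sq hw, one_smul]

section
variable [Finite G] {T H : Subgroup G} (h : CIT T H)
include h

theorem CIT.card_two : 2 ≤ Nat.card {t : G // orderOf t = 2 ∧ t ∈ H} := by
  obtain ⟨a, ha, b, hb, ha1, hb1, hab⟩ := h.two
  haveI : Nontrivial {t : G // orderOf t = 2 ∧ t ∈ H} :=
    ⟨⟨⟨a, invol_of (h.sq a ha) ha1, h.TH ha⟩, ⟨b, invol_of (h.sq b hb) hb1, h.TH hb⟩, fun e => hab (congrArg Subtype.val e)⟩⟩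
  exact Finite.one_lt_card

theorem CIT.card_stab {x y : G ⧸ H} (hxy : x ≠ y) : Nat.card {d : G // d • x = x ∧ d • y = y} = Nat.card {t : G // orderOf t = 2 ∧ t ∈ H} := by
  obtain ⟨v, hv, hvx⟩ := exists_fix h.even x
  obtain ⟨v', hv', hvy'⟩ := exists_fix h.even y
  obtain ⟨u, hu, -, hux, huy⟩ := h.se.swap hv hv' hvx hvy' hxy
  obtain ⟨g, rfl⟩ := QuotientGroup.mk_surjective x
  rw [← card_fix g]
  apply Nat.card_congr
  refine Equiv.ofBijective (fun d => ⟨d.1 * v * (d.1)⁻¹, ?_, ?_⟩) ⟨?_, ?_⟩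
  · rw [orderOf_conj]; exact hv
  · have h1 : (d.1)⁻¹ • (QuotientGroup.mk g : G ⧸ H) = QuotientGroup.mk g := inv_smul_eq_iff.mpr d.2.1.symm
    rw [mul_smul, mul_smul, h1, hvx, d.2.1]
  · rintro ⟨d, hdx, hdy⟩ ⟨d', hdx', hdy'⟩ he
    have h1 : d * v * d⁻¹ = d' * v * d'⁻¹ := congrArg Subtype.val he
    apply Subtype.ext
    change d = d'
    have h2 : (d'⁻¹ * d) * v = v * (d'⁻¹ * d) := by
      calc (d'⁻¹ * d) * v = d'⁻¹ * (d * v * d⁻¹) * d := by group
        _ = v * (d'⁻¹ * d) := by rw [h1]; group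
    have h3 := h.cexp v _ hv h2
    have h4 := h.se.odd_two (c := d'⁻¹ * d) (x := QuotientGroup.mk g) (y := y)
      (by rw [mul_smul, hdx, inv_smul_eq_iff, hdx']) (by rw [mul_smul, hdy, inv_smul_eq_iff, hdy']) hxy
    have h5 : d'⁻¹ * d = 1 := by
      by_contra hne
      rw [invol_of h3 hne] at h4
      exact absurd h4 (by decide)
    exact (inv_mul_eq_one.mp h5).symm
  · rintro ⟨t, ht, htx⟩
    obtain ⟨d, hd1, hd2, hd3⟩ := h.se.trans hxy hv ht hu hvx htx hux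
    exact ⟨⟨d, hd1, hd2⟩, Subtype.ext hd3⟩

/-- an involution swapping two points inverts their stabilizer -/
theorem CIT.inverts {x y : G ⧸ H} (hxy : x ≠ y) {w : G} (hw : orderOf w = 2) (hwx : w • x = y) {d : G} (hdx : d • x = x) (hdy : d • y = y) :
    w * d * w⁻¹ = d⁻¹ := by
  have hwi := invol_inv hw
  have hwy : w • y = x := by rw [← hwx, ← mul_smul, invol_sq hw, one_smul]
  -- the map `i ↦ w * i`
  let f : {i : G // orderOf i = 2 ∧ i • x = y} → {d : G // d • x = x ∧ d • y = y} := fun i =>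
    ⟨w * i.1, by rw [mul_smul, i.2.2, hwy], by rw [mul_smul, smul_swap i.2.1 i.2.2, hwx]⟩
  have hinj : Function.Injective f := by
    rintro ⟨i, hi⟩ ⟨j, hj⟩ hij
    have h1 : w * i = w * j := congrArg Subtype.val hij
    exact Subtype.ext (mul_left_cancel h1)
  have hcard : Nat.card {i : G // orderOf i = 2 ∧ i • x = y} = Nat.card {d : G // d • x = x ∧ d • y = y} := by
    rw [h.card_stab hxy, h.se.card_inv h.even hxy]
  have hsurj : Function.Surjective f := ((Nat.bijective_iff_injective_and_card f).mpr ⟨hinj, hcard⟩).2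
  obtain ⟨⟨i, hi, hix⟩, hfi⟩ := hsurj ⟨d, hdx, hdy⟩
  have h1 : w * i = d := congrArg Subtype.val hfi
  rw [← h1, mul_inv_rev, hwi, invol_inv hi]
  calc w * (w * i) * w = (w * w) * (i * w) := by group
    _ = i * w := by rw [invol_sq hw, one_mul]

/-- an involution of `G` fixing the base point lies in `T` and fixes no other point -/
theorem CIT.T_fix {t : G} (ht : t ∈ T) (ht1 : t ≠ 1) {y : G ⧸ H} (hy : t • y = y) : y = QuotientGroup.mk 1 := by
  obtain ⟨c, -, hc⟩ := h.se t (invol_of (h.sq t ht) ht1)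
  rw [hc y hy, hc (QuotientGroup.mk 1) (mem_iff_fix.mp (h.TH ht))]

theorem CIT.exists_swap {x y : G ⧸ H} (hxy : x ≠ y) : ∃ u : G, orderOf u = 2 ∧ u • x = y := by
  obtain ⟨v, hv, hvx⟩ := exists_fix h.even x
  obtain ⟨v', hv', hvy'⟩ := exists_fix h.even y
  obtain ⟨u, hu, -, hux, huy⟩ := h.se.swap hv hv' hvx hvy' hxy
  exact ⟨u, hu, hux⟩

/-- `H = T D` -/
theorem CIT.factor {y : G ⧸ H} (hy : (QuotientGroup.mk 1 : G ⧸ H) ≠ y) {g : G} (hg : g ∈ H) : ∃ t ∈ T, ∃ d ∈ H, d • y = y ∧ g = t * d := by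
  obtain ⟨a, ha, b, hb, ha1, hb1, hab⟩ := h.two
  obtain ⟨u, hu, hux⟩ := h.exists_swap hy
  obtain ⟨d, hd1, hd2, hd3⟩ := h.se.trans hy (invol_of (h.sq a ha) ha1) (t := g * a * g⁻¹)
    (by rw [orderOf_conj]; exact invol_of (h.sq a ha) ha1) hu (mem_iff_fix.mp (h.TH ha)) (mem_iff_fix.mp (h.TH (h.norm g hg a ha))) hux
  have hdH := mem_iff_fix.mpr hd1
  have h1 : d⁻¹ * g ∈ T := by
    apply h.cent a ha ha1
    calc d⁻¹ * g * a = d⁻¹ * (g * a * g⁻¹) * g := by group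
      _ = a * (d⁻¹ * g) := by rw [← hd3]; group
  refine ⟨d * (d⁻¹ * g) * d⁻¹, h.norm d hdH _ h1, d, hdH, hd2, by group⟩

/-- the stabilizer of two points is abelian -/
theorem CIT.stab_comm {x y : G ⧸ H} (hxy : x ≠ y) {d e : G} (hdx : d • x = x) (hdy : d • y = y) (hex : e • x = x) (hey : e • y = y) :
    d * e = e * d := by
  obtain ⟨u, hu, hux⟩ := h.exists_swap hxy
  have h1 := h.inverts hxy hu hux hdx hdy
  have h2 := h.inverts hxy hu hux hex hey
  have h3 := h.inverts hxy hu hux (d := d * e) (by rw [mul_smul, hex, hdx]) (by rw [mul_smul, hey, hdy])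
  have h4 : u * (d * e) * u⁻¹ = (u * d * u⁻¹) * (u * e * u⁻¹) := by group
  rw [h1, h2, h3] at h4
  have h5 : (d * e)⁻¹ = (e * d)⁻¹ := by rw [h4, mul_inv_rev]
  exact inv_injective h5

/-- commutators in `H` -/
theorem CIT.comm_mem {y : G ⧸ H} (hy : (QuotientGroup.mk 1 : G ⧸ H) ≠ y) {g d : G} (hg : g ∈ H) (hd : d ∈ H) (hdy : d • y = y) :
    g * d * g⁻¹ * d⁻¹ ∈ T := by
  obtain ⟨t, ht, e, he, hey, rfl⟩ := h.factor hy hg
  have h1 := h.stab_comm hy (mem_iff_fix.mp he) hey (mem_iff_fix.mp hd) hdy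
  have h2 : t * e * d * (t * e)⁻¹ * d⁻¹ = t * (d * t * d⁻¹)⁻¹ := by
    calc t * e * d * (t * e)⁻¹ * d⁻¹ = t * (e * d) * e⁻¹ * t⁻¹ * d⁻¹ := by group
      _ = t * (d * t * d⁻¹)⁻¹ := by rw [h1]; group
  rw [h2]
  exact mul_mem ht (inv_mem (h.norm d hd t ht))

/-- an element of `H` inverting an element `d` which also fixes `y` forces `d = 1` -/
theorem CIT.inv_one {y : G ⧸ H} (hy : (QuotientGroup.mk 1 : G ⧸ H) ≠ y) {g d : G} (hg : g ∈ H) (hd : d ∈ H) (hdy : d • y = y)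
    (hgd : g * d * g⁻¹ = d⁻¹) : d = 1 := by
  have h1 := h.comm_mem hy hg hd hdy
  rw [hgd] at h1
  have hodd := h.se.odd_two (mem_iff_fix.mp hd) hdy hy
  have h2 : d⁻¹ * d⁻¹ = 1 := by
    by_contra hne
    apply hy
    symm
    apply h.T_fix h1 hne
    rw [mul_smul, inv_smul_eq_iff.mpr hdy.symm, inv_smul_eq_iff.mpr hdy.symm]
  have h3 : d * d = 1 := by
    have := congrArg (fun x => x⁻¹) h2
    simpa using this
  by_contra hne
  rw [invol_of h3 hne] at hodd
  exact absurd hodd (by decide)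

theorem CIT.fix_three_base {y z : G ⧸ H} (hy : (QuotientGroup.mk 1 : G ⧸ H) ≠ y) (hz : (QuotientGroup.mk 1 : G ⧸ H) ≠ z) (hyz : y ≠ z) {d : G}
    (hd : d ∈ H) (hdy : d • y = y) (hdz : d • z = z) : d = 1 := by
  obtain ⟨u, hu, hux⟩ := h.exists_swap hy
  obtain ⟨v, hv, hvx⟩ := h.exists_swap hyz
  obtain ⟨w, hw, hwx⟩ := h.exists_swap hz.symm
  have hd1 := mem_iff_fix.mp hd
  have i1 := h.inverts hy hu hux hd1 hdy
  have i2 := h.inverts hyz hv hvx hdy hdz
  have i3 := h.inverts hz.symm hw hwx hdz hd1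
  -- g = w v u : base → y → z → base
  apply h.inv_one hy (g := w * v * u) _ hd hdy
  · calc w * v * u * d * (w * v * u)⁻¹ = w * (v * (u * d * u⁻¹) * v⁻¹) * w⁻¹ := by group
      _ = w * (v * d * v⁻¹)⁻¹ * w⁻¹ := by rw [i1]; group
      _ = w * d * w⁻¹ := by rw [i2, inv_inv]
      _ = d⁻¹ := i3
  · rw [mem_iff_fix, mul_smul, mul_smul, hux, hvx, hwx]

theorem CIT.fix_three {x y z : G ⧸ H} (hxy : x ≠ y) (hxz : x ≠ z) (hyz : y ≠ z) {d : G}
    (hdx : d • x = x) (hdy : d • y = y) (hdz : d • z = z) : d = 1 := by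
  obtain ⟨g, rfl⟩ := QuotientGroup.mk_surjective x
  have hb : g⁻¹ • (QuotientGroup.mk g : G ⧸ H) = QuotientGroup.mk 1 := by
    rw [smul_mk, inv_mul_cancel]
  have h1 := h.fix_three_base (y := g⁻¹ • y) (z := g⁻¹ • z) (d := g⁻¹ * d * g)
    (by rw [← hb]; exact fun e => hxy (smul_left_cancel _ e)) (by rw [← hb]; exact fun e => hxz (smul_left_cancel _ e))
    (fun e => hyz (smul_left_cancel _ e)) (mk_fix.mp hdx)
    (by rw [mul_smul, mul_smul, smul_inv_smul, hdy]) (by rw [mul_smul, mul_smul, smul_inv_smul, hdz])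
  have : d = g * (g⁻¹ * d * g) * g⁻¹ := by group
  rw [this, h1]; group

/-- `T` is transitive on the remaining points -/
theorem CIT.T_trans {y z : G ⧸ H} (hy : (QuotientGroup.mk 1 : G ⧸ H) ≠ y) (hz : (QuotientGroup.mk 1 : G ⧸ H) ≠ z) : ∃ t ∈ T, t • y = z := by
  by_cases hyz : y = z
  · exact ⟨1, T.one_mem, by rw [one_smul, hyz]⟩
  -- a nontrivial element of the stabilizer
  obtain ⟨d, hd1, hdx, hdy⟩ : ∃ d : G, d ≠ 1 ∧ d • (QuotientGroup.mk 1 : G ⧸ H) = QuotientGroup.mk 1 ∧ d • y = y := by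
    have h1 := h.card_two
    rw [← h.card_stab hy] at h1
    haveI : Nontrivial {d : G // d • (QuotientGroup.mk 1 : G ⧸ H) = QuotientGroup.mk 1 ∧ d • y = y} := Finite.one_lt_card_iff_nontrivial.mp h1
    obtain ⟨⟨d, hd⟩, hne⟩ := exists_ne (⟨1, by rw [one_smul], by rw [one_smul]⟩ : {d : G // d • (QuotientGroup.mk 1 : G ⧸ H) = QuotientGroup.mk 1 ∧ d • y = y})
    exact ⟨d, fun e => hne (Subtype.ext e), hd⟩
  have hdH := mem_iff_fix.mpr hdx
  obtain ⟨t₁, ht₁, d₁, hd₁, hd₁z, hdd⟩ := h.factor hz hdH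
  -- the map t ↦ d⁻¹ t d t⁻¹ on T is injective, hence surjective
  let f : T → T := fun t => ⟨(d⁻¹ * t * d) * (t : G)⁻¹, mul_mem (by
    have := h.norm d⁻¹ (inv_mem hdH) t t.2
    rwa [inv_inv] at this) (inv_mem t.2)⟩
  have hf : Function.Injective f := by
    rintro ⟨s, hs⟩ ⟨t, ht⟩ hst
    have e1 : (d⁻¹ * s * d) * s⁻¹ = (d⁻¹ * t * d) * t⁻¹ := congrArg Subtype.val hst
    apply Subtype.ext
    change s = t
    by_contra hne
    have e2 : d⁻¹ * (t⁻¹ * s) * d = t⁻¹ * s := by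
      have e3 : d⁻¹ * (t⁻¹ * s) * d = (d⁻¹ * t * d)⁻¹ * (d⁻¹ * s * d) := by group
      have e4 : d⁻¹ * s * d = (d⁻¹ * t * d) * t⁻¹ * s := by rw [← e1]; group
      rw [e3, e4]; group
    have hm : t⁻¹ * s ∈ T := mul_mem (inv_mem ht) hs
    have h1 : t⁻¹ * s ≠ 1 := by
      intro e; exact hne (inv_mul_eq_one.mp e).symm
    have h2 : d ∈ T := by
      apply h.cent _ hm h1
      calc d * (t⁻¹ * s) = d * (d⁻¹ * (t⁻¹ * s) * d) := by rw [e2]
        _ = t⁻¹ * s * d := by group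
    exact hy (h.T_fix h2 hd1 hdy).symm
  have hfs : Function.Surjective f := Finite.injective_iff_surjective.mp hf
  -- d₁ = t₁⁻¹ d, and d⁻¹ d₁ ∈ T
  have hm : d⁻¹ * d₁ ∈ T := by
    have e : d⁻¹ * d₁ = (d⁻¹ * t₁ * d)⁻¹ := by
      have : d₁ = t₁⁻¹ * d := by rw [hdd]; group
      rw [this]; group
    rw [e]
    apply inv_mem
    have := h.norm d⁻¹ (inv_mem hdH) t₁ ht₁
    rwa [inv_inv] at this
  obtain ⟨⟨t, ht⟩, hft⟩ := hfs ⟨_, hm⟩
  have e1 : (d⁻¹ * t * d) * t⁻¹ = d⁻¹ * d₁ := congrArg Subtype.val hft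
  have e2 : t * d * t⁻¹ = d₁ := by
    calc t * d * t⁻¹ = d * ((d⁻¹ * t * d) * t⁻¹) := by group
      _ = d₁ := by rw [e1]; group
  refine ⟨t, ht, ?_⟩
  by_contra hne
  have hty : (QuotientGroup.mk 1 : G ⧸ H) ≠ t • y := by
    intro e
    apply hy
    have := congrArg (fun c => t⁻¹ • c) e
    simp only [inv_smul_smul] at this
    rw [← this, eq_comm, inv_smul_eq_iff]
    exact (mem_iff_fix.mp (h.TH ht)).symm
  have h3 := h.fix_three_base hty hz hne hd₁ (by rw [← e2, mul_smul, mul_smul, inv_smul_smul, hdy]) hd₁z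
  rw [h3] at e2
  apply hd1
  have : d = t⁻¹ * (t * d * t⁻¹) * t := by group
  rw [this, e2]; group

end

end Cfsg.Agent.H1
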